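/-
Unitary forms over finite fields: field lemmas, partners, exact chains of isotropic vectors.
-/
import Cfsg.Agent.Lib.ClassicalMax.UnitShort
set_option autoImplicit false
set_option linter.unusedSectionVars false

namespace CfsgLib.ClassicalMax.UnitTens

open Matrix Module Cfsg.Geo
open CfsgLib.ClassicalMax

variable {F : Type*} [Field F] {ι : Type} [Fintype ι] [DecidableEq ι]
  {σ : F ≃+* F} {f : (ι → F) → (ι → F) → F}

variable (hf : IsUnitaryForm σ f)
include hf

lemma sig_eq_zero {t : F} : σ t = 0 ↔ t = 0 :=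
  ⟨fun h => σ.injective (h.trans (map_zero σ).symm), fun h => by rw [h, map_zero]⟩

/-- An element whose square is not fixed. -/
lemma exists_sq_not_fixed [Finite F] : ∃ ω : F, ω ≠ 0 ∧ σ (ω * ω) ≠ ω * ω := by
  by_contra hcon
  push Not at hcon
  have hall : ∀ x : F, σ (x * x) = x * x := fun x => by
    rcases eq_or_ne x 0 with rfl | hx
    · simp
    · exact hcon x hx
  apply hf.ne_refl
  refine RingEquiv.ext fun x => ?_
  by_cases h2 : (2 : F) = 0
  · haveI : CharP F 2 := CharTwo.of_one_ne_zero_of_two_eq_zero one_ne_zero h2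
    obtain ⟨y, rfl⟩ := FiniteField.isSquare_of_char_two (ringChar.eq F 2) x
    exact hall y
  · have h := hall (x + 1)
    rw [map_mul, map_add, map_one] at h
    have h' := hall x
    rw [map_mul] at h'
    refine sub_eq_zero.1 ((mul_eq_zero.1 (?_ : (2 : F) * (σ x - x) = 0)).resolve_left h2)
    linear_combination h - h'

/-- Three distinct elements of norm one. -/
lemma exists_three_norm_one [Finite F] :
    ∃ η : F, η * σ η = 1 ∧ η ≠ 1 ∧ σ η ≠ 1 ∧ η ≠ σ η := by
  obtain ⟨ω, hω, hω2⟩ := exists_sq_not_fixed hf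
  have hs : σ ω ≠ 0 := fun e => hω ((sig_eq_zero hf).1 e)
  have hne : σ ω ≠ ω := fun e => hω2 (by rw [map_mul, e])
  refine ⟨ω / σ ω, ?_, ?_, ?_, ?_⟩
  · rw [map_div₀, hf.involutive]; field_simp
  · rw [Ne, div_eq_one_iff_eq hs]; exact Ne.symm hne
  · rw [map_div₀, hf.involutive, Ne, div_eq_one_iff_eq hω]; exact hne
  · rw [map_div₀, hf.involutive, Ne, div_eq_div_iff hs hω]
    intro e
    exact hω2 (by rw [map_mul, e])

/-- A trace condition at three points of a circle forces vanishing. -/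
lemma eq_zero_of_three {t₁ t₂ t₃ A B : F} (h₁ : t₁ ≠ t₂) (h₂ : t₁ ≠ t₃) (h₃ : t₂ ≠ t₃)
    (ht₁ : t₁ ≠ 0) (e₂ : t₂ * σ t₂ = t₁ * σ t₁) (e₃ : t₃ * σ t₃ = t₁ * σ t₁)
    (c₂ : σ t₁ * A + t₁ * B = σ t₂ * A + t₂ * B) (c₃ : σ t₁ * A + t₁ * B = σ t₃ * A + t₃ * B) :
    A = 0 := by
  by_contra hA
  have hN : t₁ * σ t₁ ≠ 0 := mul_ne_zero ht₁ fun e => ht₁ ((sig_eq_zero hf).1 e)
  have ht₂ : t₂ ≠ 0 := fun e => hN (by rw [← e₂, e, zero_mul])
  have ht₃ : t₃ ≠ 0 := fun e => hN (by rw [← e₃, e, zero_mul])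
  have s₂ : σ t₂ = t₁ * σ t₁ / t₂ := by rw [← e₂]; field_simp
  have s₃ : σ t₃ = t₁ * σ t₁ / t₃ := by rw [← e₃]; field_simp
  rw [s₂] at c₂
  rw [s₃] at c₃
  field_simp at c₂ c₃
  have d₂ : (t₂ - t₁) * (σ t₁ * A - t₂ * B) = 0 := by linear_combination c₂
  have d₃ : (t₃ - t₁) * (σ t₁ * A - t₃ * B) = 0 := by linear_combination c₃
  have f₂ := (mul_eq_zero.1 d₂).resolve_left (sub_ne_zero.2 (Ne.symm h₁))
  have f₃ := (mul_eq_zero.1 d₃).resolve_left (sub_ne_zero.2 (Ne.symm h₂))
  have hB : (t₃ - t₂) * B = 0 := by linear_combination f₂ - f₃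
  rw [(mul_eq_zero.1 hB).resolve_left (sub_ne_zero.2 (Ne.symm h₃)), mul_zero, sub_zero,
    mul_eq_zero, or_iff_right (fun e => ht₁ ((sig_eq_zero hf).1 e))] at f₂
  exact hA f₂

/-- A vector pairing to one with the given one. -/
lemma exists_pair_one {W : Submodule F (ι → F)} (hW : IsNondegenerateOn f W) {v : ι → F}
    (hv : v ∈ W) (hv0 : v ≠ 0) : ∃ x ∈ W, f x v = 1 := by
  obtain ⟨x, hx, hxv⟩ := (hW v hv hv0).1
  exact ⟨(f x v)⁻¹ • x, W.smul_mem _ hx, by rw [hf.smul_left, inv_mul_cancel₀ hxv]⟩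

/-- An isotropic partner of an isotropic vector. -/
lemma exists_partner {W : Submodule F (ι → F)} (hW : IsNondegenerateOn f W) {v : ι → F}
    (hv : v ∈ W) (hv0 : v ≠ 0) (hvv : f v v = 0) :
    ∃ v' ∈ W, f v' v' = 0 ∧ f v' v = 1 ∧ f v v' = 1 := by
  obtain ⟨x, hx, hxv⟩ := exists_pair_one hf hW hv hv0
  have hvx : f v x = 1 := by rw [hf.herm, hxv, map_one]
  obtain ⟨t, ht⟩ := Unit.exists_trace_eq hf (s := - f x x) (by rw [map_neg, Unit.self_fixed hf])
  refine ⟨x + t • v, W.add_mem hx (W.smul_mem _ hv), ?_, ?_, ?_⟩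
  · rw [hf.add_left, Unit.add_right hf, Unit.add_right hf, hf.smul_left, hf.smul_left,
      Unit.smul_right hf, Unit.smul_right hf, hxv, hvx, hvv]
    linear_combination ht
  · rw [hf.add_left, hf.smul_left, hxv, hvv, mul_zero, add_zero]
  · rw [Unit.add_right hf, Unit.smul_right hf, hvx, hvv, mul_zero, add_zero]

lemma nondeg_top : IsNondegenerateOn f (⊤ : Submodule F (ι → F)) := fun w _ hw =>
  ⟨let ⟨x, hx⟩ := (hf.nondegenerate w hw).1; ⟨x, trivial, hx⟩,
    let ⟨x, hx⟩ := (hf.nondegenerate w hw).2; ⟨x, trivial, hx⟩⟩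

lemma exists_form_sep [Finite F] {v w : ι → F} (hw : w ∉ Submodule.span F {v}) :
    ∃ y, f v y = 0 ∧ f w y = 1 := by
  obtain ⟨φ, hφ, hφm⟩ := Submodule.exists_dual_map_eq_bot_of_notMem hw inferInstance
  obtain ⟨y, hy⟩ := Unit.exists_form_eq hf φ
  refine ⟨σ (φ w)⁻¹ • y, ?_, ?_⟩
  · rw [Unit.smul_right hf, hy, (Submodule.mem_bot F).1
      (hφm ▸ Submodule.mem_map_of_mem (Submodule.mem_span_singleton_self v) : φ v ∈ (⊥ : Submodule F F)),
      mul_zero]
  · rw [Unit.smul_right hf, hy, hf.involutive, inv_mul_cancel₀ hφ]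

/-- The subspace orthogonal to a vector inside a subspace. -/
def perpIn (W : Submodule F (ι → F)) (a : ι → F) : Submodule F (ι → F) :=
  W ⊓ LinearMap.ker (Unit.formL hf a)

omit hf in
lemma mem_perpIn (hf : IsUnitaryForm σ f) {W : Submodule F (ι → F)} {a x : ι → F} :
    x ∈ perpIn hf W a ↔ x ∈ W ∧ f x a = 0 := Iff.rfl

lemma finrank_perpIn (W : Submodule F (ι → F)) (a : ι → F) :
    finrank F W ≤ finrank F (perpIn hf W a) + 1 := by
  have h := LinearMap.finrank_range_add_finrank_ker ((Unit.formL hf a).domRestrict W)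
  have h2 : finrank F (LinearMap.range ((Unit.formL hf a).domRestrict W)) ≤ 1 :=
    (Submodule.finrank_le _).trans (by rw [finrank_self])
  have hle : (LinearMap.ker ((Unit.formL hf a).domRestrict W)).map W.subtype ≤ perpIn hf W a := by
    rintro _ ⟨y, hy, rfl⟩
    exact ⟨y.2, hy⟩
  have h3 := Submodule.finrank_mono hle
  rw [Submodule.finrank_map_subtype_eq] at h3
  omega

lemma nondeg_perpIn {W : Submodule F (ι → F)} (hW : IsNondegenerateOn f W) {a : ι → F} (ha : a ∈ W)
    (haa : f a a ≠ 0) : IsNondegenerateOn f (perpIn hf W a) := by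
  intro w hw hw0
  rw [mem_perpIn] at hw
  obtain ⟨x, hx, hxw⟩ := (hW w hw.1 hw0).1
  have haw : f a w = 0 := Unit.eq_zero_comm hf hw.2
  have hm : x - (f x a / f a a) • a ∈ perpIn hf W a :=
    (mem_perpIn hf).2 ⟨W.sub_mem hx (W.smul_mem _ ha), by
      rw [Unit.sub_left hf, hf.smul_left, div_mul_cancel₀ _ haa, sub_self]⟩
  have hv : f (x - (f x a / f a a) • a) w ≠ 0 := by
    rw [Unit.sub_left hf, hf.smul_left, haw, mul_zero, sub_zero]; exact hxw
  exact ⟨⟨_, hm, hv⟩, ⟨_, hm, Unit.ne_zero_comm hf hv⟩⟩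

variable [Fintype F]

/-- One transvection step between isotropic vectors. -/
def Step (f : (ι → F) → (ι → F) → F) (W : Submodule F (ι → F)) (x y : ι → F) : Prop :=
  x ∈ W ∧ y ∈ W ∧ f x x = 0 ∧ f y y = 0 ∧ f x y + f y x = 0 ∧ f x y ≠ 0

/-- Isotropic vectors of a non-degenerate subspace are linked. -/
lemma exists_chain {W : Submodule F (ι → F)} (hW : IsNondegenerateOn f W) (hdim : 3 ≤ finrank F W)
    {a a' : ι → F} (ha : a ∈ W) (ha' : a' ∈ W) (ha0 : a ≠ 0) (ha'0 : a' ≠ 0) (haa : f a a = 0)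
    (ha'a' : f a' a' = 0) : Relation.ReflTransGen (Step f W) a a' := by
  obtain ⟨τ, hτ0, hτ⟩ := Unit.exists_trace_zero hf.ne_refl hf.involutive
  have key : ∀ {a a' : ι → F}, a ∈ W → a' ∈ W → f a a = 0 → f a' a' = 0 → a ≠ 0 →
      a' ∉ Submodule.span F {a} → ∃ z, Step f W a z ∧ Step f W z a' := by
    intro a a' ha ha' haa ha'a' ha0 hind
    have mk : ∀ z ∈ W, f z z = 0 → f a z = τ → f a' z = τ →
        ∃ z, Step f W a z ∧ Step f W z a' := fun z hz hzz h1 h2 =>
      ⟨z, ⟨ha, hz, haa, hzz, by rw [hf.herm z a, h1, hτ, add_neg_cancel], by rw [h1]; exact hτ0⟩,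
        ⟨hz, ha', hzz, ha'a', by rw [hf.herm z a', h2, hτ, neg_add_cancel],
          Unit.ne_zero_comm hf (by rw [h2]; exact hτ0)⟩⟩
    by_cases hc : f a a' = 0
    · obtain ⟨x, hxW, hxa, hxa'⟩ : ∃ z ∈ W, f a z = τ ∧ f a' z = τ := by
        obtain ⟨φ, hφ, hφm⟩ := Submodule.exists_dual_map_eq_bot_of_notMem hind inferInstance
        obtain ⟨y, hy⟩ := (hW a ha ha0).2
        obtain ⟨y₂, hy₂, hy₂'⟩ := Unit.exists_riesz hf hW (φ.comp W.subtype)
        have hya : f a y ≠ 0 := hy.2
        have h1 : f a y₂ = 0 := (hy₂' ⟨a, ha⟩).trans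
          ((Submodule.mem_bot F).1 (hφm ▸ Submodule.mem_map_of_mem (Submodule.mem_span_singleton_self a)))
        have h2 : f a' y₂ = φ a' := hy₂' ⟨a', ha'⟩
        set β := σ (τ / f a y)
        set γ := σ ((τ - τ / f a y * f a' y) / φ a')
        refine ⟨β • y + γ • y₂, W.add_mem (W.smul_mem _ hy.1) (W.smul_mem _ hy₂), ?_, ?_⟩
        · rw [Unit.add_right hf, Unit.smul_right hf, Unit.smul_right hf, h1, mul_zero, add_zero,
            hf.involutive, div_mul_cancel₀ _ hya]
        · rw [Unit.add_right hf, Unit.smul_right hf, Unit.smul_right hf, h2, hf.involutive,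
            hf.involutive, div_mul_cancel₀ _ hφ]
          ring
      obtain ⟨s, hs⟩ := Unit.exists_trace_eq hf (s := - f x x) (by rw [map_neg, Unit.self_fixed hf])
      refine mk (x + (s / τ) • a) (W.add_mem hxW (W.smul_mem _ ha)) ?_ ?_ ?_
      · rw [hf.add_left, Unit.add_right hf, Unit.add_right hf, hf.smul_left, hf.smul_left,
          Unit.smul_right hf, Unit.smul_right hf, hf.herm x a, hxa, haa, ← map_mul,
          div_mul_cancel₀ _ hτ0]
        linear_combination hs
      · rw [Unit.add_right hf, Unit.smul_right hf, hxa, haa, mul_zero, add_zero]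
      · rw [Unit.add_right hf, Unit.smul_right hf, hxa', Unit.eq_zero_comm hf hc, mul_zero,
          add_zero]
    · have hc' : f a' a ≠ 0 := Unit.ne_zero_comm hf hc
      set z₀ := σ (τ / f a' a) • a + σ (τ / f a a') • a'
      have h1 : f a z₀ = τ := by
        rw [Unit.add_right hf, Unit.smul_right hf, Unit.smul_right hf, haa, mul_zero, zero_add,
          hf.involutive, div_mul_cancel₀ _ hc]
      have h2 : f a' z₀ = τ := by
        rw [Unit.add_right hf, Unit.smul_right hf, Unit.smul_right hf, ha'a', mul_zero, add_zero,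
          hf.involutive, div_mul_cancel₀ _ hc']
      set K := perpIn hf (perpIn hf W a) a'
      have hKd : 1 ≤ finrank F K := by
        have := finrank_perpIn hf W a
        have := finrank_perpIn hf (perpIn hf W a) a'
        show 1 ≤ finrank F (perpIn hf (perpIn hf W a) a' : Submodule F (ι → F))
        omega
      have hKW : ∀ {x}, x ∈ K → x ∈ W ∧ f x a = 0 ∧ f x a' = 0 := fun {x} hx => by
        simp only [K, mem_perpIn] at hx
        exact ⟨hx.1.1, hx.1.2, hx.2⟩
      have hK : IsNondegenerateOn f K := by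
        intro w hw hw0
        obtain ⟨hwW, hwa, hwa'⟩ := hKW hw
        obtain ⟨x, hx, hxw⟩ := (hW w hwW hw0).1
        set p := x - (f x a' / f a a') • a - (f x a / f a' a) • a'
        have hp : p ∈ K := by
          simp only [K, mem_perpIn]
          refine ⟨⟨W.sub_mem (W.sub_mem hx (W.smul_mem _ ha)) (W.smul_mem _ ha'), ?_⟩, ?_⟩
          · rw [Unit.sub_left hf, Unit.sub_left hf, hf.smul_left, hf.smul_left, haa, mul_zero,
              sub_zero, div_mul_cancel₀ _ hc', sub_self]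
          · rw [Unit.sub_left hf, Unit.sub_left hf, hf.smul_left, hf.smul_left, ha'a', mul_zero,
              sub_zero, div_mul_cancel₀ _ hc, sub_self]
        have hv : f p w ≠ 0 := by
          rw [Unit.sub_left hf, Unit.sub_left hf, hf.smul_left, hf.smul_left,
            Unit.eq_zero_comm hf hwa, Unit.eq_zero_comm hf hwa', mul_zero, mul_zero, sub_zero,
            sub_zero]
          exact hxw
        exact ⟨⟨p, hp, hv⟩, ⟨p, hp, Unit.ne_zero_comm hf hv⟩⟩
      obtain ⟨k, hk, hkk⟩ := Unit.exists_value_in hf hK le_rfl (by omega) (s := - f z₀ z₀)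
        (by rw [map_neg, Unit.self_fixed hf])
      obtain ⟨hkW, hka, hka'⟩ := hKW hk
      have hzk : f z₀ k = 0 := by
        rw [hf.add_left, hf.smul_left, hf.smul_left, Unit.eq_zero_comm hf hka,
          Unit.eq_zero_comm hf hka', mul_zero, mul_zero, add_zero]
      refine mk (z₀ + k) (W.add_mem (W.add_mem (W.smul_mem _ ha) (W.smul_mem _ ha')) hkW) ?_ ?_ ?_
      · have hsum : ∀ p r : ι → F, f (p + r) (p + r) = f p p + f p r + f r p + f r r := fun p r => by
          rw [hf.add_left, Unit.add_right hf, Unit.add_right hf]; ring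
        rw [hsum z₀ k, hkk, hzk, Unit.eq_zero_comm hf hzk]
        ring
      · rw [Unit.add_right hf a z₀ k, h1, Unit.eq_zero_comm hf hka, add_zero]
      · rw [Unit.add_right hf a' z₀ k, h2, Unit.eq_zero_comm hf hka', add_zero]
  have two : ∀ {a a' : ι → F}, a ∈ W → a' ∈ W → f a a = 0 → f a' a' = 0 → a ≠ 0 →
      a' ∉ Submodule.span F {a} → Relation.ReflTransGen (Step f W) a a' :=
    fun ha ha' h h' h0 hi =>
      let ⟨z, h1, h2⟩ := key ha ha' h h' h0 hi
      (Relation.ReflTransGen.single h1).tail h2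
  by_cases hi : a' ∈ Submodule.span F {a}
  · obtain ⟨w, hw, hww, hwa, -⟩ := exists_partner hf hW ha ha0 haa
    have hni : ∀ {x : ι → F}, x ∈ Submodule.span F {a} → f x a = 0 := fun {x} hx => by
      obtain ⟨t, rfl⟩ := Submodule.mem_span_singleton.1 hx
      rw [hf.smul_left, haa, mul_zero]
    have h1 : w ∉ Submodule.span F {a} := fun h => one_ne_zero (α := F) (hwa ▸ hni h)
    have hw0 : w ≠ 0 := fun h => h1 (by rw [h]; exact Submodule.zero_mem _)
    refine (two ha hw haa hww ha0 h1).trans (two hw ha' hww ha'a' hw0 fun h => ?_)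
    obtain ⟨t, ht⟩ := Submodule.mem_span_singleton.1 h
    have h2 := hni hi
    rw [← ht, hf.smul_left, hwa, mul_one] at h2
    exact ha'0 (by rw [← ht, h2, zero_smul])
  · exact two ha ha' haa ha'a' ha0 hi

variable [DecidableEq F]

omit [Fintype F] in
lemma tvGroup_mono {W W' : Submodule F (ι → F)} (h : W ≤ W') :
    Unit.tvGroup hf W ≤ Unit.tvGroup hf W' :=
  Subgroup.closure_mono (by rintro _ ⟨v, c, hv, hvv, hc, rfl⟩; exact ⟨v, c, h hv, hvv, hc, rfl⟩)

/-- Transvections are transitive on isotropic vectors of a space of dimension at least three. -/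
lemma exists_tvGroup_iso {W : Submodule F (ι → F)} (hW : IsNondegenerateOn f W)
    (hdim : 3 ≤ finrank F W) {a a' : ι → F} (ha : a ∈ W) (ha' : a' ∈ W) (ha0 : a ≠ 0)
    (ha'0 : a' ≠ 0) (haa : f a a = 0) (ha'a' : f a' a' = 0) :
    ∃ g ∈ Unit.tvGroup hf W, (g : Matrix ι ι F) *ᵥ a = a' := by
  have h := exists_chain hf hW hdim ha ha' ha0 ha'0 haa ha'a'
  clear ha' ha'0 ha'a'
  induction h with
  | refl => exact ⟨1, one_mem _, by simp⟩
  | @tail x y _ hxy ih =>
    obtain ⟨g, hg, hgx⟩ := ih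
    obtain ⟨hx, hy, hxx, hyy, htr, hne⟩ := hxy
    obtain ⟨t, ht, hte⟩ := Unit.exists_uTv_mulVec hf hx hy (hxx.trans hyy.symm)
      (by rw [Unit.sub_left hf, Unit.sub_right hf, Unit.sub_right hf, hxx, hyy]
          linear_combination -htr)
      (by rw [Unit.sub_right hf, hxx, sub_zero]; exact hne)
    exact ⟨t * g, mul_mem ht hg, by rw [gl_mulVec_mul, hgx, hte]⟩

/-- Transvections are transitive on isotropic points. -/
lemma exists_tvGroup_point {u u' : ι → F} (hu0 : u ≠ 0) (hu'0 : u' ≠ 0) (hu : f u u = 0)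
    (hu' : f u' u' = 0) :
    ∃ g ∈ Unit.tvGroup hf (⊤ : Submodule F (ι → F)), ∃ l : F,
      l ≠ 0 ∧ (g : Matrix ι ι F) *ᵥ u = l • u' := by
  by_cases hs : u' ∈ Submodule.span F {u}
  · obtain ⟨t, rfl⟩ := Submodule.mem_span_singleton.1 hs
    have ht : t ≠ 0 := fun e => hu'0 (by rw [e, zero_smul])
    exact ⟨1, one_mem _, t⁻¹, inv_ne_zero ht, by rw [Units.val_one, one_mulVec, inv_smul_smul₀ ht]⟩
  by_cases hc : f u u' = 0
  · have hts : IsTotallySingularFor f (Submodule.span F ({u, u'} : Set (ι → F))) := by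
      intro x hx y hy
      obtain ⟨α, β, rfl⟩ := Submodule.mem_span_pair.1 hx
      obtain ⟨γ, δ, rfl⟩ := Submodule.mem_span_pair.1 hy
      simp [hf.add_left, Unit.add_right hf, hf.smul_left, Unit.smul_right hf, hu, hu', hc,
        Unit.eq_zero_comm hf hc]
    have h2 : 2 ≤ finrank F (Submodule.span F ({u, u'} : Set (ι → F))) := by
      have hlt : Submodule.span F {u} < Submodule.span F ({u, u'} : Set (ι → F)) :=
        lt_of_le_of_ne (Submodule.span_mono (by simp)) fun e =>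
          hs (e ▸ Submodule.subset_span (Set.mem_insert_of_mem u rfl))
      have := Submodule.finrank_lt_finrank_of_lt hlt
      rw [finrank_span_singleton hu0] at this
      omega
    have h4 := Unit.two_mul_finrank_le hf hts
    obtain ⟨g, hg, hgu⟩ := exists_tvGroup_iso hf (nondeg_top hf)
      (by rw [finrank_top, finrank_fintype_fun_eq_card]; omega) Submodule.mem_top Submodule.mem_top
      hu0 hu'0 hu hu'
    exact ⟨g, hg, 1, one_ne_zero, by rw [hgu, one_smul]⟩
  · obtain ⟨τ, hτ0, hτ⟩ := Unit.exists_trace_zero hf.ne_refl hf.involutive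
    have hl : σ (τ / f u u') ≠ 0 := fun e =>
      div_ne_zero hτ0 hc ((sig_eq_zero hf).1 e)
    have hfl : f u (σ (τ / f u u') • u') = τ := by
      rw [Unit.smul_right hf, hf.involutive, div_mul_cancel₀ _ hc]
    have hll : f (σ (τ / f u u') • u') (σ (τ / f u u') • u') = 0 := by
      rw [hf.smul_left, Unit.smul_right hf, hu', mul_zero, mul_zero]
    obtain ⟨t, ht, hte⟩ := Unit.exists_uTv_mulVec hf (W := ⊤) (Submodule.mem_top (x := u))
      Submodule.mem_top (hu.trans hll.symm)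
      (by rw [Unit.sub_left hf, Unit.sub_right hf, Unit.sub_right hf, hfl, hf.herm _ u, hfl, hτ, hu,
            hll]
          ring)
      (by rw [Unit.sub_right hf, hfl, hu, sub_zero]; exact hτ0)
    exact ⟨t, ht, _, hl, hte⟩

/-- The group of transvections consists of special isometries. -/
lemma tvGroup_mem {W : Submodule F (ι → F)} {g : GL ι F} (hg : g ∈ Unit.tvGroup hf W) :
    g ∈ Unit.isoOf f ∧ Matrix.det (g : Matrix ι ι F) = 1 := by
  have h := Unit.tvGroup_le_iso hf W hg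
  refine ⟨h.1, ?_⟩
  have := h.2
  simpa [specialLinear, MonoidHom.mem_ker, Units.ext_iff] using this

end CfsgLib.ClassicalMax.UnitTens
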