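/-
Tensor products of two unitary forms: contractions, pairings and root elements of the factors.
-/
import Cfsg.Agent.Lib.ClassicalMax.UnitTens.Tools
import Cfsg.Agent.Lib.ClassicalMax.TensorSympBase
import Cfsg.Agent.Lib.ClassicalMax.TensorSL
set_option autoImplicit false
set_option linter.unusedSectionVars false

namespace CfsgLib.ClassicalMax.UnitTens

open Matrix Kronecker Module Cfsg.Geo
open CfsgLib.ClassicalMax
open CfsgLib.ClassicalMax.Kron
open CfsgLib.ClassicalMax.TensorSymp (ptL ptL_apply pt_neg_left pt_neg_right pt_sub_left)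

variable {F : Type*} [Field F] {a b : ℕ}

/-- Contraction against a vector of the second factor. -/
def cv [DecidableEq F] (f₂ : (Fin b → F) → (Fin b → F) → F) (v : Fin b → F) :
    (Fin a × Fin b → F) →ₗ[F] (Fin a → F) := con fun j => f₂ (Pi.single j 1) v

/-- Contraction against a vector of the first factor. -/
def lcv [DecidableEq F] (f₁ : (Fin a → F) → (Fin a → F) → F) (u : Fin a → F) :
    (Fin a × Fin b → F) →ₗ[F] (Fin b → F) := TensorSL.lcon fun i => f₁ (Pi.single i 1) u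

/-- Unitary forms on the factors and on the product. -/
structure Pair (σ : F ≃+* F) (f : (Fin a × Fin b → F) → (Fin a × Fin b → F) → F)
    (f₁ : (Fin a → F) → (Fin a → F) → F) (f₂ : (Fin b → F) → (Fin b → F) → F) : Prop where
  hf : IsUnitaryForm σ f
  hf₁ : IsUnitaryForm σ f₁
  hf₂ : IsUnitaryForm σ f₂
  form_pt : ∀ x x' w w', f (pt x w) (pt x' w') = f₁ x x' * f₂ w w'
  two_le : 2 ≤ a
  lt : a < b
  five_le : 4 ≤ b

variable [DecidableEq F] {σ : F ≃+* F} {f : (Fin a × Fin b → F) → (Fin a × Fin b → F) → F}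
  {f₁ : (Fin a → F) → (Fin a → F) → F} {f₂ : (Fin b → F) → (Fin b → F) → F}

/-- The action of an element on a vector. -/
local notation:80 g:81 " •ᵥ " z:80 => Matrix.mulVec (Units.val g) z

variable (P : Pair σ f f₁ f₂)
include P

lemma cv_pt (v : Fin b → F) (x : Fin a → F) (w : Fin b → F) : cv f₂ v (pt x w) = f₂ w v • x := by
  rw [cv, con_pt]
  congr 1
  exact Unit.formDual_dot P.hf₂ v w

lemma lcv_pt (u x : Fin a → F) (w : Fin b → F) : lcv f₁ u (pt x w) = f₁ x u • w := by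
  rw [lcv, TensorSL.lcon_pt]
  congr 1
  exact Unit.formDual_dot P.hf₁ u x

lemma cv_pt_self {v : Fin b → F} (hv : f₂ v v = 0) (x : Fin a → F) : cv f₂ v (pt x v) = 0 := by
  rw [cv_pt P, hv, zero_smul]

lemma cv_add_vec (v w : Fin b → F) (z : Fin a × Fin b → F) :
    cv f₂ (v + w) z = cv f₂ v z + cv f₂ w z := by
  have := linear_ext (f := cv (a := a) f₂ (v + w)) (g := cv f₂ v + cv f₂ w) fun x y => by
    simp [cv_pt P, Unit.add_right P.hf₂, add_smul]
  exact LinearMap.congr_fun this z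

lemma cv_smul_vec (c : F) (v : Fin b → F) (z : Fin a × Fin b → F) :
    cv f₂ (c • v) z = σ c • cv f₂ v z := by
  have := linear_ext (f := cv (a := a) f₂ (c • v)) (g := σ c • cv f₂ v) fun x y => by
    simp [cv_pt P, Unit.smul_right P.hf₂, mul_smul]
  exact LinearMap.congr_fun this z

lemma cv_apply (v : Fin b → F) (z : Fin a × Fin b → F) (i : Fin a) :
    cv f₂ v z i = f₂ (fun j => z (i, j)) v := by
  simp only [cv, con, LinearMap.coe_mk, AddHom.coe_mk]
  exact Unit.formDual_dot P.hf₂ v _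

lemma form_ptv (z : Fin a × Fin b → F) (x : Fin a → F) (v : Fin b → F) :
    f z (pt x v) = f₁ (cv f₂ v z) x := by
  have h := linear_ext (f := Unit.formL P.hf (pt x v))
    (g := (Unit.formL P.hf₁ x).comp (cv f₂ v)) fun u w => by
      simp only [Unit.formL_apply, LinearMap.comp_apply, cv_pt P, P.form_pt, P.hf₁.smul_left]
      ring
  simpa using LinearMap.congr_fun h z

lemma form_ptv' (z : Fin a × Fin b → F) (x : Fin a → F) (v : Fin b → F) :
    f z (pt x v) = f₂ (lcv f₁ x z) v := by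
  have h := linear_ext (f := Unit.formL P.hf (pt x v))
    (g := (Unit.formL P.hf₂ v).comp (lcv f₁ x)) fun u w => by
      simp only [Unit.formL_apply, LinearMap.comp_apply, lcv_pt P, P.form_pt, P.hf₂.smul_left]
  simpa using LinearMap.congr_fun h z

omit P in
/-- Two vectors with equal pairings are equal. -/
lemma form_ext {κ : Type} [Fintype κ] [DecidableEq κ] {g : (κ → F) → (κ → F) → F}
    (hg : IsUnitaryForm σ g) {s t : κ → F} (h : ∀ x, g s x = g t x) : s = t := by
  by_contra hne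
  obtain ⟨x, hx⟩ := (hg.nondegenerate _ (sub_ne_zero.2 hne)).2
  exact hx (by rw [Unit.sub_left hg, h, sub_self])

/-- A tensor with vanishing contractions against `v⊥` lies on the line. -/
lemma eq_ptv {v v' : Fin b → F} (hvv' : f₂ v v' = 1) {z : Fin a × Fin b → F}
    (h : ∀ y, f₂ v y = 0 → cv f₂ y z = 0) : z = pt (cv f₂ v' z) v := by
  funext s
  have hrow : (fun j => z (s.1, j)) = f₂ (fun j => z (s.1, j)) v' • v := by
    refine form_ext P.hf₂ fun y => ?_
    set r := fun j => z (s.1, j)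
    have hy0 : f₂ v (y - σ (f₂ v y) • v') = 0 := by
      rw [Unit.sub_right P.hf₂, Unit.smul_right P.hf₂, P.hf₂.involutive, hvv', mul_one, sub_self]
    have h1 := congrFun (h _ hy0) s.1
    rw [cv_apply P, Unit.sub_right P.hf₂, Unit.smul_right P.hf₂, P.hf₂.involutive, Pi.zero_apply] at h1
    rw [P.hf₂.smul_left]
    linear_combination h1
  have := congrFun hrow s.2
  simpa [pt, cv_apply P] using this

lemma rows_orth {v : Fin b → F} {z : Fin a × Fin b → F} (h : cv f₂ v z = 0) (i : Fin a) :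
    f₂ (fun j => z (i, j)) v = 0 := by
  rw [← cv_apply P, h]; rfl

/-- An element preserving the form on pure tensors is an isometry. -/
lemma iso_of_pt {g : GL (Fin a × Fin b) F}
    (hg : ∀ x w x' w', f (g •ᵥ pt x w) (g •ᵥ pt x' w') = f (pt x w) (pt x' w')) :
    g ∈ Unit.isoOf f := by
  intro z z'
  show f (g •ᵥ z) (g •ᵥ z') = f z z'
  have h1 : ∀ x' w' z, f (g •ᵥ z) (g •ᵥ pt x' w') = f z (pt x' w') := by
    intro x' w' z
    have := linear_ext (f := (Unit.formL P.hf (g •ᵥ pt x' w')).comp (Matrix.toLin' g.val))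
      (g := Unit.formL P.hf (pt x' w')) fun x w => by
        simp [Matrix.toLin'_apply, hg]
    simpa [Matrix.toLin'_apply] using LinearMap.congr_fun this z
  have := linear_ext (f := (Unit.formL P.hf (g •ᵥ z)).comp (Matrix.toLin' g.val))
    (g := Unit.formL P.hf z) fun x w => by
      simp only [LinearMap.comp_apply, Matrix.toLin'_apply, Unit.formL_apply]
      rw [P.hf.herm, h1, ← P.hf.herm]
  have h2 := LinearMap.congr_fun this z'
  simp only [LinearMap.comp_apply, Matrix.toLin'_apply, Unit.formL_apply] at h2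
  rw [P.hf.herm, h2, ← P.hf.herm]

lemma kron_mem_iso {A : GL (Fin a) F} {B : GL (Fin b) F} (hA : A ∈ Unit.isoOf f₁)
    (hB : B ∈ Unit.isoOf f₂) : kronGL A B ∈ Unit.isoOf f :=
  iso_of_pt P fun x w x' w' => by
    rw [kronGL_pt, kronGL_pt, P.form_pt, P.form_pt, Unit.mem_isoOf.1 hA, Unit.mem_isoOf.1 hB]

lemma exists_vec : (∃ x : Fin a → F, x ≠ 0) ∧ ∃ w : Fin b → F, w ≠ 0 := by
  have := P.two_le; have := P.five_le
  exact ⟨⟨Pi.single ⟨0, by omega⟩ 1, fun h => one_ne_zero (α := F) (by simpa using congrFun h ⟨0, by omega⟩)⟩,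
    ⟨Pi.single ⟨0, by omega⟩ 1, fun h => one_ne_zero (α := F) (by simpa using congrFun h ⟨0, by omega⟩)⟩⟩

lemma exists_unit_pair : ∃ x x', f₁ x x' = 1 := by
  obtain ⟨⟨x, hx⟩, -⟩ := exists_vec P
  obtain ⟨y, -, hy⟩ := exists_pair_one P.hf₁ (nondeg_top P.hf₁) (Submodule.mem_top (x := x)) hx
  exact ⟨y, x, hy⟩

lemma slHyp : TensorSL.Hyp (M := specialLinear (Fin a × Fin b) F) := by
  refine ⟨P.two_le, P.lt, fun g hg => ?_, fun A B h => ?_⟩
  · simpa [specialLinear, MonoidHom.mem_ker, Units.ext_iff] using hg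
  · simpa [specialLinear, MonoidHom.mem_ker, Units.ext_iff] using h

omit P

/-- A subgroup of the special unitary group containing the tensors in it. -/
structure Hyp (σ : F ≃+* F) (f : (Fin a × Fin b → F) → (Fin a × Fin b → F) → F)
    (f₁ : (Fin a → F) → (Fin a → F) → F) (f₂ : (Fin b → F) → (Fin b → F) → F)
    (M : Subgroup (GL (Fin a × Fin b) F)) : Prop where
  pair : Pair σ f f₁ f₂
  iso : ∀ g ∈ M, ∀ z z', f (g •ᵥ z) (g •ᵥ z') = f z z'
  det : ∀ g ∈ M, Matrix.det (g : Matrix (Fin a × Fin b) (Fin a × Fin b) F) = 1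
  mem : ∀ A B, kronGL A B ∈ Unit.isoOf f →
    Matrix.det (kronGL A B : Matrix (Fin a × Fin b) (Fin a × Fin b) F) = 1 → kronGL A B ∈ M

/-- The root element `x ↦ x + f(x,v) y - f(x,y) v + d f(x,v) v`. -/
def eich (hf : IsUnitaryForm σ f₂) (v y : Fin b → F) (c d : F) : GL (Fin b) F :=
  Unit.ush hf v y c * Unit.uTv hf v d

variable {M : Subgroup (GL (Fin a × Fin b) F)} (H : Hyp σ f f₁ f₂ M)
include H

lemma memW {B : GL (Fin b) F} (hB : B ∈ Unit.isoOf f₂)
    (hd : Matrix.det (B : Matrix (Fin b) (Fin b) F) = 1) : kronGL (1 : GL (Fin a) F) B ∈ M :=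
  H.mem _ _ (kron_mem_iso H.pair (one_mem _) hB) (by rw [det_kronGL, hd]; simp)

lemma memU {A : GL (Fin a) F} (hA : A ∈ Unit.isoOf f₁)
    (hd : Matrix.det (A : Matrix (Fin a) (Fin a) F) = 1) : kronGL A (1 : GL (Fin b) F) ∈ M :=
  H.mem _ _ (kron_mem_iso H.pair hA (one_mem _)) (by rw [det_kronGL, hd]; simp)

omit H in
lemma det_of_sl {k : ℕ} {g : GL (Fin k) F} (hg : g ∈ specialLinear (Fin k) F) :
    Matrix.det (g : Matrix (Fin k) (Fin k) F) = 1 := by
  simpa [specialLinear, MonoidHom.mem_ker, Units.ext_iff] using hg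

lemma memTv {v : Fin b → F} (hv : f₂ v v = 0) {c : F} (hc : σ c = -c) :
    kronGL (1 : GL (Fin a) F) (Unit.uTv H.pair.hf₂ v c) ∈ M :=
  memW H (Unit.uTv_mem_isoOf H.pair.hf₂ hv hc) (det_of_sl (Unit.uTv_mem_sl _ _ _))

omit H in
lemma eich_mulVec (hf : IsUnitaryForm σ f₂) {v y : Fin b → F} (hv : f₂ v v = 0) (hvy : f₂ v y = 0)
    (c d : F) (x : Fin b → F) :
    (eich hf v y c d : Matrix (Fin b) (Fin b) F) *ᵥ x =
      x + (c * f₂ x v) • y + (d * f₂ x v - σ c * f₂ x y) • v := by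
  rw [eich, gl_mulVec_mul, Unit.uTv_mulVec hf hv, Unit.ush_mulVec hf hv hvy, hf.add_left,
    hf.smul_left, hv, hf.add_left, hf.smul_left, hvy]
  module

lemma memEich {v y : Fin b → F} (hv : f₂ v v = 0) (hvy : f₂ v y = 0) {c d : F}
    (hd : d + σ d = -(c * σ c * f₂ y y)) :
    kronGL (1 : GL (Fin a) F) (eich H.pair.hf₂ v y c d) ∈ M := by
  have hf := H.pair.hf₂
  refine memW H ?_ (det_of_sl (mul_mem (Unit.ush_mem_sl _ _ _ _) (Unit.uTv_mem_sl _ _ _)))
  intro x x'
  show f₂ ((eich hf v y c d).val *ᵥ x) ((eich hf v y c d).val *ᵥ x') = f₂ x x'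
  rw [eich_mulVec hf hv hvy, eich_mulVec hf hv hvy]
  simp only [Unit.sub_left hf, hf.add_left, Unit.add_right hf, hf.smul_left, Unit.smul_right hf,
    map_sub, map_mul, hv, hvy, Unit.eq_zero_comm hf hvy, hf.involutive, ← hf.herm v x',
    ← hf.herm y x']
  linear_combination (f₂ x v * f₂ v x') * hd

lemma root_act {v : Fin b → F} (hv : f₂ v v = 0) (c : F) (z : Fin a × Fin b → F) :
    kronGL (1 : GL (Fin a) F) (Unit.uTv H.pair.hf₂ v c) •ᵥ z = z + pt (c • cv f₂ v z) v := by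
  have := linear_ext (f := Matrix.toLin' (kronGL (1 : GL (Fin a) F) (Unit.uTv H.pair.hf₂ v c)).val)
    (g := LinearMap.id + (ptR v).comp (c • cv f₂ v)) fun x w => by
      simp [Matrix.toLin'_apply, kronGL_pt, Unit.uTv_mulVec H.pair.hf₂ hv, pt_add_right, cv_pt H.pair,
        pt_smul_left, pt_smul_right, smul_smul]
  exact LinearMap.congr_fun this z

lemma eich_act {v y : Fin b → F} (hv : f₂ v v = 0) (hvy : f₂ v y = 0) (c d : F)
    (z : Fin a × Fin b → F) :
    kronGL (1 : GL (Fin a) F) (eich H.pair.hf₂ v y c d) •ᵥ z =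
      z + pt (c • cv f₂ v z) y + pt (d • cv f₂ v z - σ c • cv f₂ y z) v := by
  have := linear_ext (f := Matrix.toLin' (kronGL (1 : GL (Fin a) F) (eich H.pair.hf₂ v y c d)).val)
    (g := LinearMap.id + (ptR y).comp (c • cv f₂ v) + (ptR v).comp (d • cv f₂ v - σ c • cv f₂ y))
    fun u w => by
      simp [Matrix.toLin'_apply, kronGL_pt, eich_mulVec H.pair.hf₂ hv hvy, pt_add_right, cv_pt H.pair,
        pt_smul_left, pt_smul_right, pt_sub_left, pt_sub_right, smul_smul, sub_smul]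
  exact LinearMap.congr_fun this z

lemma cv_kron_one {B : GL (Fin b) F} (hB : B ∈ Unit.isoOf f₂) (v : Fin b → F)
    (z : Fin a × Fin b → F) :
    cv f₂ (B •ᵥ v) (kronGL (1 : GL (Fin a) F) B •ᵥ z) = cv f₂ v z := by
  have := linear_ext
    (f := (cv f₂ (B •ᵥ v)).comp (Matrix.toLin' (kronGL (1 : GL (Fin a) F) B).val))
    (g := cv f₂ v) fun x w => by
      simp only [LinearMap.comp_apply, Matrix.toLin'_apply, kronGL_pt, cv_pt H.pair, Units.val_one,
        one_mulVec]
      rw [(Unit.mem_isoOf.1 hB) w v]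
  simpa [Matrix.toLin'_apply] using LinearMap.congr_fun this z

lemma cv_kron_left (A : GL (Fin a) F) (v : Fin b → F) (z : Fin a × Fin b → F) :
    cv f₂ v (kronGL A (1 : GL (Fin b) F) •ᵥ z) = A •ᵥ cv f₂ v z := by
  have := linear_ext
    (f := (cv f₂ v).comp (Matrix.toLin' (kronGL A (1 : GL (Fin b) F)).val))
    (g := (Matrix.toLin' (A : Matrix (Fin a) (Fin a) F)).comp (cv f₂ v)) fun x w => by
      simp only [LinearMap.comp_apply, Matrix.toLin'_apply, kronGL_pt, cv_pt H.pair, Units.val_one,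
        one_mulVec, mulVec_smul]
  simpa [Matrix.toLin'_apply] using LinearMap.congr_fun this z

variable [Fintype F]

/-- An exact isometry between isotropic vectors of the second factor. -/
lemma exists_W_map {v w : Fin b → F} (hv0 : v ≠ 0) (hw0 : w ≠ 0) (hv : f₂ v v = 0)
    (hw : f₂ w w = 0) :
    ∃ B : GL (Fin b) F, B ∈ Unit.isoOf f₂ ∧ kronGL (1 : GL (Fin a) F) B ∈ M ∧ B •ᵥ v = w := by
  have hf := H.pair.hf₂
  obtain ⟨g, hg, hgv⟩ := exists_tvGroup_iso hf (nondeg_top hf)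
    (by rw [finrank_top, finrank_fin_fun]; have := H.pair.five_le; omega)
    (Submodule.mem_top (x := v)) Submodule.mem_top hv0 hw0 hv hw
  obtain ⟨h1, h2⟩ := tvGroup_mem hf hg
  exact ⟨g, h1, memW H h1 h2, hgv⟩

/-- An isometry between isotropic points of the first factor. -/
lemma exists_U_map {u u' : Fin a → F} (hu0 : u ≠ 0) (hu'0 : u' ≠ 0) (hu : f₁ u u = 0)
    (hu' : f₁ u' u' = 0) :
    ∃ A : GL (Fin a) F, ∃ l : F, l ≠ 0 ∧ A ∈ Unit.isoOf f₁ ∧ kronGL A (1 : GL (Fin b) F) ∈ M ∧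
      A •ᵥ u = l • u' := by
  have hf := H.pair.hf₁
  obtain ⟨g, hg, l, hl, hgv⟩ := exists_tvGroup_point hf hu0 hu'0 hu hu'
  obtain ⟨h1, h2⟩ := tvGroup_mem hf hg
  exact ⟨g, l, hl, h1, memU H h1 h2, hgv⟩

/-- An isotropic vector orthogonal to a kernel of dimension at least two. -/
lemma exists_iso_dual {L : Submodule F (Fin b → F)} (hL : 2 ≤ finrank F L) :
    ∃ y, y ≠ 0 ∧ f₂ y y = 0 ∧ y ∈ L :=
  let ⟨y, hy, hy0, hyy⟩ := Unit.exists_isotropic_mem H.pair.hf₂ hL
  ⟨y, hy0, hyy, hy⟩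

end CfsgLib.ClassicalMax.UnitTens
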