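/-
Isotropic frames of a unitary space, their quadratic unipotents, and singular members of linear
families of skew-hermitian matrices (Chevalley and Warning).
-/
import Cfsg.Agent.Lib.ClassicalMax.UnitTens.Tools
import Cfsg.Agent.Lib.ClassicalMax.KronTools
import Mathlib.FieldTheory.ChevalleyWarning
set_option autoImplicit false
set_option linter.unusedSectionVars false

namespace CfsgLib.ClassicalMax.UnitTens

open Matrix Module Cfsg.Geo
open CfsgLib.ClassicalMax

variable {F : Type*} [Field F] [DecidableEq F] [Fintype F] {σ : F ≃+* F}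

section Frame

variable {ι : Type} [Fintype ι] [DecidableEq ι] {f : (ι → F) → (ι → F) → F}
  (hf : IsUnitaryForm σ f)
include hf

/-- An isotropic frame with a prescribed first vector. -/
lemma exists_frame : ∀ (k : ℕ) (W : Submodule F (ι → F)) (v : ι → F), IsNondegenerateOn f W →
    v ∈ W → v ≠ 0 → f v v = 0 → 2 * (k + 1) ≤ finrank F W →
    ∃ s t : Fin (k + 1) → ι → F, s 0 = v ∧ (∀ i, s i ∈ W ∧ t i ∈ W) ∧ (∀ i j, f (s i) (s j) = 0) ∧
      ∀ i j, f (t i) (s j) = if i = j then 1 else 0 := by
  intro k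
  induction k with
  | zero =>
    intro W v hW hv hv0 hvv _
    obtain ⟨v', hv', -, hv'v, -⟩ := exists_partner hf hW hv hv0 hvv
    refine ⟨fun _ => v, fun _ => v', rfl, fun _ => ⟨hv, hv'⟩, fun _ _ => hvv, fun i j => ?_⟩
    rw [if_pos (Fin.ext (by omega)), hv'v]
  | succ k ih =>
    intro W v hW hv hv0 hvv hdim
    obtain ⟨v', hv', hv'v', hv'v, hvv'⟩ := exists_partner hf hW hv hv0 hvv
    set K := perpIn hf (perpIn hf W v) v'
    have hKW : ∀ {x}, x ∈ K → x ∈ W ∧ f x v = 0 ∧ f x v' = 0 := fun {x} hx => by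
      simp only [K, mem_perpIn] at hx
      exact ⟨hx.1.1, hx.1.2, hx.2⟩
    have hKd : 2 * (k + 1) ≤ finrank F K := by
      have := finrank_perpIn hf W v
      have := finrank_perpIn hf (perpIn hf W v) v'
      show _ ≤ finrank F (perpIn hf (perpIn hf W v) v' : Submodule F (ι → F))
      omega
    have hK : IsNondegenerateOn f K := by
      intro w hw hw0
      obtain ⟨hwW, hwv, hwv'⟩ := hKW hw
      obtain ⟨x, hx, hxw⟩ := (hW w hwW hw0).1
      set p := x - f x v' • v - f x v • v'
      have hp : p ∈ K := by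
        simp only [K, mem_perpIn]
        refine ⟨⟨W.sub_mem (W.sub_mem hx (W.smul_mem _ hv)) (W.smul_mem _ hv'), ?_⟩, ?_⟩
        · rw [Unit.sub_left hf, Unit.sub_left hf, hf.smul_left, hf.smul_left, hvv, hv'v]; ring
        · rw [Unit.sub_left hf, Unit.sub_left hf, hf.smul_left, hf.smul_left, hv'v', hvv']; ring
      have hpw : f p w ≠ 0 := by
        rw [Unit.sub_left hf, Unit.sub_left hf, hf.smul_left, hf.smul_left,
          Unit.eq_zero_comm hf hwv, Unit.eq_zero_comm hf hwv', mul_zero, mul_zero, sub_zero, sub_zero]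
        exact hxw
      exact ⟨⟨p, hp, hpw⟩, ⟨p, hp, Unit.ne_zero_comm hf hpw⟩⟩
    obtain ⟨u, hu, hu0, huu⟩ := Unit.exists_isotropic_mem hf (W := K) (by omega)
    obtain ⟨s, t, hs0, hmem, hss, hts⟩ := ih K u hK hu hu0 huu hKd
    refine ⟨Fin.cons v s, Fin.cons v' t, rfl, Fin.cases ?_ ?_, Fin.cases ?_ ?_, Fin.cases ?_ ?_⟩
    · exact ⟨hv, hv'⟩
    · intro i; exact ⟨(hKW (hmem i).1).1, (hKW (hmem i).2).1⟩
    · refine Fin.cases hvv fun j => ?_
      exact Unit.eq_zero_comm hf (hKW (hmem j).1).2.1
    · intro i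
      refine Fin.cases (hKW (hmem i).1).2.1 fun j => hss i j
    · refine Fin.cases (by simpa using hv'v) fun j => ?_
      simp only [Fin.cons_zero, Fin.cons_succ, (Fin.succ_ne_zero j).symm, if_false]
      exact Unit.eq_zero_comm hf (hKW (hmem j).1).2.2
    · intro i
      refine Fin.cases ?_ fun j => ?_
      · simp only [Fin.cons_zero, Fin.cons_succ, Fin.succ_ne_zero i, if_false]
        exact (hKW (hmem i).2).2.1
      · simp only [Fin.cons_succ, Fin.succ_inj, hts]

end Frame

/-- The coefficients of a member of the family. -/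
def coef {m : ℕ} (σ : F ≃+* F) (ω : F) (x : Fin m → Fin m → F) (u w : Fin m) : F :=
  ω * x u w - σ ω * x w u

lemma coef_eq_zero {m : ℕ} {ω : F} (hω : σ (ω * ω) ≠ ω * ω) {x : Fin m → Fin m → F}
    (h : ∀ u w, coef σ ω x u w = 0) : x = 0 := by
  funext u w
  have h1 := h u w
  have h2 := h w u
  simp only [coef] at h1 h2
  rw [map_mul] at hω
  have h3 : (ω * ω - σ ω * σ ω) * x u w = 0 := by linear_combination ω * h1 + σ ω * h2
  exact (mul_eq_zero.1 h3).resolve_left fun e => hω (sub_eq_zero.1 e).symm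

lemma star_coef {m : ℕ} (h2 : ∀ c, σ (σ c) = c) (ω : F) {x : Fin m → Fin m → F}
    (hx : ∀ u w, σ (x u w) = x u w) (u w : Fin m) : σ (coef σ ω x u w) = -coef σ ω x w u := by
  simp only [coef, map_sub, map_mul, hx, h2]
  ring

/-- A singular non-zero member of a large family of skew-hermitian matrices. -/
theorem exists_singular (hne : σ ≠ RingEquiv.refl F) (h2 : ∀ c, σ (σ c) = c) {m d : ℕ} (hd : 0 < d)
    (hdm : d < m * m) (ω : F) (k : Fin d → Fin d → Fin m → Fin m → F)
    (hskew : ∀ x : Fin m → Fin m → F, (∀ u w, σ (x u w) = x u w) → ∀ i j,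
      σ (∑ u, ∑ w, coef σ ω x u w * k i j u w) = -∑ u, ∑ w, coef σ ω x u w * k j i u w) :
    ∃ x : Fin m → Fin m → F, x ≠ 0 ∧ (∀ u w, σ (x u w) = x u w) ∧
      ∃ c : Fin d → F, c ≠ 0 ∧ ∀ j, ∑ i, c i * ∑ u, ∑ w, coef σ ω x u w * k i j u w = 0 := by
  classical
  obtain ⟨τ, hτ0, hτ⟩ := Unit.exists_trace_zero hne h2
  obtain ⟨θ, hθ⟩ : ∃ θ : F, θ + σ θ = 1 := by
    by_cases h : (2 : F) = 0
    · obtain ⟨ω', hω'⟩ : ∃ ω', σ ω' ≠ ω' := by
        by_contra hc
        push Not at hc
        exact hne (RingEquiv.ext hc)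
      have hne' : ω' + σ ω' ≠ 0 := fun e => hω' (by linear_combination e - ω' * h)
      refine ⟨ω' / (ω' + σ ω'), ?_⟩
      rw [map_div₀, map_add, h2, add_comm (σ ω') ω', ← add_div, div_self hne']
    · exact ⟨1 / 2, by rw [map_div₀, map_one, map_ofNat]; field_simp; ring⟩
  set K := Unit.fixedField σ with hK
  letI : Fintype K := Fintype.ofFinite K
  let Gp : Matrix (Fin d) (Fin d) (MvPolynomial (Fin m × Fin m) F) := Matrix.of fun i j =>
    ∑ u, ∑ w, MvPolynomial.C (k i j u w) *
      (MvPolynomial.C ω * MvPolynomial.X (u, w) - MvPolynomial.C (σ ω) * MvPolynomial.X (w, u))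
  set p := Gp.det with hp
  have hdeg : p.totalDegree ≤ d := by
    rw [hp, Matrix.det_apply']
    refine MvPolynomial.totalDegree_finsetSum_le fun π _ => ?_
    refine (MvPolynomial.totalDegree_mul _ _).trans ?_
    rw [← map_intCast (MvPolynomial.C : F →+* MvPolynomial (Fin m × Fin m) F),
      MvPolynomial.totalDegree_C, zero_add]
    refine (MvPolynomial.totalDegree_finsetProd _ _).trans ?_
    refine (Finset.sum_le_card_nsmul _ _ 1 fun i _ => ?_).trans (by simp)
    simp only [Gp, Matrix.of_apply]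
    refine MvPolynomial.totalDegree_finsetSum_le fun u _ => ?_
    refine MvPolynomial.totalDegree_finsetSum_le fun w _ => ?_
    refine (MvPolynomial.totalDegree_mul _ _).trans ?_
    rw [MvPolynomial.totalDegree_C, zero_add]
    refine (MvPolynomial.totalDegree_sub _ _).trans (max_le ?_ ?_) <;>
      refine (MvPolynomial.totalDegree_mul _ _).trans ?_ <;>
      rw [MvPolynomial.totalDegree_C, MvPolynomial.totalDegree_X]
  let e : ((Fin m × Fin m) →₀ ℕ) → F := fun mm => θ / τ ^ d * p.coeff mm
  let P0 : MvPolynomial (Fin m × Fin m) K := ∑ mm ∈ p.support,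
    MvPolynomial.monomial mm (⟨e mm + σ (e mm), Unit.mem_fixedField.2 (by rw [map_add, h2, add_comm])⟩ : K)
  have hdeg0 : P0.totalDegree ≤ d := MvPolynomial.totalDegree_finsetSum_le fun mm hmm =>
    (MvPolynomial.totalDegree_monomial_le _ _).trans ((MvPolynomial.le_totalDegree hmm).trans hdeg)
  let mat : (Fin m → Fin m → F) → Matrix (Fin d) (Fin d) F := fun x => Matrix.of fun i j =>
    ∑ u, ∑ w, coef σ ω x u w * k i j u w
  have heval : ∀ y : Fin m × Fin m → K,
      ((MvPolynomial.eval y P0 : K) : F) = (mat fun u w => (y (u, w) : F)).det / τ ^ d := by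
    intro y
    set x : Fin m → Fin m → F := fun u w => (y (u, w) : F)
    have hx : ∀ u w, σ (x u w) = x u w := fun u w => Unit.mem_fixedField.1 (y (u, w)).2
    have hD : MvPolynomial.eval (fun s => (y s : F)) p = (mat x).det := by
      rw [hp, RingHom.map_det]
      congr 1
      ext i j
      simp only [Gp, mat, x, coef, RingHom.mapMatrix_apply, Matrix.map_apply, Matrix.of_apply,
        map_sum, map_mul, map_sub, MvPolynomial.eval_C, MvPolynomial.eval_X]
      exact Finset.sum_congr rfl fun u _ => Finset.sum_congr rfl fun w _ => mul_comm _ _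
    have hfix : σ ((mat x).det / τ ^ d) = (mat x).det / τ ^ d := by
      have h : σ.toRingHom.mapMatrix (mat x) = (-1 : F) • (mat x)ᵀ := by
        ext i j
        simpa [mat] using hskew x hx i j
      have h1 : σ (mat x).det = (-1) ^ d * (mat x).det := by
        have := RingHom.map_det σ.toRingHom (mat x)
        rw [h, det_smul, det_transpose, Fintype.card_fin] at this
        exact this
      rw [map_div₀, map_pow, hτ, h1, neg_pow τ d, mul_div_mul_left]
      exact pow_ne_zero _ (neg_ne_zero.2 one_ne_zero)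
    set D := (mat x).det / τ ^ d
    calc ((MvPolynomial.eval y P0 : K) : F)
        = ∑ mm ∈ p.support, (e mm + σ (e mm)) * ∏ s ∈ mm.support, (y s : F) ^ mm s := by
          simp [P0, map_sum, MvPolynomial.eval_monomial, Finsupp.prod]
      _ = θ * D + σ (θ * D) := by
          have hs : θ * D = ∑ mm ∈ p.support, e mm * ∏ s ∈ mm.support, (y s : F) ^ mm s := by
            rw [show θ * D = θ / τ ^ d * MvPolynomial.eval (fun s => (y s : F)) p by
              rw [hD]; simp only [D]; ring, MvPolynomial.eval_eq, Finset.mul_sum]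
            exact Finset.sum_congr rfl fun mm _ => by simp only [e]; ring
          rw [hs, map_sum, ← Finset.sum_add_distrib]
          refine Finset.sum_congr rfl fun mm _ => ?_
          have hfix' : σ (∏ s ∈ mm.support, (y s : F) ^ mm s) = ∏ s ∈ mm.support, (y s : F) ^ mm s := by
            rw [map_prod]
            exact Finset.prod_congr rfl fun s _ => by rw [map_pow, Unit.mem_fixedField.1 (y s).2]
          rw [map_mul σ (e mm), hfix']
          ring
      _ = D := by rw [map_mul, hfix]; linear_combination D * hθ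
  have hzero : MvPolynomial.eval (0 : Fin m × Fin m → K) P0 = 0 := by
    apply Subtype.ext
    rw [heval]
    have hz : mat (fun u w => ((0 : Fin m × Fin m → K) (u, w) : F)) = 0 := by
      ext i j
      simp [mat, coef]
    have : Nonempty (Fin d) := ⟨⟨0, hd⟩⟩
    rw [hz, Matrix.det_zero, zero_div]
    rfl
  obtain ⟨pc, hpc⟩ := CharP.exists K
  haveI : Fact pc.Prime := ⟨CharP.char_is_prime K pc⟩
  have hdvd := char_dvd_card_solutions pc (f := P0) (by
    rw [Fintype.card_prod, Fintype.card_fin]; omega)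
  obtain ⟨y, hy, hy0⟩ : ∃ y, MvPolynomial.eval y P0 = 0 ∧ y ≠ 0 := by
    by_contra hcon
    push Not at hcon
    have hcard : Fintype.card {y : Fin m × Fin m → K // MvPolynomial.eval y P0 = 0} = 1 :=
      Fintype.card_eq_one_iff.2 ⟨⟨0, hzero⟩, fun y => Subtype.ext (hcon y.1 y.2)⟩
    rw [hcard] at hdvd
    exact (Fact.out : pc.Prime).ne_one (Nat.dvd_one.1 hdvd)
  have hdet : (mat fun u w => (y (u, w) : F)).det = 0 := by
    have := heval y
    rw [hy] at this
    simpa [hτ0] using this.symm
  obtain ⟨c, hc, hc'⟩ := Matrix.exists_vecMul_eq_zero_iff.2 hdet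
  refine ⟨fun u w => (y (u, w) : F), fun e => hy0 (funext fun s => Subtype.ext ?_),
    fun u w => Unit.mem_fixedField.1 (y (u, w)).2, c, hc, fun j => congrFun hc' j⟩
  exact congrFun (congrFun e s.1) s.2

end CfsgLib.ClassicalMax.UnitTens
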