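/-
Above a unitary tensor stabiliser with only scalar root sets, radical elements are scalar and the
stabiliser of a singular tensor line consists of tensors.
-/
import Cfsg.Agent.Lib.ClassicalMax.UnitTens.Base
set_option autoImplicit false
set_option linter.unusedSectionVars false

namespace CfsgLib.ClassicalMax.UnitTens

open Matrix Kronecker Module Cfsg.Geo
open CfsgLib.ClassicalMax
open CfsgLib.ClassicalMax.Kron
open CfsgLib.ClassicalMax.TensorSymp (ptL ptL_apply pt_neg_left pt_neg_right pt_sub_left)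
open CfsgLib.ClassicalMax.TensorSL (InH lcon lcon_pt)

variable {F : Type*} [Field F] [DecidableEq F] [Fintype F] {a b : ℕ} {σ : F ≃+* F}
  {f : (Fin a × Fin b → F) → (Fin a × Fin b → F) → F} {f₁ : (Fin a → F) → (Fin a → F) → F}
  {f₂ : (Fin b → F) → (Fin b → F) → F} {M : Subgroup (GL (Fin a × Fin b) F)}

/-- The action of an element on a vector. -/
local notation:80 g:81 " •ᵥ " z:80 => Matrix.mulVec (Units.val g) z

/-- Only scalar root elements of singular tensor lines lie in `M`. -/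
def Only (f₂ : (Fin b → F) → (Fin b → F) → F) (M : Subgroup (GL (Fin a × Fin b) F)) : Prop :=
  ∀ v : Fin b → F, v ≠ 0 → f₂ v v = 0 → ∀ g ∈ M, ∀ S : (Fin a → F) →ₗ[F] (Fin a → F),
    (∀ z, g •ᵥ z = z + pt (S (cv f₂ v z)) v) → ∃ c : F, ∀ s, S s = c • s

/-- An element fixing a tensor line and moving its orthogonal into it by the given maps. -/
def Rad (f₂ : (Fin b → F) → (Fin b → F) → F) (M : Subgroup (GL (Fin a × Fin b) F)) (v : Fin b → F)
    (x : GL (Fin a × Fin b) F) (L : (Fin b → F) → ((Fin a → F) →ₗ[F] (Fin a → F))) : Prop :=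
  x ∈ M ∧ (∀ u, x •ᵥ pt u v = pt u v) ∧
    ∀ w, f₂ w v = 0 → ∀ u, x •ᵥ pt u w = pt u w + pt (L w u) v

variable (H : Hyp σ f f₁ f₂ M)
include H

/-- Contractions of a radical element. -/
lemma Rad.cv_self {v : Fin b → F} {x : GL (Fin a × Fin b) F}
    {L : (Fin b → F) → ((Fin a → F) →ₗ[F] (Fin a → F))} (hx : Rad f₂ M v x L)
    (z : Fin a × Fin b → F) : cv f₂ v (x •ᵥ z) = cv f₂ v z := by
  have P := H.pair
  refine form_ext P.hf₁ fun u => ?_
  rw [← form_ptv P, ← form_ptv P]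
  have := H.iso x hx.1 z (pt u v)
  rwa [hx.2.1] at this

/-- The image of a radical element against the orthogonal. -/
lemma Rad.cv_orth {v : Fin b → F} {x : GL (Fin a × Fin b) F}
    {L : (Fin b → F) → ((Fin a → F) →ₗ[F] (Fin a → F))} (hx : Rad f₂ M v x L) {w : Fin b → F}
    (hw : f₂ w v = 0) (z : Fin a × Fin b → F) (u : Fin a → F) :
    f₁ (cv f₂ w (x •ᵥ z) - cv f₂ w z) u = -f₁ (cv f₂ v z) (L w u) := by
  have P := H.pair
  have h := H.iso x hx.1 z (pt u w)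
  rw [hx.2.2 w hw u, Unit.add_right P.hf, form_ptv P, form_ptv P, form_ptv P, hx.cv_self H] at h
  rw [Unit.sub_left P.hf₁]
  linear_combination h

/-- Radical elements have scalar maps. -/
theorem Rad.scalar (hO : Only f₂ M) {v : Fin b → F} (hv : v ≠ 0) (hvv : f₂ v v = 0)
    {x : GL (Fin a × Fin b) F} {L : (Fin b → F) → ((Fin a → F) →ₗ[F] (Fin a → F))}
    (hx : Rad f₂ M v x L) {w : Fin b → F} (hw : f₂ w v = 0) :
    ∃ c : F, ∀ u, L w u = c • u := by
  have P := H.pair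
  have hvw : f₂ v w = 0 := Unit.eq_zero_comm P.hf₂ hw
  obtain ⟨v', -, -, hv'1, -⟩ := exists_partner P.hf₂ (nondeg_top P.hf₂) (Submodule.mem_top (x := v)) hv hvv
  have hcv : ∀ s, cv f₂ v (pt s v') = s := fun s => by rw [cv_pt P, hv'1, one_smul]
  let Lst : (Fin a → F) →ₗ[F] (Fin a → F) :=
    (cv f₂ w - (cv f₂ w).comp (Matrix.toLin' x.val)).comp (ptR v')
  have hLst : ∀ z, cv f₂ w z - cv f₂ w (x •ᵥ z) = Lst (cv f₂ v z) := fun z => by
    refine form_ext P.hf₁ fun u => ?_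
    have h1 := hx.cv_orth H hw z u
    have h2 := hx.cv_orth H hw (pt (cv f₂ v z) v') u
    rw [hcv] at h2
    simp only [Lst, LinearMap.comp_apply, LinearMap.sub_apply, Matrix.toLin'_apply, ptR_apply]
    rw [Unit.sub_left P.hf₁] at h1 h2 ⊢
    rw [Unit.sub_left P.hf₁]
    linear_combination -h1 + h2
  have key : ∀ c : F, ∃ k : F, ∀ s, c • L w s - σ c • Lst s = k • s := by
    intro c
    obtain ⟨d, hd⟩ := Unit.exists_trace_eq P.hf₂ (s := -(c * σ c * f₂ w w)) (by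
      rw [map_neg, map_mul, map_mul, P.hf₂.involutive, Unit.self_fixed P.hf₂]; ring)
    set E := kronGL (1 : GL (Fin a) F) (eich P.hf₂ v w c d)
    have hEM : E ∈ M := memEich H hvv hvw hd
    have hEz : ∀ z, E •ᵥ z = z + pt (c • cv f₂ v z) w + pt (d • cv f₂ v z - σ c • cv f₂ w z) v :=
      eich_act H hvv hvw c d
    have hcvE : ∀ z, cv f₂ v (E •ᵥ z) = cv f₂ v z := fun z => by
      rw [hEz, map_add, map_add, cv_pt P, hw, zero_smul, add_zero, cv_pt_self P hvv, add_zero]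
    have hy : ∀ z, (x * E * x⁻¹ * E⁻¹) •ᵥ z = z + pt ((c • L w - σ c • Lst) (cv f₂ v z)) v := by
      intro z
      obtain ⟨z, rfl⟩ : ∃ z', z = E •ᵥ (x •ᵥ z') :=
        ⟨x⁻¹ •ᵥ (E⁻¹ •ᵥ z), by rw [gl_mulVec_inv_mulVec, gl_mulVec_inv_mulVec]⟩
      rw [gl_mulVec_mul, gl_mulVec_mul, gl_mulVec_mul, gl_inv_mulVec_mulVec, gl_inv_mulVec_mulVec,
        hcvE, hx.cv_self H, hEz, hEz, hx.cv_self H, mulVec_add, mulVec_add, hx.2.1, hx.2.2 w hw,
        LinearMap.sub_apply, LinearMap.smul_apply, LinearMap.smul_apply, ← hLst, map_smul]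
      simp only [pt_sub_left, pt_smul_left, smul_sub]
      module
    obtain ⟨k, hk⟩ := hO v hv hvv _
      (M.mul_mem (M.mul_mem (M.mul_mem hx.1 hEM) (M.inv_mem hx.1)) (M.inv_mem hEM)) _ hy
    exact ⟨k, fun s => by rw [← hk]; rfl⟩
  obtain ⟨τ, hτ0, hτ⟩ := Unit.exists_trace_zero P.hf.ne_refl P.hf.involutive
  obtain ⟨ω, hω⟩ : ∃ ω, σ ω ≠ ω := by
    by_contra h
    push Not at h
    exact P.hf.ne_refl (RingEquiv.ext h)
  obtain ⟨k₁, hk₁⟩ := key 1
  obtain ⟨k₂, hk₂⟩ := key ω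
  refine ⟨(ω - σ ω)⁻¹ * (k₂ - σ ω * k₁), fun u => ?_⟩
  have h1 := hk₁ u
  rw [map_one, one_smul, one_smul] at h1
  have h2 := hk₂ u
  have hne : ω - σ ω ≠ 0 := sub_ne_zero.2 (Ne.symm hω)
  have h3 : (ω - σ ω) • L w u = (k₂ - σ ω * k₁) • u := by
    linear_combination (norm := module) h2 - σ ω • h1
  rw [mul_smul, ← h3, inv_smul_smul₀ hne]

omit H in
/-- A unipotent matrix has determinant one. -/
lemma det_of_unipotent {κ : Type} [Fintype κ] [DecidableEq κ] [Nonempty κ] {x : Matrix κ κ F}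
    (h : (x - 1) ^ 3 = 0) : x.det = 1 := by
  obtain ⟨p, hp⟩ := CharP.exists F
  haveI : Fact p.Prime := ⟨CharP.char_is_prime F p⟩
  have h4 : 3 ≤ p ^ 2 := by
    have := (Fact.out : p.Prime).two_le
    nlinarith
  have h1 := sub_pow_char_pow_of_commute (p := p) (n := 2) (Commute.one_right x)
  rw [one_pow, pow_eq_zero_of_le h4 h, eq_comm, sub_eq_zero] at h1
  have h2 : x.det ^ p ^ 2 = 1 := by rw [← det_pow, h1, det_one]
  have h3 := sub_pow_char_pow_of_commute (p := p) (n := 2) (Commute.one_right x.det)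
  rw [one_pow, h2, sub_self, pow_eq_zero_iff (by omega), sub_eq_zero] at h3
  exact h3

/-- The stabiliser of a singular tensor line consists of tensors. -/
theorem inH_of_line (hO : Only f₂ M) {g : GL (Fin a × Fin b) F} (hg : g ∈ M) {v : Fin b → F}
    (hv : v ≠ 0) (hvv : f₂ v v = 0) (hline : ∀ x, ∃ y, g •ᵥ pt x v = pt y v) : InH g := by
  classical
  have P := H.pair
  have hf₁ := P.hf₁
  have hf₂ := P.hf₂
  obtain ⟨v', -, hv'v', hv'1, hv'2⟩ :=
    exists_partner hf₂ (nondeg_top hf₂) (Submodule.mem_top (x := v)) hv hvv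
  have hcv : ∀ s, cv f₂ v (pt s v') = s := fun s => by rw [cv_pt P, hv'1, one_smul]
  let α : (Fin a → F) →ₗ[F] (Fin a → F) := (cv f₂ v').comp ((Matrix.toLin' g.val).comp (ptR v))
  have hα : ∀ x, g •ᵥ pt x v = pt (α x) v := by
    intro x
    obtain ⟨y, hy⟩ := hline x
    simp [α, Matrix.toLin'_apply, hy, cv_pt P, hv'2]
  have hαu : IsUnit (LinearMap.toMatrix' α) := Matrix.mulVec_injective_iff_isUnit.1 fun x y hxy => by
    rw [LinearMap.toMatrix'_mulVec, LinearMap.toMatrix'_mulVec] at hxy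
    exact ptR_injective hv (gl_mulVec_injective g (by simp [hα, hxy]))
  set αG : GL (Fin a) F := hαu.unit with hαG
  have hαv : ∀ x, αG •ᵥ x = α x := fun x => by
    rw [hαG, IsUnit.unit_spec, LinearMap.toMatrix'_mulVec]
  have hαs : ∀ y, ∃ x, α x = y := fun y =>
    ⟨(αG⁻¹ : GL (Fin a) F) •ᵥ y, by rw [← hαv, gl_mulVec_inv_mulVec]⟩
  let β : (Fin a → F) →ₗ[F] (Fin a → F) :=
    (cv f₂ v).comp ((Matrix.toLin' (g⁻¹ : GL (Fin a × Fin b) F).val).comp (ptR v'))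
  have hβf : ∀ z x, f₁ (cv f₂ v (g⁻¹ •ᵥ z)) x = f₁ (cv f₂ v z) (α x) := fun z x => by
    rw [← form_ptv P, ← form_ptv P]
    have := H.iso g hg (g⁻¹ •ᵥ z) (pt x v)
    rw [gl_mulVec_inv_mulVec, hα] at this
    exact this.symm
  have hβ : ∀ z, cv f₂ v (g⁻¹ •ᵥ z) = β (cv f₂ v z) := fun z => form_ext hf₁ fun x => by
    simp only [β, LinearMap.comp_apply, Matrix.toLin'_apply, ptR_apply]
    rw [hβf, hβf, hcv]
  have hβa : ∀ s x, f₁ (β s) x = f₁ s (α x) := fun s x => by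
    have := hβf (pt s v') x
    rwa [hcv, hβ, hcv] at this
  obtain ⟨τ, hτ0, hτ⟩ := Unit.exists_trace_zero P.hf.ne_refl P.hf.involutive
  obtain ⟨μ, hμ⟩ : ∃ μ : F, ∀ s, α (β s) = μ • s := by
    obtain ⟨k, hk⟩ := hO v hv hvv (g * kronGL 1 (Unit.uTv hf₂ v τ) * g⁻¹)
      (M.mul_mem (M.mul_mem hg (memTv H hvv hτ)) (M.inv_mem hg)) (τ • α.comp β) fun z => by
        rw [gl_mulVec_mul, gl_mulVec_mul, root_act H hvv, mulVec_add, gl_mulVec_inv_mulVec, hα, hβ,
          map_smul]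
        rfl
    refine ⟨τ⁻¹ * k, fun s => ?_⟩
    rw [mul_smul, ← hk s, LinearMap.smul_apply, inv_smul_smul₀ hτ0]
    rfl
  obtain ⟨e₁, e₀, he₁⟩ := exists_unit_pair P
  have he₀ : e₀ ≠ 0 := fun e => one_ne_zero (α := F) (by rw [← he₁, e, Unit.zero_right hf₁])
  have hβα : ∀ r, β (α r) = μ • r := fun r => by
    refine ptR_injective hv (gl_mulVec_injective g ?_)
    show _ *ᵥ _ = _ *ᵥ _
    rw [ptR_apply, ptR_apply, hα, hα, hμ, map_smul]
  have hsim : ∀ r x, f₁ (α r) (α x) = μ * f₁ r x := fun r x => by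
    rw [← hβa, hβα, hf₁.smul_left]
  have hμ0 : μ ≠ 0 := fun h0 => by
    obtain ⟨x, hx⟩ := hαs e₁
    obtain ⟨r, hr⟩ := hαs e₀
    have h1 := hsim x r
    rw [hx, hr, he₁, h0, zero_mul] at h1
    exact one_ne_zero h1
  have hσμ : σ μ = μ := by
    have h1 := hsim e₁ e₀
    have h2 := hsim e₀ e₁
    rw [he₁, mul_one] at h1
    have h3 : f₁ e₀ e₁ = 1 := by rw [hf₁.herm, he₁, map_one]
    rw [h3, mul_one] at h2
    rw [← h1, ← hf₁.herm, h2, h1]
  have hker : ∀ z, cv f₂ v z = 0 → cv f₂ v (g •ᵥ z) = 0 := fun z hz => form_ext hf₁ fun y => by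
    obtain ⟨x, rfl⟩ := hαs y
    have h1 := hβf (g •ᵥ z) x
    rw [gl_inv_mulVec_mulVec, hz] at h1
    rw [Unit.zero_left hf₁] at h1 ⊢
    exact h1.symm
  obtain ⟨η, hη⟩ := exists_sum_dot (x := α e₀) (fun h0 => he₀ (ptR_injective hv
    (gl_mulVec_injective g (by simp [hα, h0]))))
  let B : (Fin b → F) →ₗ[F] (Fin b → F) :=
    (lcon η).comp ((Matrix.toLin' g.val).comp (ptL e₀))
  have hBdef : ∀ w, B w = lcon η (g •ᵥ pt e₀ w) := fun w => rfl
  have hBcon : ∀ w y, f₂ (B w) y = η ⬝ᵥ cv f₂ y (g •ᵥ pt e₀ w) := fun w y => by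
    rw [cv, TensorSymp.contraction_comm, hBdef]
    exact (Unit.formDual_dot hf₂ y _).symm
  have hdec : ∀ w, f₂ w v = 0 → ∀ u, ∃ s, g •ᵥ pt u w = pt (α u) (B w) + pt s v := by
    intro w hw u
    refine ⟨cv f₂ v' (g •ᵥ pt u w - pt (α u) (B w)), ?_⟩
    have := eq_ptv P hv'2 (z := g •ᵥ pt u w - pt (α u) (B w)) fun y hvy => by
      obtain ⟨d, hd⟩ := Unit.exists_trace_eq hf₂ (s := -((1 : F) * σ 1 * f₂ y y)) (by
        rw [map_neg, map_mul, map_mul, hf₂.involutive, Unit.self_fixed hf₂]; ring)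
      set E := kronGL (1 : GL (Fin a) F) (eich hf₂ v y 1 d)
      have hyv : f₂ y v = 0 := Unit.eq_zero_comm hf₂ hvy
      have hEM : E ∈ M := memEich H hvv hvy hd
      have hEz : ∀ z, E •ᵥ z =
          z + pt ((1 : F) • cv f₂ v z) y + pt (d • cv f₂ v z - σ 1 • cv f₂ y z) v :=
        eich_act H hvv hvy 1 d
      have hfixE : ∀ s, E •ᵥ pt s v = pt s v := fun s => by
        rw [hEz, cv_pt_self P hvv, cv_pt P, hvy]
        simp [pt_zero_left]
      have hgi : ∀ s, g⁻¹ •ᵥ pt s v = pt ((αG⁻¹ : GL (Fin a) F) •ᵥ s) v := fun s =>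
        gl_mulVec_injective g (by
          show _ *ᵥ _ = _ *ᵥ _
          rw [gl_mulVec_inv_mulVec, hα, ← hαv, gl_mulVec_inv_mulVec])
      have hx : Rad f₂ M v (g⁻¹ * E * g) fun w' => -((Matrix.toLin' (αG⁻¹ : GL (Fin a) F).val).comp
          ((cv f₂ y).comp ((Matrix.toLin' g.val).comp (ptR w')))) := by
        refine ⟨M.mul_mem (M.mul_mem (M.inv_mem hg) hEM) hg, fun s => ?_, fun w' hw' s => ?_⟩
        · rw [gl_mulVec_mul, gl_mulVec_mul, hα, hfixE, ← hα, gl_inv_mulVec_mulVec]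
        · rw [gl_mulVec_mul, gl_mulVec_mul, hEz,
            hker _ (by rw [cv_pt P, hw', zero_smul]), smul_zero, pt_zero_left, add_zero, smul_zero,
            zero_sub, map_one, one_smul, mulVec_add, gl_inv_mulVec_mulVec, hgi]
          simp [Matrix.toLin'_apply, mulVec_neg]
      obtain ⟨l, hl⟩ := hx.scalar H hO hv hvv hw
      have hl' : ∀ u, cv f₂ y (g •ᵥ pt u w) = -(l • α u) := fun u => by
        have h1 := congrArg (fun s => αG •ᵥ s) (hl u)
        simp only [LinearMap.neg_apply, LinearMap.comp_apply, Matrix.toLin'_apply, ptR_apply,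
          mulVec_neg, gl_mulVec_inv_mulVec, mulVec_smul, hαv] at h1
        rw [map_neg, ← hαv, gl_mulVec_inv_mulVec, map_smul] at h1
        rw [← h1, neg_neg]
      rw [map_sub, cv_pt P, hl', hBcon, hl', dotProduct_neg, dotProduct_smul, hη, smul_eq_mul,
        mul_one, neg_smul, sub_self]
    rw [← this, add_sub_cancel]
  have hBv : ∀ w, f₂ w v = 0 → f₂ (B w) v = 0 := fun w hw => by
    rw [hBcon, hker _ (by rw [cv_pt P, hw, zero_smul]), dotProduct_zero]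
  have hBvv : B v = v := by rw [hBdef, hα, lcon_pt, hη, one_smul]
  have hBsim : ∀ w w', f₂ w v = 0 → f₂ w' v = 0 → μ * f₂ (B w) (B w') = f₂ w w' := by
    intro w w' hw hw'
    obtain ⟨s, hs⟩ := hdec w hw e₁
    obtain ⟨s', hs'⟩ := hdec w' hw' e₀
    have h1 := H.iso g hg (pt e₁ w) (pt e₀ w')
    rw [hs, hs', P.form_pt, he₁, one_mul] at h1
    simp only [P.hf.add_left, Unit.add_right P.hf, P.form_pt, hsim, he₁, hBv w hw, hvv,
      Unit.eq_zero_comm hf₂ (hBv w' hw'), mul_zero, add_zero, mul_one] at h1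
    exact h1
  let Pp : (Fin b → F) →ₗ[F] (Fin b → F) :=
    LinearMap.id - (Unit.formL hf₂ v).smulRight v' - (Unit.formL hf₂ v').smulRight v
  have hPp : ∀ x, Pp x = x - f₂ x v • v' - f₂ x v' • v := fun x => by simp [Pp]
  have hPv : ∀ x, f₂ (Pp x) v = 0 := fun x => by
    rw [hPp, Unit.sub_left hf₂, Unit.sub_left hf₂, hf₂.smul_left, hf₂.smul_left, hv'1, hvv]; ring
  have hPv' : ∀ x, f₂ (Pp x) v' = 0 := fun x => by
    rw [hPp, Unit.sub_left hf₂, Unit.sub_left hf₂, hf₂.smul_left, hf₂.smul_left, hv'2, hv'v']; ring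
  let B' : (Fin b → F) →ₗ[F] (Fin b → F) :=
    μ⁻¹ • (Unit.formL hf₂ v).smulRight v' + (Unit.formL hf₂ v').smulRight v + Pp.comp (B.comp Pp)
  have hB' : ∀ x, B' x = (μ⁻¹ * f₂ x v) • v' + f₂ x v' • v + Pp (B (Pp x)) := fun x => by
    simp [B', smul_smul]
  have hPP : ∀ z z', f₂ z v = 0 → f₂ z' v = 0 → f₂ (Pp z) (Pp z') = f₂ z z' := by
    intro z z' hz hz'
    rw [hPp, hPp, hz, hz', zero_smul, sub_zero, sub_zero]
    simp only [Unit.sub_left hf₂, Unit.sub_right hf₂, hf₂.smul_left, Unit.smul_right hf₂, hvv, hz,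
      Unit.eq_zero_comm hf₂ hz']
    ring
  have hB'sim : ∀ x y, f₂ (B' x) (B' y) = μ⁻¹ * f₂ x y := by
    intro x y
    have e1 : ∀ z, f₂ v (Pp z) = 0 := fun z => Unit.eq_zero_comm hf₂ (hPv z)
    have e2 : ∀ z, f₂ v' (Pp z) = 0 := fun z => Unit.eq_zero_comm hf₂ (hPv' z)
    have h1 : f₂ (Pp (B (Pp x))) (Pp (B (Pp y))) = μ⁻¹ * f₂ (Pp x) (Pp y) := by
      rw [hPP _ _ (hBv _ (hPv x)) (hBv _ (hPv y)), ← hBsim _ _ (hPv x) (hPv y), ← mul_assoc,
        inv_mul_cancel₀ hμ0, one_mul]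
    have h2 : f₂ (Pp x) (Pp y) = f₂ x y - f₂ x v * f₂ v' y - f₂ x v' * f₂ v y := by
      simp only [hPp, Unit.sub_left hf₂, Unit.sub_right hf₂, hf₂.smul_left, Unit.smul_right hf₂,
        hvv, hv'1, hv'2, hv'v', ← hf₂.herm v y, ← hf₂.herm v' y]
      ring
    simp only [hB', hf₂.add_left, Unit.add_right hf₂, hf₂.smul_left, Unit.smul_right hf₂,
      hvv, hv'1, hv'2, hv'v', hPv, hPv', e1, e2, h1, h2, map_mul, map_inv₀, hσμ, ← hf₂.herm v y,
      ← hf₂.herm v' y]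
    ring
  have hB'u : IsUnit (LinearMap.toMatrix' B') := Matrix.mulVec_injective_iff_isUnit.1 fun x y hxy => by
    rw [LinearMap.toMatrix'_mulVec, LinearMap.toMatrix'_mulVec] at hxy
    refine form_ext hf₂ fun z => mul_left_cancel₀ (inv_ne_zero hμ0) ?_
    rw [← hB'sim, ← hB'sim, hxy]
  set BG : GL (Fin b) F := hB'u.unit with hBG
  have hBw : ∀ w, BG •ᵥ w = B' w := fun w => by
    rw [hBG, IsUnit.unit_spec, LinearMap.toMatrix'_mulVec]
  set h := kronGL αG BG with hh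
  have hpt : ∀ x w, h •ᵥ pt x w = pt (α x) (B' w) := fun x w => by rw [kronGL_pt, hαv, hBw]
  have hiso : h ∈ Unit.isoOf f := iso_of_pt P fun x w x' w' => by
    rw [hpt, hpt, P.form_pt, P.form_pt, hsim, hB'sim]
    field_simp
  have hB'v : B' v = v := by
    have e : Pp v = 0 := by rw [hPp, hvv, hv'2]; simp
    rw [hB', e, map_zero, map_zero, hvv, hv'2]; simp
  set x := h⁻¹ * g with hx
  have hxfix : ∀ u, x •ᵥ pt u v = pt u v := fun u => gl_mulVec_injective h (by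
    show _ *ᵥ _ = _ *ᵥ _
    rw [gl_mulVec_mul, gl_mulVec_inv_mulVec, hα, hpt, hB'v])
  have hxker : ∀ w, f₂ w v = 0 → ∀ u, ∃ s, x •ᵥ pt u w = pt u w + pt s v := by
    intro w hw u
    obtain ⟨s, hs⟩ := hdec w hw u
    have e : B' w = B w + (f₂ w v' - f₂ (B w) v') • v := by
      have eP : Pp w = w - f₂ w v' • v := by rw [hPp, hw, zero_smul, sub_zero]
      have eB : Pp (B w - f₂ w v' • v) = B w - f₂ (B w) v' • v := by
        rw [hPp, Unit.sub_left hf₂, Unit.sub_left hf₂, hf₂.smul_left, hf₂.smul_left, hBv w hw, hvv,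
          hv'2]
        module
      rw [hB', hw, eP, map_sub B, map_smul B, hBvv, eB]
      module
    refine ⟨(αG⁻¹ : GL (Fin a) F) •ᵥ (s - (f₂ w v' - f₂ (B w) v') • α u), gl_mulVec_injective h ?_⟩
    show _ *ᵥ _ = _ *ᵥ _
    rw [gl_mulVec_mul, gl_mulVec_inv_mulVec, hs, mulVec_add, hpt, hpt, hB'v, e, ← hαv (_ *ᵥ _),
      gl_mulVec_inv_mulVec, pt_add_right, pt_smul_right, pt_sub_left, pt_smul_left]
    abel
  have hxpol : ∀ z z', f (x •ᵥ z) (x •ᵥ z') = f z z' := fun z z' => by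
    rw [← Unit.mem_isoOf.1 hiso, ← gl_mulVec_mul, ← gl_mulVec_mul, hx, mul_inv_cancel_left,
      H.iso g hg]
  have hxcv : ∀ z, cv f₂ v (x •ᵥ z) = cv f₂ v z := fun z => form_ext hf₁ fun u => by
    rw [← form_ptv P, ← form_ptv P]
    have := hxpol z (pt u v)
    rwa [hxfix] at this
  let N := Matrix.toLin' x.val - LinearMap.id
  have hN : ∀ z, N z = x •ᵥ z - z := fun z => by simp [N, Matrix.toLin'_apply]
  have hN2 : ∀ z, cv f₂ v z = 0 → N (N z) = 0 := by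
    intro z hz
    rw [pt_sum_left z, map_sum, map_sum]
    refine Finset.sum_eq_zero fun i _ => ?_
    obtain ⟨s, hs⟩ := hxker _ (rows_orth P hz i) (Pi.single i 1)
    rw [hN, hN, hs, add_sub_cancel_left, hxfix, sub_self]
  have hN3 : ((x.val : Matrix (Fin a × Fin b) (Fin a × Fin b) F) - 1) ^ 3 = 0 := by
    refine Matrix.ext_of_mulVec_single fun i => ?_
    have e : ∀ z, (x.val - 1) *ᵥ z = N z := fun z => by rw [hN, sub_mulVec, one_mulVec]
    rw [show ((x.val : Matrix (Fin a × Fin b) (Fin a × Fin b) F) - 1) ^ 3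
      = (x.val - 1) * ((x.val - 1) * (x.val - 1)) by noncomm_ring, ← mulVec_mulVec, ← mulVec_mulVec,
      e, e, e, zero_mulVec, hN2]
    rw [hN, map_sub, hxcv, sub_self]
  haveI : Nonempty (Fin a × Fin b) :=
    ⟨(⟨0, by have := P.two_le; omega⟩, ⟨0, by have := P.five_le; omega⟩)⟩
  have hdh : Matrix.det (h : Matrix (Fin a × Fin b) (Fin a × Fin b) F) = 1 := by
    have e := H.det g hg
    rwa [show g = h * x by rw [hx, mul_inv_cancel_left], Units.val_mul, det_mul,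
      det_of_unipotent hN3, mul_one] at e
  have hhM : h ∈ M := H.mem αG BG hiso hdh
  have hxM : x ∈ M := M.mul_mem (M.inv_mem hhM) hg
  let L : (Fin b → F) → ((Fin a → F) →ₗ[F] (Fin a → F)) := fun w =>
    (cv f₂ v').comp (N.comp (ptR w))
  have hR : Rad f₂ M v x L := ⟨hxM, hxfix, fun w hw u => by
    obtain ⟨s, hs⟩ := hxker w hw u
    simp [L, hN, hs, cv_pt P, hv'2]⟩
  obtain ⟨η₀, hη₀⟩ := exists_sum_dot he₀
  let φ : (Fin b → F) →ₗ[F] F :=
    { toFun := fun w => η₀ ⬝ᵥ L w e₀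
      map_add' := fun w w' => by simp [L, pt_add_right, map_add, dotProduct_add]
      map_smul' := fun c w => by simp [L, pt_smul_right, map_smul, dotProduct_smul] }
  obtain ⟨y₁, hy₁⟩ := Unit.exists_form_eq hf₂ φ
  set y₀ := -y₁
  have hy₀ : ∀ x, f₂ x y₀ = -φ x := fun x => by
    rw [← hy₁, show y₀ = (0 : Fin b → F) - y₁ from (zero_sub y₁).symm, Unit.sub_right hf₂,
      Unit.zero_right hf₂, zero_sub]
  have hy₀v : f₂ v y₀ = 0 := by
    rw [hy₀]
    simp [φ, L, hN, hxfix]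
  obtain ⟨d, hd⟩ := Unit.exists_trace_eq hf₂ (s := -((1 : F) * σ 1 * f₂ y₀ y₀)) (by
    rw [map_neg, map_mul, map_mul, hf₂.involutive, Unit.self_fixed hf₂]; ring)
  set E := kronGL (1 : GL (Fin a) F) (eich hf₂ v y₀ 1 d)
  have hEM : E ∈ M := memEich H hvv hy₀v hd
  set x' := E⁻¹ * x
  have hx'ker : ∀ w, f₂ w v = 0 → ∀ u, x' •ᵥ pt u w = pt u w := fun w hw u => by
    refine gl_mulVec_injective E ?_
    show _ *ᵥ _ = _ *ᵥ _
    obtain ⟨c, hc⟩ := hR.scalar H hO hv hvv hw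
    have hcy : f₂ w y₀ = -c := by
      rw [hy₀]
      show -(η₀ ⬝ᵥ L w e₀) = -c
      rw [hc, dotProduct_smul, hη₀, smul_eq_mul, mul_one]
    rw [gl_mulVec_mul, gl_mulVec_inv_mulVec, hR.2.2 w hw, hc, eich_act H hvv hy₀v, cv_pt P, cv_pt P,
      hw, hcy]
    simp [pt_zero_left, pt_smul_left]
  have hx'M : x' ∈ M := M.mul_mem (M.inv_mem hEM) hxM
  let D := Matrix.toLin' x'.val - LinearMap.id
  have hD : ∀ z, D z = x' •ᵥ z - z := fun z => by simp [D, Matrix.toLin'_apply]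
  let S₀ := (cv f₂ v').comp (D.comp (ptR v'))
  have hform : ∀ z, x' •ᵥ z = z + pt (S₀ (cv f₂ v z)) v := fun z => by
    have hD0 : D (z - pt (cv f₂ v z) v') = 0 := by
      have h0 : cv f₂ v (z - pt (cv f₂ v z) v') = 0 := by rw [map_sub, hcv, sub_self]
      rw [pt_sum_left (z - pt (cv f₂ v z) v'), map_sum]
      refine Finset.sum_eq_zero fun i _ => ?_
      rw [hD, hx'ker _ (rows_orth P h0 i), sub_self]
    have hDl : D z = pt (cv f₂ v' (D z)) v := eq_ptv P hv'2 fun w hw => form_ext hf₁ fun u => by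
      rw [← form_ptv P, Unit.zero_left hf₁, hD, Unit.sub_left P.hf]
      conv_lhs => arg 1; rw [← hx'ker w (Unit.eq_zero_comm hf₂ hw) u]
      rw [H.iso x' hx'M, sub_self]
    rw [map_sub, sub_eq_zero] at hD0
    rw [hD] at hDl
    have e : x' •ᵥ z - z = pt (S₀ (cv f₂ v z)) v := by
      rw [hDl, ← hD, hD0]; rfl
    rw [← e, add_sub_cancel]
  obtain ⟨c, hc⟩ := hO v hv hvv x' hx'M S₀ hform
  have hx'root : x' = kronGL 1 (Unit.uTv hf₂ v c) := gl_ext_pt fun u w => by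
    rw [root_act H hvv, hform, hc]
  have hg' : g = h * (E * x') := by rw [mul_inv_cancel_left, hx, mul_inv_cancel_left]
  rw [hg', hx'root]
  exact InH.mul ⟨_, _, hh⟩ (InH.mul ⟨_, _, rfl⟩ ⟨_, _, rfl⟩)

/-- If a conjugate of a root element is a tensor then so is the conjugating element. -/
theorem inH_of_root (hO : Only f₂ M) {g : GL (Fin a × Fin b) F} (hg : g ∈ M) {v : Fin b → F}
    (hv : v ≠ 0) (hvv : f₂ v v = 0) {c : F} (hc0 : c ≠ 0)
    (h : InH (g⁻¹ * kronGL 1 (Unit.uTv H.pair.hf₂ v c) * g)) : InH g := by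
  obtain ⟨A, B, hx⟩ := h
  have P := H.pair
  let Z : Submodule F (Fin a × Fin b → F) :=
    LinearMap.range ((Matrix.toLin' (g⁻¹ : GL (Fin a × Fin b) F).val).comp (ptR v))
  have hxz : ∀ z, kronGL A B •ᵥ z - z ∈ Z := fun z => by
    refine ⟨c • cv f₂ v (g •ᵥ z), ?_⟩
    rw [← hx, gl_mulVec_mul, gl_mulVec_mul, root_act H hvv, mulVec_add, gl_inv_mulVec_mulVec,
      add_sub_cancel_left]
    simp [Matrix.toLin'_apply, pt_smul_left, mulVec_smul]
  have hZts : ∀ p ∈ Z, ∀ q ∈ Z, f p q = 0 := by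
    rintro _ ⟨s, rfl⟩ _ ⟨t, rfl⟩
    simp only [LinearMap.comp_apply, Matrix.toLin'_apply, ptR_apply]
    rw [H.iso _ (M.inv_mem hg), P.form_pt, hvv, mul_zero]
  have hZ : finrank F Z ≤ a := (LinearMap.finrank_range_le _).trans (by rw [finrank_fin_fun])
  obtain ⟨k, hk⟩ := TensorSL.exists_scalar (slHyp P) hZ hxz
  have hmem : ∀ x w, pt x (k • (B •ᵥ w) - w) ∈ Z := fun x w => by
    have := hxz (pt x w)
    rw [kronGL_pt, hk, pt_smul_left] at this
    rwa [pt_sub_right, pt_smul_right]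
  obtain ⟨w₀, hw₀⟩ : ∃ w₀, k • (B •ᵥ w₀) - w₀ ≠ 0 := by
    by_contra hcon
    push Not at hcon
    have h1 : g⁻¹ * kronGL 1 (Unit.uTv P.hf₂ v c) * g = 1 := by
      rw [hx]
      refine gl_ext_pt fun x w => ?_
      rw [kronGL_pt, hk, pt_smul_left, ← pt_smul_right, sub_eq_zero.1 (hcon w), Units.val_one,
        one_mulVec]
    have h2 : kronGL (1 : GL (Fin a) F) (Unit.uTv P.hf₂ v c) = 1 := by
      have := congrArg (fun t => g * t * g⁻¹) h1
      simpa [mul_assoc] using this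
    obtain ⟨v', -, -, hv'1, -⟩ := exists_partner P.hf₂ (nondeg_top P.hf₂) (Submodule.mem_top (x := v)) hv hvv
    obtain ⟨⟨x, hx0⟩, -⟩ := exists_vec P
    have h3 := root_act H hvv c (pt x v')
    rw [h2, Units.val_one, one_mulVec, cv_pt P, hv'1, one_smul, left_eq_add] at h3
    exact pt_ne_zero (smul_ne_zero hc0 hx0) hv h3
  set v₁ := k • (B •ᵥ w₀) - w₀
  have hv₁ : f₂ v₁ v₁ = 0 := by
    obtain ⟨x, x', hxx⟩ := exists_unit_pair P
    have := hZts _ (hmem x w₀) _ (hmem x' w₀)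
    rwa [P.form_pt, hxx, one_mul] at this
  have hgv : ∀ x, ∃ y, g •ᵥ pt x v₁ = pt y v := fun x => by
    obtain ⟨y, hy⟩ := hmem x w₀
    exact ⟨y, by rw [← hy]; simp [Matrix.toLin'_apply]⟩
  obtain ⟨C, -, hm, hCv⟩ := exists_W_map H hv hw₀ hvv hv₁
  have := inH_of_line H hO (M.mul_mem hg hm) hv hvv fun x => by
    obtain ⟨y, hy⟩ := hgv x
    exact ⟨y, by rw [gl_mulVec_mul, kronGL_pt, Units.val_one, one_mulVec, hCv, hy]⟩
  simpa using InH.mul this (InH.inv ⟨_, _, rfl⟩ : InH (kronGL (1 : GL (Fin a) F) C)⁻¹)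

end CfsgLib.ClassicalMax.UnitTens
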