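/-
A conjugate of a quadratic unipotent of the second factor that is a tensor enlarges the fixed space
of some conjugate of a root element.
-/
import Cfsg.Agent.Lib.ClassicalMax.UnitTens.Rad
import Mathlib.LinearAlgebra.Center
set_option autoImplicit false
set_option linter.unusedSectionVars false

namespace CfsgLib.ClassicalMax.UnitTens

open Matrix Kronecker Module Cfsg.Geo
open CfsgLib.ClassicalMax
open CfsgLib.ClassicalMax.Kron
open CfsgLib.ClassicalMax.TensorSymp (ptL ptL_apply pt_neg_left pt_neg_right pt_sub_left)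
open CfsgLib.ClassicalMax.TensorSL (InH lcon lcon_pt)

variable {F : Type*} [Field F] [DecidableEq F] [Fintype F] {a b : ℕ} {σ : F ≃+* F}
  {f : (Fin a × Fin b → F) → (Fin a × Fin b → F) → F} {f₁ : (Fin a → F) → (Fin a → F) → F}
  {f₂ : (Fin b → F) → (Fin b → F) → F} {M : Subgroup (GL (Fin a × Fin b) F)}

/-- The action of an element on a vector. -/
local notation:80 g:81 " •ᵥ " z:80 => Matrix.mulVec (Units.val g) z

/-- A linear map with only eigenvectors is scalar. -/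
lemma exists_scalar_of_eig {k : ℕ} {T : (Fin k → F) →ₗ[F] (Fin k → F)}
    (h : ∀ x, T x ∈ Submodule.span F {x}) : ∃ c : F, ∀ x, T x = c • x := by
  obtain ⟨c, hc⟩ := T.exists_eq_smul_id_of_forall_notLinearIndependent fun v hv => by
    have hv0 : v ≠ 0 := hv.ne_zero 0
    obtain ⟨t, ht⟩ := Submodule.mem_span_singleton.1 (h v)
    exact (LinearIndependent.pair_iff' hv0).1 hv t ht
  exact ⟨c, fun x => by rw [hc]; rfl⟩

/-- A combination of two generic pure tensors is not pure. -/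
lemma not_two_pt {x x' y : Fin a → F} {w w' z : Fin b → F} {c : F} (hc : c ≠ 0) (hx : x ≠ 0)
    (hw : w ≠ 0) (hx' : x' ∉ Submodule.span F {x}) (hw' : w' ∉ Submodule.span F {w}) :
    pt y z ≠ c • pt x' w' - pt x w := by
  intro he
  obtain ⟨η, h1, h2⟩ := exists_dot_eq hx'
  obtain ⟨η', h3⟩ := exists_sum_dot hx
  have e1 := congrArg (lcon η) he
  rw [lcon_pt, map_sub, map_smul, lcon_pt, lcon_pt, h1, h2, zero_smul, one_smul, sub_zero] at e1
  have e2 := congrArg (lcon η') he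
  rw [lcon_pt, map_sub, map_smul, lcon_pt, lcon_pt, h3, one_smul] at e2
  have hw'0 : w' ≠ 0 := fun e => hw' (e ▸ Submodule.zero_mem _)
  have hy : η ⬝ᵥ y ≠ 0 := fun e => smul_ne_zero hc hw'0 (by rw [← e1, e, zero_smul])
  have hz : z = ((η ⬝ᵥ y)⁻¹ * c) • w' := by rw [mul_smul, ← e1, inv_smul_smul₀ hy]
  rw [hz] at e2
  have hk : w = (c * (η' ⬝ᵥ x') - (η' ⬝ᵥ y) * ((η ⬝ᵥ y)⁻¹ * c)) • w' := by
    rw [sub_smul, mul_smul, mul_smul (η' ⬝ᵥ y), e2]; abel
  set k := c * (η' ⬝ᵥ x') - (η' ⬝ᵥ y) * ((η ⬝ᵥ y)⁻¹ * c)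
  have hk0 : k ≠ 0 := fun e => hw (by rw [hk, e, zero_smul])
  exact hw' (Submodule.mem_span_singleton.2 ⟨k⁻¹, by rw [hk, inv_smul_smul₀ hk0]⟩)

/-- The fixed space of a quadratic isometry is larger than a subspace with a foreign orthogonal. -/
lemma ker_lt (hf₁ : IsUnitaryForm σ f₁) {T : (Fin a → F) →ₗ[F] (Fin a → F)}
    (hiso : ∀ x y, f₁ (T x) (T y) = f₁ x y) (hsq : ∀ u, T (T u - u) = T u - u)
    {E : Submodule F (Fin a → F)} (hE : ∀ e ∈ E, T e = e) {t : Fin a → F}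
    (ht : ∀ e ∈ E, f₁ t e = 0) (htE : t ∉ E) : E < LinearMap.ker (T - (LinearMap.id : (Fin a → F) →ₗ[F] (Fin a → F))) := by
  refine lt_of_le_of_ne (fun e he => by simp [hE e he]) fun hker => ?_
  have hinj : Function.Injective T := fun x y hxy => form_ext hf₁ fun z => by
    rw [← hiso x z, ← hiso y z, hxy]
  have hrg : LinearMap.range (T - (LinearMap.id : (Fin a → F) →ₗ[F] (Fin a → F))) ≤ E := by
    rintro _ ⟨u, rfl⟩
    rw [hker, LinearMap.mem_ker]
    simp [hsq u]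
  obtain ⟨φ, hφt, hφ⟩ := Submodule.exists_dual_map_eq_bot_of_notMem
    (fun h => htE (hrg h)) (inferInstance : Module.Projective F
      ((Fin a → F) ⧸ LinearMap.range (T - (LinearMap.id : (Fin a → F) →ₗ[F] (Fin a → F)))))
  obtain ⟨y, hy⟩ := Unit.exists_form_eq hf₁ φ
  have hyE : y ∈ E := by
    rw [hker, LinearMap.mem_ker, LinearMap.sub_apply, LinearMap.id_apply, sub_eq_zero]
    refine form_ext hf₁ fun z => ?_
    obtain ⟨u, rfl⟩ := (LinearMap.injective_iff_surjective.1 hinj) z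
    rw [hiso]
    have h0 : φ ((T - (LinearMap.id : (Fin a → F) →ₗ[F] (Fin a → F))) u) = 0 := (Submodule.mem_bot F).1
      (hφ ▸ Submodule.mem_map_of_mem (LinearMap.mem_range_self _ u))
    rw [← hy, LinearMap.sub_apply, LinearMap.id_apply, Unit.sub_left hf₁, sub_eq_zero] at h0
    rw [hf₁.herm, ← h0, ← hf₁.herm]
  exact hφt (by rw [← hy, ht y hyE])

variable (H : Hyp σ f f₁ f₂ M)
include H

/-- A root element conjugate fixes what is moved into its kernel. -/
lemma conj_fix {g : GL (Fin a × Fin b) F} {v : Fin b → F} (hvv : f₂ v v = 0) (c : F)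
    {p : Fin a × Fin b → F} (h : cv f₂ v (g •ᵥ p) = 0) :
    (g⁻¹ * kronGL 1 (Unit.uTv H.pair.hf₂ v c) * g) •ᵥ p = p := by
  rw [gl_mulVec_mul, gl_mulVec_mul, root_act H hvv, h, smul_zero, pt_zero_left, add_zero,
    gl_inv_mulVec_mulVec]

/-- Larger fixed spaces give tensors. -/
def Ext (f₂ : (Fin b → F) → (Fin b → F) → F) (M : Subgroup (GL (Fin a × Fin b) F)) (k : ℕ) : Prop :=
  ∀ (X : Submodule F (Fin a → F)) (v : Fin b → F), k < finrank F X → v ≠ 0 → f₂ v v = 0 →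
    ∀ x ∈ M, (∀ u ∈ X, x •ᵥ pt u v = pt u v) → InH x

/-- If some conjugate of a quadratic unipotent is a tensor then so is the conjugating element. -/
theorem inH_of_quad (hO : Only f₂ M) {g : GL (Fin a × Fin b) F} (hg : g ∈ M) {v : Fin b → F}
    (hv : v ≠ 0) (hvv : f₂ v v = 0) {E : Submodule F (Fin a → F)}
    (hfix : ∀ e ∈ E, g •ᵥ pt e v = pt e v) (IH : Ext f₂ M (finrank F E)) {t : Fin a → F}
    (ht : ∀ e ∈ E, f₁ t e = 0) (htE : t ∉ E) {B : GL (Fin b) F} (hB : B ∈ Unit.isoOf f₂)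
    (hBv : B •ᵥ v = v) (hBk : ∀ w, f₂ (B •ᵥ w - w) v = 0)
    (hBsq : ∀ w, B •ᵥ (B •ᵥ w - w) = B •ᵥ w - w) {w₁ : Fin b → F} (hw₁ : B •ᵥ w₁ ≠ w₁)
    (hh : InH (g * kronGL 1 B * g⁻¹)) : InH g := by
  classical
  have P := H.pair
  have hf₁ := P.hf₁
  have hf₂ := P.hf₂
  obtain ⟨τ, hτ0, hτ⟩ := Unit.exists_trace_zero P.hf.ne_refl P.hf.involutive
  obtain ⟨A, B', hx⟩ := hh
  set K : GL (Fin a × Fin b) F := kronGL 1 B with hK
  set h := kronGL A B' with hh
  have hKiso : ∀ z z', f (K •ᵥ z) (K •ᵥ z') = f z z' :=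
    Unit.mem_isoOf.1 (kron_mem_iso P (one_mem _) hB)
  have hpt : ∀ x w, h •ᵥ pt x w = pt (A •ᵥ x) (B' •ᵥ w) := fun x w => kronGL_pt A B' x w
  have hiso : ∀ z z', f (h •ᵥ z) (h •ᵥ z') = f z z' := fun z z' => by
    rw [← hx, gl_mulVec_mul, gl_mulVec_mul, gl_mulVec_mul, gl_mulVec_mul, H.iso g hg, hKiso,
      H.iso _ (M.inv_mem hg)]
  have hKsq : ∀ z, K •ᵥ (K •ᵥ z - z) = K •ᵥ z - z := by
    have := linear_ext (a := a) (b := b)
      (f := (Matrix.toLin' K.val).comp (Matrix.toLin' K.val - LinearMap.id))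
      (g := Matrix.toLin' K.val - LinearMap.id) fun x w => by
        simp [Matrix.toLin'_apply, hK, kronGL_pt, ← pt_sub_right, mulVec_sub, hBsq]
    intro z
    simpa [Matrix.toLin'_apply] using LinearMap.congr_fun this z
  have hKcv : ∀ z, cv f₂ v (K •ᵥ z - z) = 0 := by
    have := linear_ext (a := a) (b := b)
      (f := (cv f₂ v).comp (Matrix.toLin' K.val - LinearMap.id)) (g := 0) fun x w => by
        simp [Matrix.toLin'_apply, hK, kronGL_pt, ← pt_sub_right, cv_pt P, hBk]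
    intro z
    simpa [Matrix.toLin'_apply] using LinearMap.congr_fun this z
  have hsub : ∀ z, h •ᵥ z - z = g •ᵥ (K •ᵥ (g⁻¹ •ᵥ z) - g⁻¹ •ᵥ z) := fun z => by
    rw [← hx, gl_mulVec_mul, gl_mulVec_mul, mulVec_sub, gl_mulVec_inv_mulVec]
  have hsq : ∀ z, h •ᵥ (h •ᵥ z - z) = h •ᵥ z - z := fun z => by
    rw [hsub, ← hx, gl_mulVec_mul, gl_mulVec_mul, gl_inv_mulVec_mulVec, hKsq]
  have hts : ∀ z z', f (h •ᵥ z - z) (h •ᵥ z' - z') = 0 := fun z z' => by
    have e := hiso z (h •ᵥ z' - z')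
    rw [hsq] at e
    rw [Unit.sub_left P.hf, e, sub_self]
  have hfixh : ∀ e ∈ E, h •ᵥ pt e v = pt e v := fun e he => by
    have h1 : g⁻¹ •ᵥ pt e v = pt e v := by
      conv_lhs => rw [← hfix e he]
      rw [gl_inv_mulVec_mulVec]
    rw [← hx, gl_mulVec_mul, gl_mulVec_mul, h1, hK, kronGL_pt, Units.val_one, one_mulVec, hBv,
      hfix e he]
  have hne : ¬ ∀ z, h •ᵥ z = z := fun e => by
    obtain ⟨⟨x, hx0⟩, -⟩ := exists_vec P
    have e1 := congrArg (fun y => g⁻¹ •ᵥ y) (e (g •ᵥ pt x w₁))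
    rw [← hx, gl_mulVec_mul, gl_mulVec_mul, gl_inv_mulVec_mulVec] at e1
    simp only [gl_inv_mulVec_mulVec, hK, kronGL_pt, Units.val_one, one_mulVec] at e1
    exact hw₁ (sub_eq_zero.1 (by
      by_contra hn
      exact pt_ne_zero hx0 hn (by rw [pt_sub_right, e1, sub_self])))
  have hX : ∀ (X : Submodule F (Fin a → F)) (v' : Fin b → F), finrank F E < finrank F X → v' ≠ 0 →
      f₂ v' v' = 0 → (∀ u ∈ X, ∃ z, pt u v' = h •ᵥ z - z) → InH g := by
    intro X v' hd hv'0 hv'v' hmem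
    have hI := IH X v' hd hv'0 hv'v'
      ((g⁻¹)⁻¹ * kronGL 1 (Unit.uTv hf₂ v τ) * g⁻¹)
      (M.mul_mem (M.mul_mem (M.inv_mem (M.inv_mem hg)) (memTv H hvv hτ)) (M.inv_mem hg))
      fun u hu => conj_fix H hvv τ (by
        obtain ⟨z, hz⟩ := hmem u hu
        rw [hz, hsub, gl_inv_mulVec_mulVec, hKcv])
    simpa using InH.inv (inH_of_root H hO (M.inv_mem hg) hv hvv hτ0 hI)
  obtain ⟨e₁, e₀, he₁⟩ := exists_unit_pair P
  have hE : finrank F E < a := by
    have := Submodule.finrank_lt (s := E) (fun e => htE (e ▸ Submodule.mem_top))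
    rwa [finrank_fin_fun] at this
  let TA := Matrix.toLin' (A : Matrix (Fin a) (Fin a) F)
  let TB := Matrix.toLin' (B' : Matrix (Fin b) (Fin b) F)
  by_cases hA : ∀ x, TA x ∈ Submodule.span F {x}
  · obtain ⟨ρ, hρ⟩ := exists_scalar_of_eig hA
    have hpt' : ∀ x w, h •ᵥ pt x w - pt x w = pt x (ρ • (B' •ᵥ w) - w) := fun x w => by
      have e : A •ᵥ x = ρ • x := by rw [← hρ, Matrix.toLin'_apply]
      rw [hpt, e, pt_smul_left, pt_sub_right, pt_smul_right]
    obtain ⟨w₀, hw₀⟩ : ∃ w₀, ρ • (B' •ᵥ w₀) - w₀ ≠ 0 := by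
      by_contra hcon
      push Not at hcon
      refine hne fun z => ?_
      have := linear_ext (a := a) (b := b) (f := Matrix.toLin' h.val) (g := LinearMap.id) fun x w => by
        rw [Matrix.toLin'_apply, LinearMap.id_apply, ← sub_eq_zero, hpt', hcon, pt_zero_right]
      simpa [Matrix.toLin'_apply] using LinearMap.congr_fun this z
    refine hX ⊤ _ (by rw [finrank_top, finrank_fin_fun]; exact hE) hw₀ ?_ fun u _ =>
      ⟨pt u w₀, (hpt' u w₀).symm⟩
    have := hts (pt e₁ w₀) (pt e₀ w₀)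
    rwa [hpt', hpt', P.form_pt, he₁, one_mul] at this
  push Not at hA
  obtain ⟨x₀, hx₀⟩ := hA
  by_cases hBs : ∀ w, TB w ∈ Submodule.span F {w}
  · obtain ⟨ρ, hρ⟩ := exists_scalar_of_eig hBs
    let T : (Fin a → F) →ₗ[F] (Fin a → F) := ρ • TA
    have hpt' : ∀ x w, h •ᵥ pt x w = pt (T x) w := fun x w => by
      have e : B' •ᵥ w = ρ • w := by rw [← hρ, Matrix.toLin'_apply]
      rw [hpt, e, pt_smul_right, ← pt_smul_left]
      rfl
    obtain ⟨w, w', hww⟩ : ∃ w w', f₂ w w' = 1 := by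
      obtain ⟨-, ⟨w, hw⟩⟩ := exists_vec P
      obtain ⟨y, -, hy⟩ := exists_pair_one hf₂ (nondeg_top hf₂) (Submodule.mem_top (x := w)) hw
      exact ⟨y, w, hy⟩
    have hTiso : ∀ x y, f₁ (T x) (T y) = f₁ x y := fun x y => by
      have := hiso (pt x w) (pt y w')
      rwa [hpt', hpt', P.form_pt, P.form_pt, hww, mul_one, mul_one] at this
    have hw0 : w ≠ 0 := fun e => one_ne_zero (α := F) (by rw [← hww, e, Unit.zero_left hf₂])
    have hTsq : ∀ u, T (T u - u) = T u - u := fun u => by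
      refine ptR_injective hw0 ?_
      have := hsq (pt u w)
      rw [hpt', ← pt_sub_left, hpt'] at this
      exact this
    have hTE : ∀ e ∈ E, T e = e := fun e he => ptR_injective hv (by
      show pt _ v = pt e v
      rw [← hpt', hfixh e he])
    have hlt := Submodule.finrank_lt_finrank_of_lt (ker_lt hf₁ hTiso hTsq hTE ht htE)
    set l := B •ᵥ w₁ - w₁ with hl
    have hl0 : l ≠ 0 := sub_ne_zero.2 hw₁
    have hll : f₂ l l = 0 := by
      have e := Unit.mem_isoOf.1 hB w₁ l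
      rw [hl, hBsq, ← hl] at e
      nth_rw 1 [hl]
      rw [Unit.sub_left hf₂, e, sub_self]
    let L : (Fin a → F) →ₗ[F] (Fin a → F) := (cv f₂ v).comp ((Matrix.toLin' g.val).comp (ptR l))
    have hL : ∀ u, L u = (T - (LinearMap.id : (Fin a → F) →ₗ[F] (Fin a → F))) (cv f₂ v (g •ᵥ pt u w₁)) := fun u => by
      have e1 : g •ᵥ pt u l = h •ᵥ (g •ᵥ pt u w₁) - g •ᵥ pt u w₁ := by
        rw [hsub, gl_inv_mulVec_mulVec, hK, kronGL_pt, Units.val_one, one_mulVec, ← pt_sub_right]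
      have e2 : ∀ z, cv f₂ v (h •ᵥ z) = T (cv f₂ v z) := fun z => by
        have := linear_ext (a := a) (b := b) (f := (cv f₂ v).comp (Matrix.toLin' h.val))
          (g := T.comp (cv f₂ v)) fun x w => by
            simp [Matrix.toLin'_apply, hpt', cv_pt P]
        simpa [Matrix.toLin'_apply] using LinearMap.congr_fun this z
      simp only [L, LinearMap.comp_apply, Matrix.toLin'_apply, ptR_apply, e1, map_sub, e2,
        LinearMap.sub_apply, LinearMap.id_apply]
    have hker : finrank F (LinearMap.ker (T - (LinearMap.id : (Fin a → F) →ₗ[F] (Fin a → F)))) ≤ finrank F (LinearMap.ker L) := by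
      have h1 := LinearMap.finrank_range_add_finrank_ker (T - (LinearMap.id : (Fin a → F) →ₗ[F] (Fin a → F)))
      have h2 := LinearMap.finrank_range_add_finrank_ker L
      have h3 : finrank F (LinearMap.range L) ≤ finrank F (LinearMap.range (T - (LinearMap.id : (Fin a → F) →ₗ[F] (Fin a → F)))) :=
        Submodule.finrank_mono (by rintro _ ⟨u, rfl⟩; exact ⟨_, (hL u).symm⟩)
      omega
    exact inH_of_root H hO hg hv hvv hτ0 (IH (LinearMap.ker L) l (by omega) hl0 hll _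
      (M.mul_mem (M.mul_mem (M.inv_mem hg) (memTv H hvv hτ)) hg) fun u hu => conj_fix H hvv τ hu)
  push Not at hBs
  obtain ⟨w₀, hw₀⟩ := hBs
  simp only [TA, TB, Matrix.toLin'_apply] at hx₀ hw₀
  have h2sq : ∀ x w, pt (A •ᵥ (A •ᵥ x)) (B' •ᵥ (B' •ᵥ w)) =
      (2 : F) • pt (A •ᵥ x) (B' •ᵥ w) - pt x w := fun x w => by
    have := hsq (pt x w)
    rw [mulVec_sub, hpt, hpt, sub_eq_iff_eq_add] at this
    rw [this, two_smul]
    abel
  have h2 : (2 : F) = 0 := by
    by_contra h2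
    exact not_two_pt h2 (fun e => hx₀ (by simp [e])) (fun e => hw₀ (by simp [e])) hx₀ hw₀
      (h2sq x₀ w₀)
  have hneg : ∀ {κ : Type} (z : κ → F), -z = z := fun z => funext fun i => by
    show -(z i) = z i
    linear_combination (-(z i)) * h2
  have hone : kronGL (A * A) (B' * B') = 1 := gl_ext_pt fun x w => by
    rw [kronGL_pt, gl_mulVec_mul, gl_mulVec_mul, h2sq, h2, zero_smul, zero_sub, hneg,
      Units.val_one, one_mulVec]
  obtain ⟨c, hc⟩ := TensorSL.exists_scalar (slHyp P) (A := A * A) (B := B' * B')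
    (Z := ⊥) (by rw [finrank_bot]; exact Nat.zero_le a) fun z => by
      rw [hone, Units.val_one, one_mulVec, sub_self]
      exact Submodule.zero_mem _
  have hc0 : c ≠ 0 := fun e => by
    obtain ⟨⟨x, hx0⟩, -⟩ := exists_vec P
    refine hx0 (gl_mulVec_injective (A * A) ?_)
    show _ *ᵥ _ = _ *ᵥ _
    rw [hc, e, zero_smul, mulVec_zero]
  obtain ⟨s, hs⟩ : ∃ s : F, s * s = c⁻¹ := by
    haveI : CharP F 2 := CharTwo.of_one_ne_zero_of_two_eq_zero one_ne_zero h2
    obtain ⟨y, hy⟩ := FiniteField.isSquare_of_char_two (ringChar.eq F 2) c⁻¹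
    exact ⟨y, hy.symm⟩
  have hs0 : s ≠ 0 := fun e => inv_ne_zero hc0 (by rw [← hs, e, mul_zero])
  let T : (Fin a → F) →ₗ[F] (Fin a → F) := s • TA
  let U : (Fin b → F) →ₗ[F] (Fin b → F) := s⁻¹ • TB
  have hpt' : ∀ x w, h •ᵥ pt x w = pt (T x) (U w) := fun x w => by
    rw [hpt, show T x = s • (A •ᵥ x) from rfl, show U w = s⁻¹ • (B' •ᵥ w) from rfl, pt_smul_left,
      pt_smul_right, smul_inv_smul₀ hs0]
  have hTT : ∀ x, T (T x) = x := fun x => by
    show s • (A •ᵥ (s • (A •ᵥ x))) = x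
    rw [mulVec_smul, smul_smul, hs, ← gl_mulVec_mul, hc, inv_smul_smul₀ hc0]
  obtain ⟨w, w', hww⟩ : ∃ w w', f₂ w w' = 1 := by
    obtain ⟨-, ⟨w, hw⟩⟩ := exists_vec P
    obtain ⟨y, -, hy⟩ := exists_pair_one hf₂ (nondeg_top hf₂) (Submodule.mem_top (x := w)) hw
    exact ⟨y, w, hy⟩
  have hmul : ∀ x y w w', f₁ (T x) (T y) * f₂ (U w) (U w') = f₁ x y * f₂ w w' := fun x y w w' => by
    have := hiso (pt x w) (pt y w')
    rwa [hpt', hpt', P.form_pt, P.form_pt] at this
  set μ := f₂ (U w) (U w')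
  have hμ : μ = 1 := by
    have e1 : f₁ (T e₁) (T e₀) * μ = 1 := by rw [hmul, he₁, hww, mul_one]
    have e2 : f₁ e₁ e₀ * μ = f₁ (T e₁) (T e₀) := by
      have := hmul (T e₁) (T e₀) w w'
      rwa [hTT, hTT, hww, mul_one] at this
    rw [← e2, he₁, one_mul] at e1
    refine sub_eq_zero.1 (pow_eq_zero_iff (n := 2) two_ne_zero |>.1 ?_)
    linear_combination e1 + (1 - μ) * h2
  have hTiso : ∀ x y, f₁ (T x) (T y) = f₁ x y := fun x y => by
    have := hmul x y w w'
    rwa [show f₂ (U w) (U w') = 1 from hμ, hww, mul_one, mul_one] at this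
  have hUiso : ∀ x y, f₂ (U x) (U y) = f₂ x y := fun x y => by
    have := hmul e₁ e₀ x y
    rwa [hTiso, he₁, one_mul, one_mul] at this
  have hTsq : ∀ u, T (T u - u) = T u - u := fun u => by
    rw [map_sub, hTT, ← neg_sub, hneg]
  have hTE : ∀ e ∈ E, T e = e := by
    intro e he
    rcases eq_or_ne e 0 with rfl | he0
    · rw [map_zero]
    have hU : pt (T e) (U v) = pt e v := by rw [← hpt', hfixh e he]
    obtain ⟨η, hη⟩ := exists_sum_dot he0
    have h1 := congrArg (lcon η) hU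
    rw [lcon_pt, lcon_pt, hη, one_smul] at h1
    set k := η ⬝ᵥ T e
    have h2' : T e = k • e := by
      refine ptR_injective hv ?_
      show pt _ v = pt _ v
      conv_lhs => rw [← h1]
      rw [pt_smul_right, hU, pt_smul_left]
    have hk : k * k = 1 := by
      have e1 := hTT e
      rw [h2', map_smul, h2', smul_smul] at e1
      exact smul_left_injective F he0 (e1.trans (one_smul F e).symm)
    have : k = 1 := sub_eq_zero.1 (pow_eq_zero_iff (n := 2) two_ne_zero |>.1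
      (by linear_combination hk + (1 - k) * h2))
    rw [h2', this, one_smul]
  have hlt := Submodule.finrank_lt_finrank_of_lt (ker_lt hf₁ hTiso hTsq hTE ht htE)
  have hv'0 : U w₀ - w₀ ≠ 0 := fun e => hw₀ (Submodule.mem_span_singleton.2 ⟨s, by
    have : s⁻¹ • (B' •ᵥ w₀) = w₀ := sub_eq_zero.1 e
    rw [← this, smul_inv_smul₀ hs0, this]⟩)
  have hvv' : f₂ (U w₀ - w₀) (U w₀ - w₀) = 0 := by
    have hUU : f₂ w₀ (U w₀) = f₂ (U w₀) w₀ := by
      refine (hUiso w₀ (U w₀)).symm.trans (congrArg _ ?_)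
      show s⁻¹ • (B' •ᵥ (s⁻¹ • (B' •ᵥ w₀))) = w₀
      have h3 : pt (T (T e₁)) (U (U w₀)) = pt e₁ w₀ := by
        have := hsq (pt e₁ w₀)
        rw [mulVec_sub, hpt', hpt', sub_eq_iff_eq_add] at this
        rw [this, sub_add_eq_add_sub, ← two_smul F, h2, zero_smul, zero_sub, hneg]
      rw [hTT] at h3
      have he₁0 : e₁ ≠ 0 := fun e => one_ne_zero (α := F) (by rw [← he₁, e, Unit.zero_left hf₁])
      obtain ⟨η, hη⟩ := exists_sum_dot he₁0
      have := congrArg (lcon η) h3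
      rwa [lcon_pt, lcon_pt, hη, one_smul, one_smul] at this
    rw [Unit.sub_left hf₂, Unit.sub_right hf₂, Unit.sub_right hf₂, hUiso, hUU]
    linear_combination (f₂ w₀ w₀ - f₂ (U w₀) w₀) * h2
  refine hX (LinearMap.ker (T - (LinearMap.id : (Fin a → F) →ₗ[F] (Fin a → F)))) _ (by omega) hv'0 hvv' fun u hu => ⟨pt u w₀, ?_⟩
  rw [hpt', show T u = u from sub_eq_zero.1 hu, pt_sub_right]

end CfsgLib.ClassicalMax.UnitTens
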