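/-
Descent through the fixed spaces of a tensor line: with only scalar root sets every element is a
tensor, outside one small pair of dimensions.
-/
import Cfsg.Agent.Lib.ClassicalMax.UnitTens.Quad
import Cfsg.Agent.Lib.ClassicalMax.UnitTens.CW
set_option autoImplicit false
set_option linter.unusedSectionVars false

namespace CfsgLib.ClassicalMax.UnitTens

open Matrix Kronecker Module Cfsg.Geo
open CfsgLib.ClassicalMax
open CfsgLib.ClassicalMax.Kron
open CfsgLib.ClassicalMax.TensorSymp (ptL ptL_apply pt_neg_left pt_neg_right pt_sub_left)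
open CfsgLib.ClassicalMax.TensorSL (InH lcon lcon_pt)

variable {F : Type*} [Field F] [DecidableEq F] [Fintype F] {a b : ℕ} {σ : F ≃+* F}
  {f : (Fin a × Fin b → F) → (Fin a × Fin b → F) → F} {f₁ : (Fin a → F) → (Fin a → F) → F}
  {f₂ : (Fin b → F) → (Fin b → F) → F} {M : Subgroup (GL (Fin a × Fin b) F)}

/-- The action of an element on a vector. -/
local notation:80 g:81 " •ᵥ " z:80 => Matrix.mulVec (Units.val g) z

/-- The skew-hermitian map of a coefficient family on a totally singular frame. -/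
def frameMap {κ : Type} [Fintype κ] [DecidableEq κ] {g : (κ → F) → (κ → F) → F}
    (hg : IsUnitaryForm σ g) {m : ℕ} (s : Fin m → κ → F) (c : Fin m → Fin m → F) :
    (κ → F) →ₗ[F] (κ → F) := ∑ u, ∑ w, c u w • (Unit.formL hg (s w)).smulRight (s u)

lemma frameMap_apply {κ : Type} [Fintype κ] [DecidableEq κ] {g : (κ → F) → (κ → F) → F}
    (hg : IsUnitaryForm σ g) {m : ℕ} (s : Fin m → κ → F) (c : Fin m → Fin m → F) (z : κ → F) :
    frameMap hg s c z = ∑ u, ∑ w, (c u w * g z (s w)) • s u := by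
  simp [frameMap, smul_smul]

lemma form_sum_left {κ : Type} [Fintype κ] [DecidableEq κ] {g : (κ → F) → (κ → F) → F}
    (hg : IsUnitaryForm σ g) {α : Type} (S : Finset α) (p : α → κ → F) (y : κ → F) :
    g (∑ i ∈ S, p i) y = ∑ i ∈ S, g (p i) y := map_sum (Unit.formL hg y) p S

lemma form_sum_right {κ : Type} [Fintype κ] [DecidableEq κ] {g : (κ → F) → (κ → F) → F}
    (hg : IsUnitaryForm σ g) {α : Type} (S : Finset α) (p : α → κ → F) (y : κ → F) :
    g y (∑ i ∈ S, p i) = ∑ i ∈ S, g y (p i) := by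
  rw [hg.herm, form_sum_left hg, map_sum]
  exact Finset.sum_congr rfl fun i _ => (hg.herm y (p i)).symm

/-- The unipotent of a coefficient family on a totally singular frame. -/
lemma exists_frame_unipotent {κ : Type} [Fintype κ] [DecidableEq κ] {g : (κ → F) → (κ → F) → F}
    (hg : IsUnitaryForm σ g) {m : ℕ} {s t : Fin m → κ → F} (hss : ∀ i j, g (s i) (s j) = 0)
    (hts : ∀ i j, g (t i) (s j) = if i = j then 1 else 0) {c : Fin m → Fin m → F}
    (hc : ∀ u w, σ (c u w) = -c w u) (hc0 : ∃ u w, c u w ≠ 0) :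
    ∃ B : GL κ F, B ∈ Unit.isoOf g ∧ Matrix.det (B : Matrix κ κ F) = 1 ∧
      (∀ z, B •ᵥ z = z + frameMap hg s c z) ∧ (∀ z j, g (frameMap hg s c z) (s j) = 0) ∧
      (∀ j, frameMap hg s c (s j) = 0) ∧ (∀ z, frameMap hg s c (frameMap hg s c z) = 0) ∧
      ∃ z, B •ᵥ z ≠ z := by
  classical
  set N := frameMap hg s c with hN
  have hNs : ∀ z j, g (N z) (s j) = 0 := fun z j => by
    simp [hN, frameMap_apply, form_sum_left hg, hg.smul_left, hss]
  have hN0 : ∀ j, N (s j) = 0 := fun j => by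
    simp [hN, frameMap_apply, hss]
  have hN2 : ∀ z, N (N z) = 0 := fun z => by
    rw [hN, frameMap_apply hg s c (frameMap hg s c z)]
    exact Finset.sum_eq_zero fun u _ => Finset.sum_eq_zero fun w _ => by
      rw [← hN, hNs, mul_zero, zero_smul]
  have hskew : ∀ z z', g (N z) z' + g z (N z') = 0 := by
    intro z z'
    simp only [hN, frameMap_apply, form_sum_left hg, form_sum_right hg, hg.smul_left,
      Unit.smul_right hg, map_mul, hc, ← hg.herm (s _) z']
    rw [Finset.sum_comm (f := fun u w => -c w u * _ * _)]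
    simp only [← Finset.sum_add_distrib]
    exact Finset.sum_eq_zero fun u _ => Finset.sum_eq_zero fun w _ => by ring
  set Nm := LinearMap.toMatrix' N with hNm
  have hNm2 : Nm * Nm = 0 := by
    rw [hNm, ← LinearMap.toMatrix'_comp, show N.comp N = 0 from LinearMap.ext hN2, map_zero]
  let B : GL κ F := ⟨1 + Nm, 1 - Nm, by simp [mul_sub, add_mul, hNm2],
    by simp [sub_mul, mul_add, hNm2]⟩
  have hB : ∀ z, B •ᵥ z = z + N z := fun z => by
    show (1 + Nm) *ᵥ z = _
    rw [add_mulVec, one_mulVec, hNm, LinearMap.toMatrix'_mulVec]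
  refine ⟨B, ?_, ?_, hB, hNs, hN0, hN2, ?_⟩
  · refine Unit.mem_isoOf.2 fun z z' => ?_
    have h1 : g (N z) (N z') = 0 := by
      rw [hN, frameMap_apply hg s c z', form_sum_right hg]
      simp [form_sum_right hg, Unit.smul_right hg, ← hN, hNs]
    rw [hB, hB, hg.add_left, Unit.add_right hg, Unit.add_right hg, h1]
    linear_combination hskew z z'
  · exact det_one_add_sq_zero hNm2
  · obtain ⟨u, w, huw⟩ := hc0
    refine ⟨t w, fun e => huw ?_⟩
    rw [hB, add_eq_left] at e
    have h1 : g (t u) (N (t w)) = 0 := by rw [e, Unit.zero_right hg]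
    simp only [hN, frameMap_apply, form_sum_right hg, Unit.smul_right hg, hts, mul_ite, mul_one,
      mul_zero, Finset.sum_ite_eq', Finset.mem_univ, if_true, apply_ite σ, map_zero, ite_mul,
      zero_mul] at h1
    simpa [hc] using congrArg σ h1

variable (H : Hyp σ f f₁ f₂ M)
include H

/-- The step of the descent. -/
theorem inH_step (hO : Only f₂ M) {g : GL (Fin a × Fin b) F} (hg : g ∈ M) {v : Fin b → F}
    (hv : v ≠ 0) (hvv : f₂ v v = 0) {E : Submodule F (Fin a → F)}
    (hfix : ∀ e ∈ E, g •ᵥ pt e v = pt e v) (IH : Ext f₂ M (finrank F E))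
    (hdim : a - finrank F E < (b / 2) * (b / 2)) : InH g := by
  classical
  have P := H.pair
  have hf₁ := P.hf₁
  have hf₂ := P.hf₂
  obtain ⟨τ, hτ0, hτ⟩ := Unit.exists_trace_zero P.hf.ne_refl P.hf.involutive
  have hgi : ∀ e ∈ E, g⁻¹ •ᵥ pt e v = pt e v := fun e he => by
    conv_lhs => rw [← hfix e he]
    rw [gl_inv_mulVec_mulVec]
  by_cases hT : ∀ x, cv f₂ v (g •ᵥ pt x v) ∈ E
  · refine inH_of_root H hO hg hv hvv hτ0 (inH_of_line H hO
      (M.mul_mem (M.mul_mem (M.inv_mem hg) (memTv H hvv hτ)) hg) hv hvv fun x =>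
      ⟨x + τ • cv f₂ v (g •ᵥ pt x v), ?_⟩)
    rw [gl_mulVec_mul, gl_mulVec_mul, root_act H hvv, mulVec_add, gl_inv_mulVec_mulVec,
      hgi _ (E.smul_mem τ (hT x)), pt_add_left]
  push Not at hT
  obtain ⟨x₀, htE⟩ := hT
  set t₀ := cv f₂ v (g •ᵥ pt x₀ v)
  have ht : ∀ e ∈ E, f₁ t₀ e = 0 := fun e he => by
    rw [← form_ptv P]
    conv_lhs => arg 2; rw [← hfix e he]
    rw [H.iso g hg, P.form_pt, hvv, mul_zero]
  obtain ⟨C, hC⟩ := E.exists_isCompl
  let ε := Module.finBasis F C
  set d := finrank F C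
  have hEC : finrank F E + d = a := by
    rw [Submodule.finrank_add_eq_of_isCompl hC, finrank_fin_fun]
  have hd : 0 < d := by
    rcases Nat.eq_zero_or_pos d with h | h
    · refine absurd ?_ htE
      rw [show E = ⊤ from Submodule.eq_top_of_finrank_eq (by rw [finrank_fin_fun]; omega)]
      exact Submodule.mem_top
    · exact h
  obtain ⟨m, hm⟩ : ∃ m, b / 2 = m + 1 := ⟨b / 2 - 1, by have := P.five_le; omega⟩
  obtain ⟨s, t, hs0, -, hss, hts⟩ := exists_frame hf₂ m ⊤ v (nondeg_top hf₂) Submodule.mem_top hv hvv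
    (by rw [finrank_top, finrank_fin_fun]; omega)
  obtain ⟨ω, -, hω⟩ := exists_sq_not_fixed P.hf
  let p : Fin d → (Fin a × Fin b → F) := fun i => g⁻¹ •ᵥ pt (ε i : Fin a → F) v
  let k : Fin d → Fin d → Fin (m + 1) → Fin (m + 1) → F := fun i j u w =>
    f₁ (cv f₂ (s w) (p i)) (cv f₂ (s u) (p j))
  have hskew : ∀ x : Fin (m + 1) → Fin (m + 1) → F, (∀ u w, σ (x u w) = x u w) → ∀ i j,
      σ (∑ u, ∑ w, coef σ ω x u w * k i j u w) = -∑ u, ∑ w, coef σ ω x u w * k j i u w := by
    intro x hx i j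
    rw [map_sum, Finset.sum_comm, ← Finset.sum_neg_distrib]
    simp only [map_sum]
    refine Finset.sum_congr rfl fun u _ => ?_
    rw [← Finset.sum_neg_distrib]
    refine Finset.sum_congr rfl fun w _ => ?_
    rw [map_mul, star_coef P.hf.involutive ω hx]
    simp only [k, ← hf₁.herm]
    ring
  obtain ⟨x, hx0, hxfix, c, hc0, hc⟩ := exists_singular P.hf.ne_refl P.hf.involutive hd
    (m := m + 1) (by rw [← hm]; omega) ω k hskew
  set cf : Fin (m + 1) → Fin (m + 1) → F := coef σ ω x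
  obtain ⟨B, hBiso, hBdet, hB, hNs, hNv, hN2, w₁, hw₁⟩ := exists_frame_unipotent hf₂ hss hts
    (c := cf) (star_coef P.hf.involutive ω hxfix) (by
      by_contra hcon
      push Not at hcon
      exact hx0 (coef_eq_zero hω hcon))
  set N := frameMap hf₂ s cf
  have hBv : B •ᵥ v = v := by rw [hB, ← hs0, hNv, add_zero]
  set K : GL (Fin a × Fin b) F := kronGL 1 B with hK
  set h := g * K * g⁻¹ with hh
  have hKM : K ∈ M := memW H hBiso hBdet
  have hhM : h ∈ M := M.mul_mem (M.mul_mem hg hKM) (M.inv_mem hg)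
  have hhE : ∀ e ∈ E, h •ᵥ pt e v = pt e v := fun e he => by
    rw [hh, gl_mulVec_mul, gl_mulVec_mul, hgi e he, hK, kronGL_pt, Units.val_one, one_mulVec, hBv,
      hfix e he]
  set u₀ : Fin a → F := ∑ i, c i • (ε i : Fin a → F) with hu₀
  have hu₀E : u₀ ∉ E := fun hmem => by
    have h0 : (∑ i, c i • ε i : C) = 0 := by
      refine Subtype.ext ?_
      have hCm : u₀ ∈ C := C.sum_mem fun i _ => C.smul_mem _ (ε i).2
      have : u₀ ∈ (⊥ : Submodule F (Fin a → F)) := hC.inf_eq_bot ▸ ⟨hmem, hCm⟩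
      simpa [hu₀] using (Submodule.mem_bot F).1 this
    exact hc0 (funext fun i => Fintype.linearIndependent_iff.1 ε.linearIndependent c h0 i)
  have hKsub : ∀ z, K •ᵥ z - z = ∑ u, ∑ w, pt (cf u w • cv f₂ (s w) z) (s u) := by
    have := linear_ext (a := a) (b := b) (f := Matrix.toLin' K.val - LinearMap.id)
      (g := ∑ u, ∑ w, (ptR (s u)).comp (cf u w • cv f₂ (s w))) fun y z => by
        simp only [LinearMap.sub_apply, Matrix.toLin'_apply, LinearMap.id_apply, LinearMap.sum_apply,
          LinearMap.comp_apply, LinearMap.smul_apply, ptR_apply, hK, kronGL_pt, Units.val_one,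
          one_mulVec, hB, pt_add_right, add_sub_cancel_left, cv_pt P, N, frameMap_apply]
        rw [show pt y (∑ u, ∑ w, (cf u w * f₂ z (s w)) • s u)
          = ∑ u, ∑ w, pt y ((cf u w * f₂ z (s w)) • s u) by
            rw [← ptL_apply, map_sum]; simp [map_sum, pt_smul_right]]
        exact Finset.sum_congr rfl fun u _ => Finset.sum_congr rfl fun w _ => by
          rw [smul_smul, pt_smul_left, pt_smul_right]
    intro z
    have h1 := LinearMap.congr_fun this z
    simp only [LinearMap.sub_apply, Matrix.toLin'_apply, LinearMap.id_apply, LinearMap.sum_apply,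
      LinearMap.comp_apply, LinearMap.smul_apply, ptR_apply] at h1
    exact h1
  have hperpC : ∀ j, f₁ (cv f₂ v (h •ᵥ pt u₀ v)) (ε j : Fin a → F) = 0 := by
    intro j
    rw [← form_ptv P, hh, gl_mulVec_mul, gl_mulVec_mul, ← H.iso _ (M.inv_mem hg),
      gl_inv_mulVec_mulVec]
    have hp : g⁻¹ •ᵥ pt u₀ v = ∑ i, c i • p i := by
      rw [hu₀, ← ptR_apply, map_sum, mulVec_sum]
      exact Finset.sum_congr rfl fun i _ => by rw [map_smul, ptR_apply, mulVec_smul]
    have h0 : f (g⁻¹ •ᵥ pt u₀ v) (p j) = 0 := by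
      rw [H.iso _ (M.inv_mem hg), P.form_pt, hvv, mul_zero]
    have h1 : f (K •ᵥ (g⁻¹ •ᵥ pt u₀ v) - g⁻¹ •ᵥ pt u₀ v) (p j) = 0 := by
      rw [hp, mulVec_sum, ← Finset.sum_sub_distrib, form_sum_left P.hf, ← hc j]
      refine Finset.sum_congr rfl fun i _ => ?_
      rw [mulVec_smul, ← smul_sub, P.hf.smul_left, hKsub, form_sum_left P.hf]
      congr 1
      refine Finset.sum_congr rfl fun u _ => ?_
      rw [form_sum_left P.hf]
      refine Finset.sum_congr rfl fun w _ => ?_
      rw [P.hf.herm, form_ptv P, ← hf₁.herm, hf₁.smul_left]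
    rwa [Unit.sub_left P.hf, h0, sub_zero] at h1
  let L : (Fin a → F) →ₗ[F] (Fin a → F) := (cv f₂ v).comp ((Matrix.toLin' h.val).comp (ptR v))
  have hEL : E ≤ LinearMap.ker L := fun e he => by
    simp [L, Matrix.toLin'_apply, hhE e he, cv_pt_self P hvv]
  have huL : u₀ ∈ LinearMap.ker L := by
    simp only [L, LinearMap.mem_ker, LinearMap.comp_apply, Matrix.toLin'_apply, ptR_apply]
    refine form_ext hf₁ fun y => ?_
    rw [Unit.zero_left hf₁]
    have hy : y ∈ E ⊔ C := by rw [hC.sup_eq_top]; exact Submodule.mem_top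
    obtain ⟨e, he, z, hz, rfl⟩ := Submodule.mem_sup.1 hy
    have he' : f₁ (cv f₂ v (h •ᵥ pt u₀ v)) e = 0 := by
      rw [← form_ptv P]
      conv_lhs => arg 2; rw [← hhE e he]
      rw [H.iso h hhM, P.form_pt, hvv, mul_zero]
    have hz' : z = ∑ i, ε.repr ⟨z, hz⟩ i • (ε i : Fin a → F) := by
      have := congrArg Subtype.val (ε.sum_repr ⟨z, hz⟩)
      simp only [Submodule.coe_sum, Submodule.coe_smul] at this
      exact this.symm
    rw [Unit.add_right hf₁, he', zero_add, hz', form_sum_right hf₁]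
    exact Finset.sum_eq_zero fun i _ => by rw [Unit.smul_right hf₁, hperpC, mul_zero]
  have hlt : finrank F E < finrank F (LinearMap.ker L) :=
    Submodule.finrank_lt_finrank_of_lt (lt_of_le_of_ne hEL fun e => hu₀E (e.symm ▸ huL))
  have hI : InH h := inH_of_root H hO hhM hv hvv hτ0 (IH (LinearMap.ker L) v hlt hv hvv _
    (M.mul_mem (M.mul_mem (M.inv_mem hhM) (memTv H hvv hτ)) hhM) fun u hu => conj_fix H hvv τ hu)
  exact inH_of_quad H hO hg hv hvv hfix IH ht htE hBiso hBv
    (fun w => by rw [hB, add_sub_cancel_left, ← hs0, hNs])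
    (fun w => by rw [hB w, add_sub_cancel_left, hB, hN2, add_zero]) hw₁ hI

/-- An element fixing a vector of a singular tensor line, or in large dimensions any element, is a
tensor. -/
theorem inH_of_fix (hO : Only f₂ M) {g : GL (Fin a × Fin b) F} (hg : g ∈ M) {v : Fin b → F}
    (hv : v ≠ 0) (hvv : f₂ v v = 0) {E : Submodule F (Fin a → F)}
    (hfix : ∀ e ∈ E, g •ᵥ pt e v = pt e v) (hk : 0 < finrank F E ∨ a < (b / 2) * (b / 2)) :
    InH g := by
  suffices key : ∀ (j : ℕ) (E : Submodule F (Fin a → F)) (v : Fin b → F),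
      a ≤ finrank F E + j → v ≠ 0 → f₂ v v = 0 → ∀ g ∈ M, (∀ e ∈ E, g •ᵥ pt e v = pt e v) →
      (0 < finrank F E ∨ a < (b / 2) * (b / 2)) → InH g from
    key a E v (Nat.le_add_left _ _) hv hvv g hg hfix hk
  intro j
  induction j with
  | zero =>
    intro E v hj hv hvv g hg hfix _
    have hE : E = ⊤ := Submodule.eq_top_of_finrank_eq (by
      have := Submodule.finrank_le E
      rw [finrank_fin_fun] at this ⊢
      omega)
    exact inH_of_line H hO hg hv hvv fun x => ⟨x, hfix x (hE ▸ Submodule.mem_top)⟩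
  | succ j ih =>
    intro E v hj hv hvv g hg hfix hk
    refine inH_step H hO hg hv hvv hfix
      (fun X w hX hw hww x hx hxfix => ih X w (by omega) hw hww x hx hxfix (Or.inl (by omega))) ?_
    rcases hk with h | h
    · have := H.pair.lt
      have := H.pair.five_le
      have h2 : 2 * (b / 2) ≤ b / 2 * (b / 2) := Nat.mul_le_mul_right _ (by omega)
      omega
    · omega

/-- An element sending some vector of a singular line into the kernel of a singular contraction is a
tensor. -/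
theorem inH_of_cv (hO : Only f₂ M) {g : GL (Fin a × Fin b) F} (hg : g ∈ M) {v w : Fin b → F}
    (hv : v ≠ 0) (hvv : f₂ v v = 0) (hw : w ≠ 0) (hww : f₂ w w = 0) {e : Fin a → F} (he : e ≠ 0)
    (h : cv f₂ w (g •ᵥ pt e v) = 0) : InH g := by
  obtain ⟨τ, hτ0, hτ⟩ := Unit.exists_trace_zero H.pair.hf.ne_refl H.pair.hf.involutive
  refine inH_of_root H hO hg hw hww hτ0 (inH_of_fix H hO
    (M.mul_mem (M.mul_mem (M.inv_mem hg) (memTv H hww hτ)) hg) hv hvv
    (E := Submodule.span F {e}) (fun u hu => conj_fix H hww τ ?_)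
    (Or.inl (by rw [finrank_span_singleton he]; exact Nat.one_pos)))
  obtain ⟨l, rfl⟩ := Submodule.mem_span_singleton.1 hu
  rw [pt_smul_left, mulVec_smul, map_smul, h, smul_zero]

end CfsgLib.ClassicalMax.UnitTens
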