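/-
Kernels of semilinear contractions, tensor involutions in characteristic two, and products of
independent families.
-/
import Cfsg.Agent.Lib.ClassicalMax.UnitTens.Descent
set_option autoImplicit false
set_option linter.unusedSectionVars false

namespace CfsgLib.ClassicalMax.UnitTens

open Matrix Kronecker Module Cfsg.Geo
open CfsgLib.ClassicalMax
open CfsgLib.ClassicalMax.Kron
open CfsgLib.ClassicalMax.TensorSymp (ptL ptL_apply pt_neg_left pt_neg_right pt_sub_left)
open CfsgLib.ClassicalMax.TensorSL (InH lcon lcon_pt)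

variable {F : Type*} [Field F] [DecidableEq F] [Fintype F] {a b : ℕ} {σ : F ≃+* F}
  {f : (Fin a × Fin b → F) → (Fin a × Fin b → F) → F} {f₁ : (Fin a → F) → (Fin a → F) → F}
  {f₂ : (Fin b → F) → (Fin b → F) → F} {M : Subgroup (GL (Fin a × Fin b) F)}

/-- The action of an element on a vector. -/
local notation:80 g:81 " •ᵥ " z:80 => Matrix.mulVec (Units.val g) z

/-- Pure tensors of independent families are independent. -/
lemma pt_indep {m n : ℕ} {x : Fin m → Fin a → F} {y : Fin n → Fin b → F}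
    (hx : LinearIndependent F x) (hy : LinearIndependent F y) {c : Fin m → Fin n → F}
    (h : ∑ i, ∑ j, c i j • pt (x i) (y j) = 0) : ∀ i j, c i j = 0 := by
  intro i j
  have h1 : ∀ l : Fin b, (∑ j, c i j * y j l) = 0 := fun l =>
    Fintype.linearIndependent_iff.1 hx (fun i => ∑ j, c i j * y j l) (by
      funext k
      have := congrFun h (k, l)
      simp only [Finset.sum_apply, Pi.smul_apply, pt, smul_eq_mul, Pi.zero_apply] at this
      rw [Finset.sum_apply, Pi.zero_apply, ← this]
      refine Finset.sum_congr rfl fun i _ => ?_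
      rw [Pi.smul_apply, smul_eq_mul, Finset.sum_mul]
      exact Finset.sum_congr rfl fun j _ => by ring) i
  exact Fintype.linearIndependent_iff.1 hy (c i) (funext fun l => by
    simpa [Finset.sum_apply] using h1 l) j

lemma smul_two_eq_zero {κ : Type} (h2 : (2 : F) = 0) (z : κ → F) : -z = z := funext fun i => by
  show -(z i) = z i
  linear_combination (-(z i)) * h2

/-- A tensor involution in even characteristic. -/
structure Inv (f₁ : (Fin a → F) → (Fin a → F) → F) (f₂ : (Fin b → F) → (Fin b → F) → F)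
    (i : GL (Fin a × Fin b) F) (T : (Fin a → F) →ₗ[F] (Fin a → F))
    (U : (Fin b → F) →ₗ[F] (Fin b → F)) : Prop where
  act : ∀ x w, i •ᵥ pt x w = pt (T x) (U w)
  hT : ∀ x, T (T x) = x
  hU : ∀ w, U (U w) = w
  isoT : ∀ x y, f₁ (T x) (T y) = f₁ x y
  isoU : ∀ x y, f₂ (U x) (U y) = f₂ x y

variable (H : Hyp σ f f₁ f₂ M)
include H

/-- A tensor involution splits into involutions of the factors. -/
lemma exists_inv (h2 : (2 : F) = 0) {i : GL (Fin a × Fin b) F} (hi : i ∈ M) (h : InH i)
    (hsq : i * i = 1) : ∃ T U, Inv f₁ f₂ i T U := by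
  have P := H.pair
  obtain ⟨A, B, rfl⟩ := h
  have hone : kronGL (A * A) (B * B) = 1 := by rw [← hsq, kronGL_mul]
  obtain ⟨c, hc⟩ := TensorSL.exists_scalar (slHyp P) (A := A * A) (B := B * B)
    (Z := ⊥) (by rw [finrank_bot]; exact Nat.zero_le a) fun z => by
      rw [hone, Units.val_one, one_mulVec, sub_self]
      exact Submodule.zero_mem _
  obtain ⟨e₁, e₀, he₁⟩ := exists_unit_pair P
  obtain ⟨w, w', hww⟩ : ∃ w w', f₂ w w' = 1 := by
    obtain ⟨-, ⟨w, hw⟩⟩ := exists_vec P
    obtain ⟨y, -, hy⟩ := exists_pair_one P.hf₂ (nondeg_top P.hf₂) (Submodule.mem_top (x := w)) hw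
    exact ⟨y, w, hy⟩
  have he₁0 : e₁ ≠ 0 := fun e => one_ne_zero (α := F) (by rw [← he₁, e, Unit.zero_left P.hf₁])
  have hc0 : c ≠ 0 := fun e => he₁0 (gl_mulVec_injective (A * A) (by
    show _ *ᵥ _ = _ *ᵥ _
    rw [hc, e, zero_smul, mulVec_zero]))
  obtain ⟨s, hs⟩ : ∃ s : F, s * s = c⁻¹ := by
    haveI : CharP F 2 := CharTwo.of_one_ne_zero_of_two_eq_zero one_ne_zero h2
    obtain ⟨y, hy⟩ := FiniteField.isSquare_of_char_two (ringChar.eq F 2) c⁻¹
    exact ⟨y, hy.symm⟩
  have hs0 : s ≠ 0 := fun e => inv_ne_zero hc0 (by rw [← hs, e, mul_zero])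
  let T : (Fin a → F) →ₗ[F] (Fin a → F) := s • Matrix.toLin' A.val
  let U : (Fin b → F) →ₗ[F] (Fin b → F) := s⁻¹ • Matrix.toLin' B.val
  have hact : ∀ x w, kronGL A B •ᵥ pt x w = pt (T x) (U w) := fun x w => by
    rw [kronGL_pt, show T x = s • (A •ᵥ x) from rfl, show U w = s⁻¹ • (B •ᵥ w) from rfl,
      pt_smul_left, pt_smul_right, smul_inv_smul₀ hs0]
  have hTT : ∀ x, T (T x) = x := fun x => by
    show s • (A •ᵥ (s • (A •ᵥ x))) = x
    rw [mulVec_smul, smul_smul, hs, ← gl_mulVec_mul, hc, inv_smul_smul₀ hc0]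
  have hUU : ∀ w, U (U w) = w := fun w => by
    obtain ⟨η, hη⟩ := exists_sum_dot he₁0
    have h3 : pt (T (T e₁)) (U (U w)) = pt e₁ w := by
      rw [← hact, ← hact, ← gl_mulVec_mul, hsq, Units.val_one, one_mulVec]
    rw [hTT] at h3
    have := congrArg (lcon η) h3
    rwa [lcon_pt, lcon_pt, hη, one_smul, one_smul] at this
  have hmul : ∀ x y w w', f₁ (T x) (T y) * f₂ (U w) (U w') = f₁ x y * f₂ w w' := fun x y w w' => by
    have := H.iso _ hi (pt x w) (pt y w')
    rwa [hact, hact, P.form_pt, P.form_pt] at this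
  set μ := f₂ (U w) (U w')
  have hμ : μ = 1 := by
    have e1 : f₁ (T e₁) (T e₀) * μ = 1 := by rw [hmul, he₁, hww, mul_one]
    have e2 : f₁ e₁ e₀ * μ = f₁ (T e₁) (T e₀) := by
      have := hmul (T e₁) (T e₀) w w'
      rwa [hTT, hTT, hww, mul_one] at this
    rw [← e2, he₁, one_mul] at e1
    refine sub_eq_zero.1 (pow_eq_zero_iff (n := 2) two_ne_zero |>.1 ?_)
    linear_combination e1 + (1 - μ) * h2
  have hTiso : ∀ x y, f₁ (T x) (T y) = f₁ x y := fun x y => by
    have := hmul x y w w'
    rwa [show f₂ (U w) (U w') = 1 from hμ, hww, mul_one, mul_one] at this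
  exact ⟨T, U, hact, hTT, hUU, hTiso, fun x y => by
    have := hmul e₁ e₀ x y
    rwa [hTiso, he₁, one_mul, one_mul] at this⟩

/-- Vectors whose contractions against a tensor vanish in given directions. -/
lemma exists_iso_ker {K : Submodule F (Fin b → F)} {r : ℕ} (ρ : Fin r → Fin a → F)
    (z : Fin a × Fin b → F) (h : r + 2 ≤ finrank F K) :
    ∃ w ∈ K, w ≠ 0 ∧ f₂ w w = 0 ∧ ∀ i, f₁ (cv f₂ w z) (ρ i) = 0 := by
  have P := H.pair
  let Ψ : K →ₗ[F] (Fin r → F) :=
    LinearMap.pi fun i => (Unit.formL P.hf₂ (lcv f₁ (ρ i) z)).comp K.subtype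
  have h1 := LinearMap.finrank_range_add_finrank_ker Ψ
  have h2 := Submodule.finrank_le (LinearMap.range Ψ)
  rw [finrank_fin_fun] at h2
  obtain ⟨w, hw, hw0, hww⟩ := Unit.exists_isotropic_mem P.hf₂
    (W := (LinearMap.ker Ψ).map K.subtype) (by rw [Submodule.finrank_map_subtype_eq]; omega)
  obtain ⟨⟨w, hwK⟩, hwΨ, rfl⟩ := hw
  refine ⟨w, hwK, hw0, hww, fun i => ?_⟩
  rw [← form_ptv P, form_ptv' P]
  exact Unit.eq_zero_comm P.hf₂ (congrFun hwΨ i)

/-- A large kernel of the contractions of an image gives a tensor. -/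
lemma inH_of_kerdim (hO : Only f₂ M) {g : GL (Fin a × Fin b) F} (hg : g ∈ M) {v : Fin b → F}
    (hv : v ≠ 0) (hvv : f₂ v v = 0) {e : Fin a → F} (he : e ≠ 0) {K : Submodule F (Fin b → F)}
    (hK : 2 ≤ finrank F K) (h : ∀ w ∈ K, cv f₂ w (g •ᵥ pt e v) = 0) : InH g := by
  obtain ⟨w, hw, hw0, hww⟩ := Unit.exists_isotropic_mem H.pair.hf₂ hK
  exact inH_of_cv H hO hg hv hvv hw0 hww he (h w hw)

/-- In dimensions four and five an element moving an isotropic pure tensor into the range of a small
tensor involution is a tensor. -/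
theorem inH_of_im (hO : Only f₂ M) (ha : a = 4) (hb : b = 5) (h2 : (2 : F) = 0)
    {i : GL (Fin a × Fin b) F} {T : (Fin a → F) →ₗ[F] (Fin a → F)}
    {U : (Fin b → F) →ₗ[F] (Fin b → F)} (hi : Inv f₁ f₂ i T U)
    {Z : Submodule F (Fin a × Fin b → F)} (hZ : finrank F Z ≤ 9) (hiZ : ∀ z, i •ᵥ z - z ∈ Z)
    {h : GL (Fin a × Fin b) F} (hh : h ∈ M) {e : Fin a → F} {w : Fin b → F} (he : e ≠ 0)
    (hw : w ≠ 0) (hww : f₂ w w = 0) (him : ∃ z, h •ᵥ pt e w = i •ᵥ z - z) : InH h := by
  classical
  have P := H.pair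
  obtain ⟨z₀, hz₀⟩ := him
  set N : (Fin a → F) →ₗ[F] (Fin a → F) := T - LinearMap.id with hN
  set N' : (Fin b → F) →ₗ[F] (Fin b → F) := U - LinearMap.id with hN'
  have hNN : ∀ x, N (N x) = 0 := fun x => by
    simp only [hN, LinearMap.sub_apply, LinearMap.id_apply, map_sub, hi.hT]
    rw [show x - T x = -(T x - x) by abel, smul_two_eq_zero h2, sub_self]
  have hNN' : ∀ x, N' (N' x) = 0 := fun x => by
    simp only [hN', LinearMap.sub_apply, LinearMap.id_apply, map_sub, hi.hU]
    rw [show x - U x = -(U x - x) by abel, smul_two_eq_zero h2, sub_self]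
  set r := finrank F (LinearMap.range N) with hr
  set r' := finrank F (LinearMap.range N') with hr'
  have e1 := LinearMap.finrank_range_add_finrank_ker N
  have e2 := LinearMap.finrank_range_add_finrank_ker N'
  rw [finrank_fin_fun] at e1 e2
  have e3 : r ≤ finrank F (LinearMap.ker N) :=
    Submodule.finrank_mono (by rintro _ ⟨x, rfl⟩; exact hNN x)
  have e4 : r' ≤ finrank F (LinearMap.ker N') :=
    Submodule.finrank_mono (by rintro _ ⟨x, rfl⟩; exact hNN' x)
  by_cases hsmall : r + r' ≤ 3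
  · let ρ : Fin r → Fin a → F := fun j => (Module.finBasis F (LinearMap.range N) j : Fin a → F)
    obtain ⟨y, hyK, hy0, hyy, hy⟩ := exists_iso_ker H (K := LinearMap.ker N') ρ z₀ (by omega)
    refine inH_of_cv H hO hh hw hww hy0 hyy he ?_
    have hUy : U y = y := sub_eq_zero.1 hyK
    have hcv : ∀ z, cv f₂ y (i •ᵥ z) = T (cv f₂ y z) := fun z => by
      have := linear_ext (a := a) (b := b) (f := (cv f₂ y).comp (Matrix.toLin' i.val))
        (g := T.comp (cv f₂ y)) fun x u => by
          have e : f₂ (U u) y = f₂ u y := by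
            conv_lhs => rw [← hUy]
            rw [hi.isoU]
          simp [Matrix.toLin'_apply, hi.act, cv_pt P, e]
      simpa [Matrix.toLin'_apply] using LinearMap.congr_fun this z
    rw [hz₀, map_sub, hcv]
    refine form_ext P.hf₁ fun x => ?_
    have hadj : f₁ (T (cv f₂ y z₀)) x = f₁ (cv f₂ y z₀) (T x) := by
      conv_lhs => rw [← hi.hT x]
      rw [hi.isoT]
    obtain ⟨cf, hcf⟩ : ∃ cf : Fin r → F, N x = ∑ j, cf j • ρ j := by
      refine ⟨(Module.finBasis F (LinearMap.range N)).repr ⟨N x, LinearMap.mem_range_self N x⟩, ?_⟩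
      have := congrArg Subtype.val
        ((Module.finBasis F (LinearMap.range N)).sum_repr ⟨N x, LinearMap.mem_range_self N x⟩)
      simp only [Submodule.coe_sum, Submodule.coe_smul] at this
      exact this.symm
    rw [Unit.sub_left P.hf₁, hadj, Unit.zero_left P.hf₁, ← Unit.sub_right P.hf₁,
      show T x - x = N x from rfl, hcf, form_sum_right P.hf₁]
    exact Finset.sum_eq_zero fun j _ => by rw [Unit.smul_right P.hf₁, hy, mul_zero]
  · exfalso
    have hr2 : r = 2 := by omega
    have hr2' : r' = 2 := by omega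
    let bN := Module.finBasisOfFinrankEq F (LinearMap.range N) hr2
    let bN' := Module.finBasisOfFinrankEq F (LinearMap.range N') hr2'
    let bK := Module.finBasisOfFinrankEq F (LinearMap.ker N') (n := 3) (by omega)
    choose u hu using fun j => LinearMap.mem_range.1 (bN j).2
    choose u' hu' using fun j => LinearMap.mem_range.1 (bN' j).2
    let ρ : Fin 2 → Fin a → F := fun j => (bN j : Fin a → F)
    let ρ' : Fin 2 → Fin b → F := fun j => (bN' j : Fin b → F)
    let k : Fin 3 → Fin b → F := fun j => (bK j : Fin b → F)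
    have hρ : LinearIndependent F ρ :=
      bN.linearIndependent.map' (LinearMap.range N).subtype (Submodule.ker_subtype _)
    have hρ' : LinearIndependent F ρ' :=
      bN'.linearIndependent.map' (LinearMap.range N').subtype (Submodule.ker_subtype _)
    have hk : LinearIndependent F k :=
      bK.linearIndependent.map' (LinearMap.ker N').subtype (Submodule.ker_subtype _)
    let X : (Fin 2 × Fin 3) ⊕ (Fin 2 × Fin 2) → Z := fun s =>
      Sum.elim (fun s => ⟨_, hiZ (pt (u s.1) (k s.2))⟩) (fun s => ⟨_, hiZ (pt (u s.1) (u' s.2))⟩) s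
    let Ψ : (Fin a × Fin b → F) →ₗ[F] (Fin a × Fin b → F) :=
      Matrix.toLin' (LinearMap.toMatrix' N ⊗ₖ (1 : Matrix (Fin b) (Fin b) F))
    have hΨ : ∀ x y, Ψ (pt x y) = pt (N x) y := fun x y => by
      simp [Ψ, Matrix.toLin'_apply, kron_mulVec_pt, LinearMap.toMatrix'_mulVec]
    have hA : ∀ p q, i •ᵥ pt (u p) (k q) - pt (u p) (k q) = pt (ρ p) (k q) := fun p q => by
      have e : U (k q) = k q := sub_eq_zero.1 (bK q).2
      rw [hi.act, e, ← pt_sub_left, show T (u p) - u p = ρ p from hu p]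
    have hB : ∀ p q, i •ᵥ pt (u p) (u' q) - pt (u p) (u' q) =
        pt (ρ p) (U (u' q)) + pt (u p) (ρ' q) := fun p q => by
      rw [hi.act, show ρ p = T (u p) - u p from (hu p).symm,
        show ρ' q = U (u' q) - u' q from (hu' q).symm, pt_sub_left, pt_sub_right]
      abel
    have hρN : ∀ p, N (ρ p) = 0 := fun p => by rw [show ρ p = N (u p) from (hu p).symm, hNN]
    have hli : LinearIndependent F X := by
      rw [Fintype.linearIndependent_iff]
      intro c hc
      have hc' := congrArg Subtype.val hc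
      simp only [Fintype.sum_sum_type, Submodule.coe_add, Submodule.coe_sum, Submodule.coe_smul, X, Sum.elim_inl,
        Sum.elim_inr, ZeroMemClass.coe_zero, hA, hB, Fintype.sum_prod_type] at hc'
      have h1 := congrArg Ψ hc'
      simp only [map_add, map_sum, map_smul, hΨ, hρN, pt_zero_left, smul_zero,
        Finset.sum_const_zero, zero_add, map_zero,
        show ∀ p, N (u p) = ρ p from hu] at h1
      have hcB := pt_indep hρ hρ' (c := fun p q => c (Sum.inr (p, q))) h1
      simp only [hcB, zero_smul, Finset.sum_const_zero, add_zero] at hc'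
      have hcA := pt_indep hρ hk (c := fun p q => c (Sum.inl (p, q))) hc'
      rintro (⟨p, q⟩ | ⟨p, q⟩)
      exacts [hcA p q, hcB p q]
    have h10 := hli.fintype_card_le_finrank
    simp only [Fintype.card_sum, Fintype.card_prod, Fintype.card_fin] at h10
    omega

end CfsgLib.ClassicalMax.UnitTens
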