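/-
The descent in dimensions four and five: reflections in odd and products of involutions in even
characteristic.
-/
import Cfsg.Agent.Lib.ClassicalMax.UnitTens.FourTools
set_option autoImplicit false
set_option linter.unusedSectionVars false

namespace CfsgLib.ClassicalMax.UnitTens

open Matrix Kronecker Module Cfsg.Geo
open CfsgLib.ClassicalMax
open CfsgLib.ClassicalMax.Kron
open CfsgLib.ClassicalMax.TensorSymp (ptL ptL_apply pt_neg_left pt_neg_right pt_sub_left)
open CfsgLib.ClassicalMax.TensorSL (InH lcon lcon_pt)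

variable {F : Type*} [Field F] [DecidableEq F] [Fintype F] {a b : ℕ} {σ : F ≃+* F}
  {f : (Fin a × Fin b → F) → (Fin a × Fin b → F) → F} {f₁ : (Fin a → F) → (Fin a → F) → F}
  {f₂ : (Fin b → F) → (Fin b → F) → F} {M : Subgroup (GL (Fin a × Fin b) F)}

/-- The action of an element on a vector. -/
local notation:80 g:81 " •ᵥ " z:80 => Matrix.mulVec (Units.val g) z

variable (H : Hyp σ f f₁ f₂ M)
include H

/-- In odd characteristic a tensor line outside the stabiliser carries an aligned non-isotropic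
line. -/
lemma exists_aligned (hO : Only f₂ M) (ha : a = 4) (hb : b = 5) (h2 : (2 : F) ≠ 0)
    {g : GL (Fin a × Fin b) F} (hg : g ∈ M) (hgH : ¬ InH g) {v : Fin b → F} (hv : v ≠ 0)
    (hvv : f₂ v v = 0) :
    ∃ d y : Fin b → F, f₂ d v = 0 ∧ f₂ d d ≠ 0 ∧ ∀ x, ∃ t, g •ᵥ pt x d = pt t y := by
  classical
  have P := H.pair
  have hf₁ := P.hf₁
  have hf₂ := P.hf₂
  obtain ⟨⟨e, he⟩, -⟩ := exists_vec P
  set q := g •ᵥ pt e v
  let Ψ : (Fin b → F) →ₗ[F] (Fin a → F) :=
    LinearMap.pi fun i => Unit.formL hf₂ fun j => q (i, j)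
  have h1 := LinearMap.finrank_range_add_finrank_ker Ψ
  have h1' := Submodule.finrank_le (LinearMap.range Ψ)
  rw [finrank_fin_fun] at h1 h1'
  obtain ⟨y, hy, hy0⟩ := Submodule.exists_mem_ne_zero_of_ne_bot (p := LinearMap.ker Ψ) (by
    intro hbot
    rw [hbot, finrank_bot] at h1
    omega)
  have hyq : cv f₂ y q = 0 := funext fun i => by
    rw [cv_apply P]
    exact Unit.eq_zero_comm hf₂ (congrFun hy i)
  have hyy : f₂ y y ≠ 0 := fun h => hgH (inH_of_cv H hO hg hv hvv hy0 h he hyq)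
  set l : F := -(2 / f₂ y y) with hl
  have hll : σ l = l := by
    rw [hl, map_neg, map_div₀, map_ofNat, Unit.self_fixed hf₂]
  have hly : l * f₂ y y = -2 := by rw [hl, neg_mul, div_mul_cancel₀ _ hyy]
  let Slin : (Fin b → F) →ₗ[F] (Fin b → F) := LinearMap.id + (l • Unit.formL hf₂ y).smulRight y
  have hSl : ∀ w, Slin w = w + (l * f₂ w y) • y := fun w => by simp [Slin]
  have hSS : ∀ w, Slin (Slin w) = w := fun w => by
    rw [hSl (Slin w), hSl w, hf₂.add_left, hf₂.smul_left, add_assoc, ← add_smul]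
    have e : l * f₂ w y + l * (f₂ w y + l * f₂ w y * f₂ y y) = 0 := by
      linear_combination (l * f₂ w y) * hly
    rw [e, zero_smul, add_zero]
  have hSm : LinearMap.toMatrix' Slin * LinearMap.toMatrix' Slin = 1 := by
    rw [← LinearMap.toMatrix'_comp, show Slin.comp Slin = LinearMap.id from LinearMap.ext hSS,
      LinearMap.toMatrix'_id]
  let S : GL (Fin b) F := ⟨_, _, hSm, hSm⟩
  have hS : ∀ w, S •ᵥ w = w + (l * f₂ w y) • y := fun w => by
    show LinearMap.toMatrix' Slin *ᵥ w = _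
    rw [LinearMap.toMatrix'_mulVec, hSl]
  have hSiso : S ∈ Unit.isoOf f₂ := Unit.mem_isoOf.2 fun w w' => by
    rw [hS, hS, hf₂.add_left, Unit.add_right hf₂, Unit.add_right hf₂, hf₂.smul_left, hf₂.smul_left,
      Unit.smul_right hf₂, Unit.smul_right hf₂, map_mul, hll, ← hf₂.herm y w']
    linear_combination (l * f₂ w y * f₂ y w') * hly
  set K : GL (Fin a × Fin b) F := kronGL 1 S with hK
  have hKd : Matrix.det (K : Matrix (Fin a × Fin b) (Fin a × Fin b) F) = 1 := by
    have hd : Matrix.det (S : Matrix (Fin b) (Fin b) F) * Matrix.det (S : Matrix (Fin b) (Fin b) F) = 1 := by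
      rw [← det_mul, ← Units.val_mul, show S * S = 1 from Units.ext hSm, Units.val_one, det_one]
    rw [hK, det_kronGL, ha]
    simp [pow_succ, mul_assoc, hd]
  have hKM : K ∈ M := H.mem _ _ (kron_mem_iso P (one_mem _) hSiso) hKd
  have hKz : ∀ z, K •ᵥ z = z + pt (l • cv f₂ y z) y := fun z => by
    have := linear_ext (a := a) (b := b) (f := Matrix.toLin' K.val)
      (g := LinearMap.id + (ptR y).comp (l • cv f₂ y)) fun x w => by
        simp [Matrix.toLin'_apply, hK, kronGL_pt, hS, pt_add_right, cv_pt P, pt_smul_left,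
          pt_smul_right, smul_smul]
    exact LinearMap.congr_fun this z
  set h := g⁻¹ * K * g with hh
  have hhM : h ∈ M := M.mul_mem (M.mul_mem (M.inv_mem hg) hKM) hg
  have hfix : h •ᵥ pt e v = pt e v := by
    rw [hh, gl_mulVec_mul, gl_mulVec_mul, hKz, hyq, smul_zero, pt_zero_left, add_zero,
      gl_inv_mulVec_mulVec]
  obtain ⟨A, B, hx⟩ : InH h := inH_of_fix H hO hhM hv hvv (E := Submodule.span F {e})
    (fun u hu => by
      obtain ⟨c, rfl⟩ := Submodule.mem_span_singleton.1 hu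
      rw [pt_smul_left, mulVec_smul, hfix])
    (Or.inl (by rw [finrank_span_singleton he]; exact Nat.one_pos))
  let Z : Submodule F (Fin a × Fin b → F) :=
    LinearMap.range ((Matrix.toLin' (g⁻¹ : GL (Fin a × Fin b) F).val).comp (ptR y))
  have hZ : finrank F Z ≤ a := (LinearMap.finrank_range_le _).trans (by rw [finrank_fin_fun])
  have hxz : ∀ z, kronGL A B •ᵥ z - z ∈ Z := fun z => by
    refine ⟨l • cv f₂ y (g •ᵥ z), ?_⟩
    rw [← hx, hh, gl_mulVec_mul, gl_mulVec_mul, hKz, mulVec_add, gl_inv_mulVec_mulVec,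
      add_sub_cancel_left]
    simp [Matrix.toLin'_apply, pt_smul_left, mulVec_smul]
  obtain ⟨k, hk⟩ := TensorSL.exists_scalar (slHyp P) hZ hxz
  have hpt : ∀ x w, h •ᵥ pt x w - pt x w = pt x (k • (B •ᵥ w) - w) := fun x w => by
    rw [hx, kronGL_pt, hk, pt_smul_left, pt_sub_right, pt_smul_right]
  obtain ⟨w₀, hw₀⟩ : ∃ w₀, k • (B •ᵥ w₀) - w₀ ≠ 0 := by
    by_contra hcon
    push Not at hcon
    have h1 : ∀ z, h •ᵥ z = z := fun z => by
      have := linear_ext (a := a) (b := b) (f := Matrix.toLin' h.val) (g := LinearMap.id) fun x w => by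
        rw [Matrix.toLin'_apply, LinearMap.id_apply, ← sub_eq_zero, hpt, hcon, pt_zero_right]
      simpa [Matrix.toLin'_apply] using LinearMap.congr_fun this z
    have h3 := congrArg (fun z => g •ᵥ z) (h1 (g⁻¹ •ᵥ pt e y))
    simp only [hh, gl_mulVec_mul, gl_mulVec_inv_mulVec, hKz, cv_pt P, smul_smul, hly,
      add_eq_left] at h3
    exact pt_ne_zero (smul_ne_zero (neg_ne_zero.2 h2) he) hy0 h3
  set d := k • (B •ᵥ w₀) - w₀
  have hgd : ∀ x, ∃ t, g •ᵥ pt x d = pt t y := fun x => by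
    obtain ⟨t, ht⟩ := hxz (pt x w₀)
    rw [← hx, hpt] at ht
    exact ⟨t, by rw [← ht]; simp [Matrix.toLin'_apply]⟩
  choose T hT using hgd
  refine ⟨d, y, ?_, ?_, fun x => ⟨T x, hT x⟩⟩
  · obtain ⟨x, -, hxe⟩ := exists_pair_one hf₁ (nondeg_top hf₁) (Submodule.mem_top (x := e)) he
    have h0 := H.iso h hhM (pt x w₀) (pt e v)
    rw [hfix, ← sub_eq_zero, ← Unit.sub_left P.hf, hpt, P.form_pt, hxe, one_mul] at h0
    exact h0
  · let Tl : (Fin a → F) →ₗ[F] (Fin a → F) :=
      (f₂ y y)⁻¹ • (cv f₂ y).comp ((Matrix.toLin' g.val).comp (ptR d))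
    have hTl : ∀ x, Tl x = T x := fun x => by
      simp [Tl, Matrix.toLin'_apply, hT, cv_pt P, smul_smul, inv_mul_cancel₀ hyy]
    have hinj : Function.Injective Tl := fun x x' hxx => ptR_injective hw₀ (gl_mulVec_injective g (by
      simp only [ptR_apply]
      show _ *ᵥ pt x d = _ *ᵥ pt x' d
      rw [hT, hT, ← hTl, ← hTl, hxx]))
    obtain ⟨t, t', htt⟩ := exists_unit_pair P
    obtain ⟨x, rfl⟩ := LinearMap.injective_iff_surjective.1 hinj t
    obtain ⟨x', rfl⟩ := LinearMap.injective_iff_surjective.1 hinj t'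
    have h0 := H.iso g hg (pt x d) (pt x' d)
    rw [hT, hT, P.form_pt, P.form_pt, ← hTl, ← hTl, htt, one_mul] at h0
    intro hdd
    rw [hdd, mul_zero] at h0
    exact hyy h0

/-- The descent in odd characteristic. -/
theorem inH_four_odd (hO : Only f₂ M) (ha : a = 4) (hb : b = 5) (h2 : (2 : F) ≠ 0)
    {g : GL (Fin a × Fin b) F} (hg : g ∈ M) : InH g := by
  by_contra hgH
  have P := H.pair
  have hf₂ := P.hf₂
  obtain ⟨v₁, -, hv₁, hv₁v₁⟩ := Unit.exists_isotropic_mem hf₂ (W := ⊤) (by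
    rw [finrank_top, finrank_fin_fun]; omega)
  obtain ⟨d₁, y₁, -, hdd₁, hg₁⟩ := exists_aligned H hO ha hb h2 hg hgH hv₁ hv₁v₁
  have hd₁0 : d₁ ≠ 0 := fun e => hdd₁ (by rw [e, Unit.zero_left hf₂])
  have hk4 := finrank_perpIn hf₂ (⊤ : Submodule F (Fin b → F)) d₁
  rw [finrank_top, finrank_fin_fun] at hk4
  obtain ⟨z, hz, hzz⟩ := Unit.exists_value_in hf₂ (nondeg_top hf₂)
    (K := perpIn hf₂ ⊤ d₁) le_top (by rw [finrank_top, finrank_fin_fun]; omega) (s := - f₂ d₁ d₁)
    (by rw [map_neg, Unit.self_fixed hf₂])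
  have hzd : f₂ z d₁ = 0 := ((mem_perpIn hf₂).1 hz).2
  set v₂ := d₁ + z
  have hdv : f₂ d₁ v₂ = f₂ d₁ d₁ := by
    rw [Unit.add_right hf₂, Unit.eq_zero_comm hf₂ hzd, add_zero]
  have hv₂ : f₂ v₂ v₂ = 0 := by
    rw [hf₂.add_left, hdv, Unit.add_right hf₂, hzd, hzz]
    ring
  have hv₂0 : v₂ ≠ 0 := fun e => hdd₁ (by rw [← hdv, e, Unit.zero_right hf₂])
  obtain ⟨d₂, y₂, hdv₂, hdd₂, hg₂⟩ := exists_aligned H hO ha hb h2 hg hgH hv₂0 hv₂
  have hd₂0 : d₂ ≠ 0 := fun e => hdd₂ (by rw [e, Unit.zero_left hf₂])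
  have hind : d₁ ∉ Submodule.span F {d₂} := fun hmem => by
    obtain ⟨c, hc⟩ := Submodule.mem_span_singleton.1 hmem
    exact hdd₁ (by rw [← hdv, ← hc, hf₂.smul_left, hdv₂, mul_zero])
  set S := Submodule.span F ({d₁, d₂} : Set (Fin b → F))
  have hS : 2 ≤ finrank F S := by
    have hlt : Submodule.span F {d₂} < S :=
      lt_of_le_of_ne (Submodule.span_mono (by simp)) fun e =>
        hind (e ▸ Submodule.subset_span (Set.mem_insert d₁ _))
    have := Submodule.finrank_lt_finrank_of_lt hlt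
    rw [finrank_span_singleton hd₂0] at this
    omega
  obtain ⟨v₃, hv₃, hv₃0, hv₃v₃⟩ := Unit.exists_isotropic_mem hf₂ hS
  obtain ⟨α, β, rfl⟩ := Submodule.mem_span_pair.1 hv₃
  obtain ⟨⟨e, he⟩, -⟩ := exists_vec P
  refine hgH (inH_of_kerdim H hO hg hv₃0 hv₃v₃ he
    (K := perpIn hf₂ (perpIn hf₂ ⊤ y₁) y₂) ?_ fun w hw => ?_)
  · have e1 := finrank_perpIn hf₂ (⊤ : Submodule F (Fin b → F)) y₁
    have e2 := finrank_perpIn hf₂ (perpIn hf₂ (⊤ : Submodule F (Fin b → F)) y₁) y₂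
    rw [finrank_top, finrank_fin_fun] at e1
    omega
  · simp only [mem_perpIn] at hw
    obtain ⟨t₁, ht₁⟩ := hg₁ e
    obtain ⟨t₂, ht₂⟩ := hg₂ e
    rw [pt_add_right, pt_smul_right, pt_smul_right, mulVec_add, mulVec_smul, mulVec_smul, ht₁, ht₂,
      map_add, map_smul, map_smul, cv_pt P, cv_pt P, Unit.eq_zero_comm hf₂ hw.1.2,
      Unit.eq_zero_comm hf₂ hw.2, zero_smul, zero_smul, smul_zero, smul_zero, add_zero]

/-- The descent in even characteristic. -/
theorem inH_four_even (hO : Only f₂ M) (ha : a = 4) (hb : b = 5) (h2 : (2 : F) = 0)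
    {g : GL (Fin a × Fin b) F} (hg : g ∈ M) : InH g := by
  classical
  have P := H.pair
  have hf₁ := P.hf₁
  have hf₂ := P.hf₂
  have hneg : ∀ {κ : Type} (z : κ → F), -z = z := fun z => smul_two_eq_zero h2 z
  have hone : σ (1 : F) = -1 := by rw [map_one]; linear_combination h2
  obtain ⟨r, -, hr, hrr⟩ := Unit.exists_isotropic_mem hf₁ (W := ⊤) (by
    rw [finrank_top, finrank_fin_fun]; omega)
  obtain ⟨v, -, hv, hvv⟩ := Unit.exists_isotropic_mem hf₂ (W := ⊤) (by
    rw [finrank_top, finrank_fin_fun]; omega)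
  obtain ⟨u, -, huu, hur, -⟩ := exists_partner hf₁ (nondeg_top hf₁) (Submodule.mem_top (x := r)) hr hrr
  obtain ⟨v', -, -, hv'v, -⟩ := exists_partner hf₂ (nondeg_top hf₂) (Submodule.mem_top (x := v)) hv hvv
  set R : GL (Fin a × Fin b) F := kronGL 1 (Unit.uTv hf₂ v 1) with hR
  set T : GL (Fin a × Fin b) F := kronGL (Unit.uTv hf₁ r 1) 1 with hT
  have hRz : ∀ z, R •ᵥ z = z + pt (cv f₂ v z) v := fun z => by
    rw [hR, root_act H hvv, one_smul]
  have hTz : ∀ z, T •ᵥ z = z + pt r (lcv f₁ r z) := fun z => by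
    have := linear_ext (a := a) (b := b) (f := Matrix.toLin' T.val)
      (g := LinearMap.id + (ptL r).comp (lcv f₁ r)) fun x w => by
        simp [Matrix.toLin'_apply, hT, kronGL_pt, Unit.uTv_mulVec hf₁ hrr, lcv_pt P, pt_add_left,
          pt_smul_left, pt_smul_right]
    exact LinearMap.congr_fun this z
  have hgl : ∀ {x : GL (Fin a × Fin b) F}, (∀ z, x •ᵥ z = z) → x = 1 := fun {x} h =>
    gl_ext_pt fun p w => by rw [h, Units.val_one, one_mulVec]
  have hRR : R * R = 1 := hgl fun z => by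
    rw [gl_mulVec_mul, hRz, hRz z, map_add, cv_pt_self P hvv, add_zero, add_assoc, ← two_smul F, h2,
      zero_smul, add_zero]
  have hTT : T * T = 1 := hgl fun z => by
    rw [gl_mulVec_mul, hTz, hTz z, map_add, lcv_pt P, hrr, zero_smul, add_zero, add_assoc,
      ← two_smul F, h2, zero_smul, add_zero]
  have hRM : R ∈ M := memTv H hvv hone
  have hTM : T ∈ M := memU H (Unit.uTv_mem_isoOf hf₁ hrr hone) (det_of_sl (Unit.uTv_mem_sl _ _ _))
  set y := g * T * g⁻¹ with hy
  have hyM : y ∈ M := M.mul_mem (M.mul_mem hg hTM) (M.inv_mem hg)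
  have hyy : y * y = 1 := by
    rw [hy, show g * T * g⁻¹ * (g * T * g⁻¹) = g * (T * T) * g⁻¹ by group, hTT, mul_one,
      mul_inv_cancel]
  let L : (Fin b → F) →ₗ[F] (Fin a × Fin b → F) := (Matrix.toLin' g.val).comp (ptL r)
  let Zy := LinearMap.range L
  let Zx := LinearMap.range (ptR (a := a) v)
  have hyz : ∀ z, y •ᵥ z - z ∈ Zy := fun z => by
    refine ⟨lcv f₁ r (g⁻¹ •ᵥ z), ?_⟩
    rw [hy, gl_mulVec_mul, gl_mulVec_mul, hTz, mulVec_add, gl_mulVec_inv_mulVec, add_sub_cancel_left]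
    simp [L, Matrix.toLin'_apply]
  have hxz : ∀ z, R •ᵥ z - z ∈ Zx := fun z => ⟨cv f₂ v z, by rw [hRz, add_sub_cancel_left]; rfl⟩
  have hZy : finrank F Zy ≤ 5 := (LinearMap.finrank_range_le _).trans (by rw [finrank_fin_fun, hb])
  have hZx : finrank F Zx ≤ 4 := (LinearMap.finrank_range_le _).trans (by rw [finrank_fin_fun, ha])
  set p := R * y with hp
  have hRinv : R⁻¹ = R := inv_eq_of_mul_eq_one_right hRR
  have hyinv : y⁻¹ = y := inv_eq_of_mul_eq_one_right hyy
  have hpinv : p⁻¹ = y * R := by rw [hp, _root_.mul_inv_rev, hRinv, hyinv]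
  have hRp : R * p * R⁻¹ = p⁻¹ := by
    rw [hpinv, hp, hRinv, ← mul_assoc R R, hRR, one_mul]
  have hyp : y * p * y⁻¹ = p⁻¹ := by
    rw [hpinv, hp, hyinv, mul_assoc, mul_assoc R, hyy, mul_one]
  have hn : orderOf p ≠ 0 := (orderOf_pos p).ne'
  rcases Nat.even_or_odd' (orderOf p) with ⟨l, hl | hl⟩
  · set z := p ^ l with hz
    have hzz : z * z = 1 := by rw [hz, ← pow_add, ← two_mul, ← hl, pow_orderOf_eq_one]
    have hzinv : z⁻¹ = z := inv_eq_of_mul_eq_one_right hzz
    have hz1 : z ≠ 1 := pow_ne_one_of_lt_orderOf (by omega) (by omega)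
    have hpM : p ∈ M := M.mul_mem hRM hyM
    have hzM : z ∈ M := M.pow_mem hpM l
    have hRz' : R * z = z * R := by
      have e : R * z * R⁻¹ = z := by rw [hz, ← conj_pow, hRp, inv_pow, ← hz, hzinv]
      calc R * z = R * z * R⁻¹ * R := by rw [inv_mul_cancel_right]
        _ = z * R := by rw [e]
    have hyz' : y * z = z * y := by
      have e : y * z * y⁻¹ = z := by rw [hz, ← conj_pow, hyp, inv_pow, ← hz, hzinv]
      calc y * z = y * z * y⁻¹ * y := by rw [inv_mul_cancel_right]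
        _ = z * y := by rw [e]
    have hline : ∀ s, ∃ s', z •ᵥ pt s v = pt s' v := fun s => by
      refine ⟨cv f₂ v (z •ᵥ pt s v'), ?_⟩
      have e1 : pt s v = R •ᵥ pt s v' - pt s v' := by
        rw [hRz, cv_pt P, hv'v, one_smul, add_sub_cancel_left]
      conv_lhs => rw [e1, mulVec_sub, ← gl_mulVec_mul, ← hRz', gl_mulVec_mul, hRz,
        add_sub_cancel_left]
    obtain ⟨Tz, Uz, hzi⟩ := exists_inv H h2 hzM (inH_of_line H hO hzM hv hvv hline) hzz
    let Z := Zx ⊔ Zy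
    have hZ : finrank F Z ≤ 9 := (Submodule.finrank_add_le_finrank_add_finrank Zx Zy).trans (by omega)
    have hpZ : ∀ (k : ℕ) w, (p ^ k) •ᵥ w - w ∈ Z := by
      intro k
      induction k with
      | zero => intro w; simp
      | succ k ih =>
        intro w
        rw [pow_succ, gl_mulVec_mul, show (p ^ k) •ᵥ (p •ᵥ w) - w =
          ((p ^ k) •ᵥ (p •ᵥ w) - p •ᵥ w) + ((R •ᵥ (y •ᵥ w) - y •ᵥ w) + (y •ᵥ w - w)) by
            rw [hp, gl_mulVec_mul]; abel]
        exact Z.add_mem (ih _) (Z.add_mem (Submodule.mem_sup_left (hxz _))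
          (Submodule.mem_sup_right (hyz _)))
    obtain ⟨e, w, he, hw, hww, z₀, hz₀⟩ : ∃ (e : Fin a → F) (w : Fin b → F), e ≠ 0 ∧ w ≠ 0 ∧
        f₂ w w = 0 ∧ ∃ z₀, pt e w = z •ᵥ z₀ - z₀ := by
      by_cases hU : ∃ w, Uz w ≠ w
      · obtain ⟨w₀, hw₀⟩ := hU
        obtain ⟨e, he, hTe⟩ : ∃ e, e ≠ 0 ∧ Tz e = e := by
          obtain ⟨⟨x, hx⟩, -⟩ := exists_vec P
          by_cases hx' : Tz x = x
          · exact ⟨x, hx, hx'⟩
          · refine ⟨Tz x - x, sub_ne_zero.2 hx', ?_⟩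
            rw [map_sub, hzi.hT, ← neg_sub, hneg]
        refine ⟨e, Uz w₀ - w₀, he, sub_ne_zero.2 hw₀, ?_, pt e w₀, by
          rw [hzi.act, hTe, pt_sub_right]⟩
        have hUU : f₂ w₀ (Uz w₀) = f₂ (Uz w₀) w₀ := by
          conv_rhs => rw [← hzi.isoU, hzi.hU]
        rw [Unit.sub_left hf₂, Unit.sub_right hf₂, Unit.sub_right hf₂, hzi.isoU, hUU]
        linear_combination (f₂ w₀ w₀ - f₂ (Uz w₀) w₀) * h2
      · push Not at hU
        obtain ⟨x, hx⟩ : ∃ x, Tz x ≠ x := by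
          by_contra hcon
          push Not at hcon
          exact hz1 (gl_ext_pt fun x w => by rw [hzi.act, hcon, hU, Units.val_one, one_mulVec])
        exact ⟨Tz x - x, v, sub_ne_zero.2 hx, hv, hvv, pt x v, by rw [hzi.act, hU, pt_sub_left]⟩
    have hyH : InH y := inH_of_im H hO ha hb h2 hzi hZ (fun w => hpZ l w) hyM he hw hww ⟨y •ᵥ z₀, by
      rw [hz₀, mulVec_sub, ← gl_mulVec_mul, hyz', gl_mulVec_mul]⟩
    obtain ⟨Ty, Uy, hyi⟩ := exists_inv H h2 hyM hyH hyy
    refine inH_of_im H hO ha hb h2 hyi (Z := Zy) (by omega) hyz hg hr hv hvv ⟨g •ᵥ pt u v, ?_⟩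
    rw [hy, gl_mulVec_mul, gl_mulVec_mul, gl_inv_mulVec_mulVec, ← mulVec_sub, hTz, lcv_pt P, hur,
      one_smul, add_sub_cancel_left]
  · exfalso
    set k := p ^ l
    have hRl : R * (p ^ l)⁻¹ = p ^ l * R := by
      have e : R * (p ^ l)⁻¹ * R⁻¹ = p ^ l := by
        have e' : R * p⁻¹ * R⁻¹ = p := by rw [hpinv, ← mul_assoc, mul_inv_cancel_right]
        rw [← inv_pow, ← conj_pow, e']
      calc R * (p ^ l)⁻¹ = R * (p ^ l)⁻¹ * R⁻¹ * R := by rw [inv_mul_cancel_right]
        _ = p ^ l * R := by rw [e]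
    have hconj : y = k * R * k⁻¹ := by
      rw [mul_assoc, hRl, ← mul_assoc, ← pow_add,
        show p ^ (l + l) = p⁻¹ by
          refine eq_inv_of_mul_eq_one_left ?_
          rw [← pow_succ, show l + l + 1 = orderOf p by omega, pow_orderOf_eq_one],
        hpinv, mul_assoc, hRR, mul_one]
    let Z' := LinearMap.range ((Matrix.toLin' k.val).comp (ptR (a := a) v))
    have hZ' : finrank F Z' ≤ 4 :=
      (LinearMap.finrank_range_le _).trans (by rw [finrank_fin_fun, ha])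
    have hmem : ∀ w, L w ∈ Z' := fun w => by
      refine ⟨cv f₂ v (k⁻¹ •ᵥ (g •ᵥ pt u w)), ?_⟩
      have e1 : y •ᵥ (g •ᵥ pt u w) - g •ᵥ pt u w = L w := by
        rw [hy, gl_mulVec_mul, gl_mulVec_mul, gl_inv_mulVec_mulVec, ← mulVec_sub, hTz, lcv_pt P,
          hur, one_smul, add_sub_cancel_left]
        simp [L, Matrix.toLin'_apply]
      rw [← e1, hconj, gl_mulVec_mul, gl_mulVec_mul, hRz, mulVec_add, gl_mulVec_inv_mulVec,
        add_sub_cancel_left]
      simp [Matrix.toLin'_apply]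
    have hinj : Function.Injective (L.codRestrict Z' hmem) := fun w w' hww => by
      have h1 : g •ᵥ pt r w = g •ᵥ pt r w' := congrArg Subtype.val hww
      have h2' := gl_mulVec_injective g h1
      obtain ⟨η, hη⟩ := exists_sum_dot hr
      have h3 := congrArg (lcon η) h2'
      rwa [lcon_pt, lcon_pt, hη, one_smul, one_smul] at h3
    have := LinearMap.finrank_le_finrank_of_injective hinj
    rw [finrank_fin_fun] at this
    omega

/-- With only scalar root sets every element is a tensor. -/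
theorem inH_of_only (hO : Only f₂ M) {g : GL (Fin a × Fin b) F} (hg : g ∈ M) : InH g := by
  obtain ⟨v, -, hv, hvv⟩ := Unit.exists_isotropic_mem H.pair.hf₂ (W := ⊤) (by
    rw [finrank_top, finrank_fin_fun]; have := H.pair.five_le; omega)
  by_cases hab : a < (b / 2) * (b / 2)
  · exact inH_of_fix H hO hg hv hvv (E := ⊥) (fun e he => by
      rw [(Submodule.mem_bot F).1 he, pt_zero_left, mulVec_zero]) (Or.inr hab)
  · have hb5 : b = 5 := by
      by_contra hne
      refine hab ?_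
      have := H.pair.lt
      have h3 : 3 ≤ b / 2 := by
        have := H.pair.five_le
        by_contra h4
        have hb4 : b = 4 := by omega
        subst hb4
        exact hab (by omega)
      have h4 : 3 * (b / 2) ≤ b / 2 * (b / 2) := Nat.mul_le_mul_right _ h3
      omega
    have ha4 : a = 4 := by have := H.pair.lt; subst hb5; omega
    by_cases h2 : (2 : F) = 0
    · exact inH_four_even H hO ha4 hb5 h2 hg
    · exact inH_four_odd H hO ha4 hb5 h2 hg

end CfsgLib.ClassicalMax.UnitTens
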