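/-
Root sets of singular tensor lines above a unitary tensor stabiliser, and frame maps of the first
factor.
-/
import Cfsg.Agent.Lib.ClassicalMax.UnitTens.Four
import Mathlib.LinearAlgebra.Matrix.SchurComplement
set_option autoImplicit false
set_option linter.unusedSectionVars false

namespace CfsgLib.ClassicalMax.UnitTens

open Matrix Kronecker Module Cfsg.Geo
open CfsgLib.ClassicalMax
open CfsgLib.ClassicalMax.Kron
open CfsgLib.ClassicalMax.TensorSymp (ptL ptL_apply pt_neg_left pt_neg_right pt_sub_left)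
open CfsgLib.ClassicalMax.TensorSL (InH lcon lcon_pt)

variable {F : Type*} [Field F] [DecidableEq F] [Fintype F] {a b : ℕ} {σ : F ≃+* F}
  {f : (Fin a × Fin b → F) → (Fin a × Fin b → F) → F} {f₁ : (Fin a → F) → (Fin a → F) → F}
  {f₂ : (Fin b → F) → (Fin b → F) → F} {M : Subgroup (GL (Fin a × Fin b) F)}

/-- The action of an element on a vector. -/
local notation:80 g:81 " •ᵥ " z:80 => Matrix.mulVec (Units.val g) z

/-- The rank-one map `s ↦ f(s,x) y`. -/
def outer {k : ℕ} {g : (Fin k → F) → (Fin k → F) → F} (hg : IsUnitaryForm σ g) (x y : Fin k → F) :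
    (Fin k → F) →ₗ[F] (Fin k → F) := (Unit.formL hg x).smulRight y

@[simp] lemma outer_apply {k : ℕ} {g : (Fin k → F) → (Fin k → F) → F} (hg : IsUnitaryForm σ g)
    (x y s : Fin k → F) : outer hg x y s = g s x • y := by
  simp [outer]

/-- The maps of the root elements in `M` of a singular tensor line. -/
def RootMap (f₂ : (Fin b → F) → (Fin b → F) → F) (M : Subgroup (GL (Fin a × Fin b) F))
    (v : Fin b → F) (S : (Fin a → F) →ₗ[F] (Fin a → F)) : Prop :=
  ∃ g ∈ M, ∀ z, g •ᵥ z = z + pt (S (cv f₂ v z)) v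

/-- The isometry permuting an orthonormal triple by a unimodular matrix. -/
lemma exists_frame_map {k : ℕ} {g : (Fin k → F) → (Fin k → F) → F} (hg : IsUnitaryForm σ g)
    {p : Fin 3 → Fin k → F} (hp : ∀ i j, g (p i) (p j) = if i = j then 1 else 0)
    (m : Matrix (Fin 3) (Fin 3) F) (hm : ∀ i j, ∑ l, m l i * σ (m l j) = if i = j then 1 else 0)
    (hdet : m.det = 1) :
    ∃ A : GL (Fin k) F, A ∈ Unit.isoOf g ∧ Matrix.det (A : Matrix (Fin k) (Fin k) F) = 1 ∧
      ∀ j, A •ᵥ p j = ∑ l, m l j • p l := by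
  classical
  let z : Fin 3 → Fin k → F := fun j => ∑ l, m l j • p l
  have hzp : ∀ j i, g (z j) (p i) = m i j := fun j i => by
    simp [z, form_sum_left hg, hg.smul_left, hp]
  let P : Matrix (Fin k) (Fin 3) F := Matrix.of fun r i => z i r - p i r
  let Q : Matrix (Fin 3) (Fin k) F := Matrix.of fun i => Unit.formDual hg (p i)
  have hQ : ∀ x i, (Q *ᵥ x) i = g x (p i) := fun x i => Unit.formDual_dot hg (p i) x
  have hd : (1 + P * Q).det = 1 := by
    rw [det_one_add_mul_comm, ← hdet]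
    congr 1
    ext i j
    have e : (Q * P) i j = g (z j - p j) (p i) := by
      rw [← hQ]
      rfl
    rw [Matrix.add_apply, e, Unit.sub_left hg, hzp, hp, Matrix.one_apply]
    by_cases h : i = j
    · subst h; simp
    · rw [if_neg h, if_neg (Ne.symm h)]; ring
  have hA : IsUnit (1 + P * Q) := (Matrix.isUnit_iff_isUnit_det _).2 (by rw [hd]; exact isUnit_one)
  have hact : ∀ x, hA.unit •ᵥ x = x + ∑ i, g x (p i) • (z i - p i) := fun x => by
    rw [IsUnit.unit_spec, add_mulVec, one_mulVec, ← mulVec_mulVec]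
    congr 1
    funext r
    simp only [Matrix.mulVec, dotProduct, Finset.sum_apply, Pi.smul_apply, smul_eq_mul,
      Pi.sub_apply]
    exact Finset.sum_congr rfl fun i _ => by
      rw [mul_comm]; congr 1; exact hQ x i
  have hz : ∀ i j, g (z i) (z j) = if i = j then 1 else 0 := fun i j => by
    rw [← hm]
    show g (z i) (∑ l, m l j • p l) = _
    rw [form_sum_right hg]
    exact Finset.sum_congr rfl fun l _ => by rw [Unit.smul_right hg, hzp, mul_comm]
  have hd' : ∀ i j, g (z i - p i) (z j - p j) = -(g (p i) (z j - p j) + g (z i - p i) (p j)) :=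
    fun i j => by simp only [Unit.sub_left hg, Unit.sub_right hg, hz, hp]; ring
  refine ⟨hA.unit, Unit.mem_isoOf.2 fun x x' => ?_, by rw [IsUnit.unit_spec, hd], fun j => ?_⟩
  · rw [hact, hact]
    have hx : ∀ x i, g x (z i - p i) = ∑ l, g x (p l) * g (p l) (z i - p i) := fun x i => by
      have e : z i - p i = ∑ l, g (z i - p i) (p l) • p l := by
        simp only [Unit.sub_left hg, hzp, hp, sub_smul, Finset.sum_sub_distrib, ite_smul, one_smul,
          zero_smul, Finset.sum_ite_eq, Finset.mem_univ, if_true]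
        rfl
      conv_lhs => rw [e]
      rw [form_sum_right hg]
      refine Finset.sum_congr rfl fun l _ => ?_
      rw [Unit.smul_right hg, ← hg.herm, mul_comm]
    have hy : ∀ i x, g (z i - p i) x = ∑ l, g (z i - p i) (p l) * g (p l) x := fun i x => by
      rw [hg.herm, hx, map_sum]
      exact Finset.sum_congr rfl fun l _ => by rw [map_mul, ← hg.herm, ← hg.herm, mul_comm]
    simp only [hg.add_left, Unit.add_right hg, form_sum_left hg, form_sum_right hg, hg.smul_left,
      Unit.smul_right hg, ← hg.herm (p _) x']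
    simp only [hx x, hy _ x', hd', Fin.sum_univ_three]
    ring
  · rw [hact]
    simp only [hp, ite_smul, one_smul, zero_smul, Finset.sum_ite_eq, Finset.mem_univ, if_true]
    rw [add_sub_cancel]

variable (H : Hyp σ f f₁ f₂ M)
include H

lemma RootMap.add {v : Fin b → F} (hvv : f₂ v v = 0) {S S' : (Fin a → F) →ₗ[F] (Fin a → F)}
    (h : RootMap f₂ M v S) (h' : RootMap f₂ M v S') : RootMap f₂ M v (S + S') := by
  obtain ⟨g, hg, hS⟩ := h
  obtain ⟨g', hg', hS'⟩ := h'
  refine ⟨g * g', M.mul_mem hg hg', fun z => ?_⟩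
  rw [gl_mulVec_mul, hS', hS, map_add, cv_pt_self H.pair hvv, add_zero, LinearMap.add_apply,
    pt_add_left]
  abel

lemma RootMap.skew {v : Fin b → F} (hv : v ≠ 0) (hvv : f₂ v v = 0)
    {S : (Fin a → F) →ₗ[F] (Fin a → F)} (h : RootMap f₂ M v S) (s t : Fin a → F) :
    f₁ (S s) t + f₁ s (S t) = 0 := by
  have P := H.pair
  obtain ⟨g, hg, hS⟩ := h
  obtain ⟨v', -, -, hv'v, hvv'⟩ :=
    exists_partner P.hf₂ (nondeg_top P.hf₂) (Submodule.mem_top (x := v)) hv hvv
  have h1 := H.iso g hg (pt s v') (pt t v')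
  rw [hS, hS, cv_pt P, cv_pt P, hv'v, one_smul, one_smul, P.hf.add_left, Unit.add_right P.hf,
    Unit.add_right P.hf, P.form_pt, P.form_pt, P.form_pt, P.form_pt, hvv, hv'v, hvv'] at h1
  linear_combination h1

lemma RootMap.move {v w : Fin b → F} {S : (Fin a → F) →ₗ[F] (Fin a → F)} (hv : v ≠ 0) (hw : w ≠ 0)
    (hvv : f₂ v v = 0) (hww : f₂ w w = 0) (h : RootMap f₂ M v S) : RootMap f₂ M w S := by
  obtain ⟨g, hg, hS⟩ := h
  obtain ⟨B, hB, hBM, hBv⟩ := exists_W_map H hv hw hvv hww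
  refine ⟨kronGL 1 B * g * (kronGL 1 B)⁻¹, M.mul_mem (M.mul_mem hBM hg) (M.inv_mem hBM), fun z => ?_⟩
  have e := cv_kron_one H hB v ((kronGL (1 : GL (Fin a) F) B)⁻¹ •ᵥ z)
  rw [gl_mulVec_inv_mulVec, hBv] at e
  rw [gl_mulVec_mul, gl_mulVec_mul, hS, mulVec_add, gl_mulVec_inv_mulVec, kronGL_pt, Units.val_one,
    one_mulVec, hBv, ← e]

lemma RootMap.smul {v : Fin b → F} {S : (Fin a → F) →ₗ[F] (Fin a → F)} (hv : v ≠ 0)
    (hvv : f₂ v v = 0) (h : RootMap f₂ M v S) {ρ : F} (hρ : σ ρ = ρ) : RootMap f₂ M v (ρ • S) := by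
  rcases eq_or_ne ρ 0 with rfl | hρ0
  · exact ⟨1, M.one_mem, fun z => by simp [pt_zero_left]⟩
  obtain ⟨l, hl⟩ := Unit.exists_norm_eq H.pair.hf.ne_refl H.pair.hf.involutive hρ
  have hl0 : l ≠ 0 := fun e => hρ0 (by rw [← hl, e, zero_mul])
  have hf₂ := H.pair.hf₂
  obtain ⟨g, hg, hS⟩ := h.move H hv (smul_ne_zero hl0 hv) hvv
    (by rw [hf₂.smul_left, Unit.smul_right hf₂, hvv, mul_zero, mul_zero])
  refine ⟨g, hg, fun z => ?_⟩
  rw [hS, cv_smul_vec H.pair, map_smul, pt_smul_left, pt_smul_right, smul_smul, mul_comm, hl,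
    LinearMap.smul_apply, pt_smul_left]

lemma RootMap.sub {v : Fin b → F} (hv : v ≠ 0) (hvv : f₂ v v = 0)
    {S S' : (Fin a → F) →ₗ[F] (Fin a → F)} (h : RootMap f₂ M v S) (h' : RootMap f₂ M v S') :
    RootMap f₂ M v (S - S') := by
  have := h.add H hvv (h'.smul H hv hvv (ρ := -1) (by rw [map_neg, map_one]))
  rwa [show S + (-1 : F) • S' = S - S' by module] at this

lemma RootMap.conj {v : Fin b → F} {S : (Fin a → F) →ₗ[F] (Fin a → F)} (h : RootMap f₂ M v S)
    {A : GL (Fin a) F} (hA : A ∈ Unit.isoOf f₁) (hd : Matrix.det (A : Matrix (Fin a) (Fin a) F) = 1) :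
    RootMap f₂ M v
      ((Matrix.toLin' A.val).comp (S.comp (Matrix.toLin' (A⁻¹ : GL (Fin a) F).val))) := by
  obtain ⟨g, hg, hS⟩ := h
  have hAM := memU H hA hd
  refine ⟨kronGL A 1 * g * (kronGL A 1)⁻¹, M.mul_mem (M.mul_mem hAM hg) (M.inv_mem hAM), fun z => ?_⟩
  have e := cv_kron_left H A v ((kronGL A (1 : GL (Fin b) F))⁻¹ •ᵥ z)
  rw [gl_mulVec_inv_mulVec] at e
  rw [gl_mulVec_mul, gl_mulVec_mul, hS, mulVec_add, gl_mulVec_inv_mulVec, kronGL_pt, Units.val_one,
    one_mulVec]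
  simp [Matrix.toLin'_apply, e]

end CfsgLib.ClassicalMax.UnitTens
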