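/-
A non-scalar root set contains the root of a transvection at a pure isotropic point.
-/
import Cfsg.Agent.Lib.ClassicalMax.UnitTens.RootSet
set_option autoImplicit false
set_option linter.unusedSectionVars false

namespace CfsgLib.ClassicalMax.UnitTens

open Matrix Kronecker Module Cfsg.Geo
open CfsgLib.ClassicalMax
open CfsgLib.ClassicalMax.Kron
open CfsgLib.ClassicalMax.TensorSymp (ptL ptL_apply pt_neg_left pt_neg_right pt_sub_left)
open CfsgLib.ClassicalMax.TensorSL (InH lcon lcon_pt)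

variable {F : Type*} [Field F] [DecidableEq F] [Fintype F] {a b : ℕ} {σ : F ≃+* F}
  {f : (Fin a × Fin b → F) → (Fin a × Fin b → F) → F} {f₁ : (Fin a → F) → (Fin a → F) → F}
  {f₂ : (Fin b → F) → (Fin b → F) → F} {M : Subgroup (GL (Fin a × Fin b) F)}

/-- The action of an element on a vector. -/
local notation:80 g:81 " •ᵥ " z:80 => Matrix.mulVec (Units.val g) z

/-- A skew map without non-trivial values on isotropic vectors is scalar. -/
lemma scalar_of_iso {k : ℕ} {g : (Fin k → F) → (Fin k → F) → F} (hg : IsUnitaryForm σ g) (hk : 2 ≤ k)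
    (S : (Fin k → F) →ₗ[F] (Fin k → F)) (h : ∀ u, g u u = 0 → g (S u) u = 0) :
    ∃ l : F, ∀ x, S x = l • x := by
  classical
  obtain ⟨η, hη, hη1, hση, hne⟩ := exists_three_norm_one hg
  have hση' : σ η * σ (σ η) = 1 := by rw [hg.involutive, mul_comm, hη]
  have hA : ∀ x y, g x x ≠ 0 → g y y ≠ 0 → g x y = 0 →
      g (S x) y = 0 ∧ g (S x) x * g y y = g (S y) y * g x x := by
    intro x y hx hy hxy
    obtain ⟨ζ, hζ⟩ := Unit.exists_norm_eq hg.ne_refl hg.involutive (s := -(g x x / g y y))
      (by rw [map_neg, map_div₀, Unit.self_fixed hg, Unit.self_fixed hg])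
    have hζ0 : ζ ≠ 0 := fun e => hx (by
      rw [e, zero_mul, eq_comm, neg_eq_zero, div_eq_zero_iff] at hζ
      exact hζ.resolve_right hy)
    have key : ∀ t : F, t * σ t = 1 → σ (t * ζ) * g (S x) y + t * ζ * g (S y) x =
        -(g (S x) x + ζ * σ ζ * g (S y) y) := by
      intro t ht
      have hu : g (x + (t * ζ) • y) (x + (t * ζ) • y) = 0 := by
        rw [hg.add_left, Unit.add_right hg, Unit.add_right hg, hg.smul_left, hg.smul_left,
          Unit.smul_right hg, Unit.smul_right hg, hxy, Unit.eq_zero_comm hg hxy, map_mul]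
        have e : ζ * σ ζ * g y y = -g x x := by rw [hζ, neg_mul, div_mul_cancel₀ _ hy]
        linear_combination (t * σ t) * e - g x x * ht
      have := h _ hu
      rw [map_add, map_smul, hg.add_left, Unit.add_right hg, Unit.add_right hg, hg.smul_left,
        hg.smul_left, Unit.smul_right hg, Unit.smul_right hg, map_mul] at this
      rw [map_mul]
      linear_combination this - (ζ * σ ζ * g (S y) y) * ht
    have k1 := key 1 (by rw [map_one, one_mul])
    have k2 := key η hη
    have k3 := key (σ η) hση'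
    rw [one_mul] at k1
    have hA0 : g (S x) y = 0 := eq_zero_of_three hg (t₁ := ζ) (t₂ := η * ζ) (t₃ := σ η * ζ)
      (fun e => hη1 (mul_right_cancel₀ hζ0 (e.symm.trans (one_mul ζ).symm)))
      (fun e => hση (mul_right_cancel₀ hζ0 (e.symm.trans (one_mul ζ).symm)))
      (fun e => hne (mul_right_cancel₀ hζ0 e)) hζ0
      (by rw [map_mul]; linear_combination (ζ * σ ζ) * hη)
      (by rw [map_mul]; linear_combination (ζ * σ ζ) * hση')
      (k1.trans k2.symm) (k1.trans k3.symm)
    refine ⟨hA0, ?_⟩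
    rw [hA0, mul_zero, zero_add] at k1 k2
    have hB : (η - 1) * ζ * g (S y) x = 0 := by linear_combination k2 - k1
    rw [(mul_eq_zero.1 hB).resolve_left (mul_ne_zero (sub_ne_zero.2 hη1) hζ0), mul_zero, hζ] at k1
    field_simp at k1
    linear_combination k1
  obtain ⟨x₀, -, hx₀⟩ := Unit.exists_value_in hg (nondeg_top hg) (K := ⊤) le_top
    (by rw [finrank_top, finrank_fin_fun]; omega) (s := (1 : F)) (map_one σ)
  have hx₀0 : g x₀ x₀ ≠ 0 := by rw [hx₀]; exact one_ne_zero
  have hperp : ∀ x, g x x ≠ 0 → ∀ (P : (Fin k → F) →ₗ[F] F),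
      (∀ y, g x y = 0 → g y y ≠ 0 → P y = 0) → ∀ y, g x y = 0 → P y = 0 := by
    intro x hx P hP y hxy
    by_cases hyy : g y y = 0
    · rcases eq_or_ne y 0 with rfl | hy0
      · exact map_zero P
      obtain ⟨v', hv', hv'v', hv'y, hyv'⟩ := exists_partner hg
        (nondeg_perpIn hg (nondeg_top hg) (a := x) Submodule.mem_top hx)
        (v := y) ((mem_perpIn hg).2 ⟨Submodule.mem_top, Unit.eq_zero_comm hg hxy⟩) hy0 hyy
      obtain ⟨hs, s, hsv, hs0, hs2⟩ : ∃ (_ : True), ∃ s : F, σ s = s ∧ s ≠ 0 ∧ s + 2 ≠ 0 := by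
        by_cases h2 : (2 : F) = 0
        · exact ⟨trivial, 1, map_one σ, one_ne_zero, by rw [h2, add_zero]; exact one_ne_zero⟩
        · exact ⟨trivial, 2, map_ofNat σ 2, h2, fun e => mul_ne_zero h2 h2 (by linear_combination e)⟩
      obtain ⟨t, ht⟩ := Unit.exists_trace_eq hg hsv
      have hxv' : g x v' = 0 := Unit.eq_zero_comm hg ((mem_perpIn hg).1 hv').2
      have hval : ∀ c : F, g (v' + c • y) (v' + c • y) = c + σ c := fun c => by
        rw [hg.add_left, Unit.add_right hg, Unit.add_right hg, hg.smul_left, hg.smul_left,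
          Unit.smul_right hg, Unit.smul_right hg, hv'v', hv'y, hyv', hyy]
        ring
      have hort : ∀ c : F, g x (v' + c • y) = 0 := fun c => by
        rw [Unit.add_right hg, Unit.smul_right hg, hxv', hxy, mul_zero, add_zero]
      have e1 := hP _ (hort t) (by rw [hval, ht]; exact hs0)
      have e2 := hP _ (hort (t + 1)) (by
        rw [hval, map_add, map_one, show t + 1 + (σ t + 1) = t + σ t + 2 by ring, ht]
        exact hs2)
      rw [add_smul, one_smul, ← add_assoc, map_add, e1, zero_add] at e2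
      exact e2
    · exact hP y hxy hyy
  have heig : ∀ x, g x x ≠ 0 → S x = (g (S x) x / g x x) • x := by
    intro x hx
    refine form_ext hg fun z => ?_
    have hz : g x (z - σ (g x z / g x x) • x) = 0 := by
      rw [Unit.sub_right hg, Unit.smul_right hg, hg.involutive, div_mul_cancel₀ _ hx, sub_self]
    have h1 : ∀ y, g x y = 0 → g (S x) y = 0 := by
      intro y hxy
      have := hperp x hx (Unit.formL hg (S x)) (fun y hxy hyy => by
        rw [Unit.formL_apply]; exact Unit.eq_zero_comm hg (hA x y hx hyy hxy).1) y hxy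
      exact Unit.eq_zero_comm hg this
    have h2 := h1 _ hz
    rw [Unit.sub_right hg, Unit.smul_right hg, hg.involutive, sub_eq_zero] at h2
    rw [h2, hg.smul_left]
    ring
  set l := g (S x₀) x₀ / g x₀ x₀ with hl
  refine ⟨l, fun z => ?_⟩
  have hD : ∀ y, g x₀ y = 0 → S y = l • y := by
    intro y hy
    funext i
    refine sub_eq_zero.1 (hperp x₀ hx₀0 ((LinearMap.proj i).comp (S - l • LinearMap.id))
      (fun y hy hyy => ?_) y hy)
    have h2 := (hA x₀ y hx₀0 hyy hy).2
    have h3 : g (S y) y / g y y = l := by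
      rw [hl, div_eq_div_iff hyy hx₀0]; linear_combination -h2
    simp only [LinearMap.comp_apply, LinearMap.proj_apply, LinearMap.sub_apply, LinearMap.smul_apply,
      LinearMap.id_apply, Pi.sub_apply]
    rw [heig y hyy, h3, sub_self]
  have hz : g x₀ (z - σ (g x₀ z / g x₀ x₀) • x₀) = 0 := by
    rw [Unit.sub_right hg, Unit.smul_right hg, hg.involutive, div_mul_cancel₀ _ hx₀0, sub_self]
  have := hD _ hz
  rw [map_sub, map_smul, heig x₀ hx₀0, smul_sub, smul_comm l] at this
  exact sub_left_inj.1 this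

variable (H : Hyp σ f f₁ f₂ M)
include H

/-- The root of a nonzero skew rank-one map at an isotropic vector. -/
def HasPointRoot (v : Fin b → F) : Prop :=
  ∃ u : Fin a → F, ∃ c : F, u ≠ 0 ∧ f₁ u u = 0 ∧ c ≠ 0 ∧ σ c = -c ∧
    RootMap f₂ M v (c • outer H.pair.hf₁ u u)

/-- Over the field of four elements the sum of two orthogonal projections yields a point root. -/
lemma pointRoot_of_plane (h2 : (2 : F) = 0) {ω : F} (hω : ω * ω = ω + 1) (hσω : σ ω = ω + 1)
    {v : Fin b → F} (hvv : f₂ v v = 0) {p : Fin 3 → Fin a → F}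
    (hp : ∀ i j, f₁ (p i) (p j) = if i = j then 1 else 0)
    (h : RootMap f₂ M v (outer H.pair.hf₁ (p 0) (p 0) + outer H.pair.hf₁ (p 1) (p 1))) :
    HasPointRoot H v := by
  have hf₁ := H.pair.hf₁
  have hc3 : ω * (ω + 1) = 1 := by linear_combination hω + ω * h2
  have hσ1 : σ (ω + 1) = ω := by rw [map_add, hσω, map_one]; linear_combination h2
  have hmap : ∀ α β : F, α = 1 → β * σ β = 1 → β * (β * β) = 1 →
      RootMap f₂ M v (outer hf₁ (p 0 + ω • p 1 + ((ω + 1) * β) • p 2)
          (p 0 + ω • p 1 + ((ω + 1) * β) • p 2) +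
        outer hf₁ (p 0 + (ω + 1) • p 1 + (ω * β) • p 2) (p 0 + (ω + 1) • p 1 + (ω * β) • p 2)) := by
    intro α β _ hβ hβ3
    obtain ⟨A, hA, hd, hAp⟩ := exists_frame_map hf₁ hp
      !![1, 1, σ β; ω, ω + 1, σ β; (ω + 1) * β, ω * β, 1] (by
        intro i j
        fin_cases i <;> fin_cases j <;>
          simp [Fin.sum_univ_three, hσω, hf₁.involutive] <;> grind) (by
        simp [Matrix.det_fin_three]
        grind)
    have e := h.conj H hA hd
    have hcomp : ∀ x, (Matrix.toLin' A.val).comp ((outer hf₁ x x).comp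
        (Matrix.toLin' (A⁻¹ : GL (Fin a) F).val)) = outer hf₁ (A •ᵥ x) (A •ᵥ x) := fun x => by
      refine LinearMap.ext fun s => ?_
      have e := Unit.mem_isoOf.1 hA ((A⁻¹ : GL (Fin a) F) •ᵥ s) x
      rw [gl_mulVec_inv_mulVec] at e
      simp [Matrix.toLin'_apply, mulVec_smul, e]
    rw [LinearMap.add_comp, LinearMap.comp_add, hcomp, hcomp, hAp, hAp, Fin.sum_univ_three,
      Fin.sum_univ_three] at e
    simpa using e
  have e1 := hmap 1 1 rfl (by simp) (by simp)
  have e2 := hmap 1 ω rfl (by rw [hσω]; exact hc3) (by linear_combination ω * hω + hω + ω * h2)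
  have e3 := hmap 1 (ω + 1) rfl (by rw [hσ1]; linear_combination hc3)
    (by grind)
  refine ⟨p 0 + p 1, 1, fun e => ?_, ?_, one_ne_zero, by rw [map_one]; linear_combination h2, ?_⟩
  · have := congrArg (fun x => f₁ x (p 0)) e
    simp [hf₁.add_left, hp, Unit.zero_left hf₁] at this
  · simp [hf₁.add_left, Unit.add_right hf₁, hp]; linear_combination h2
  · convert ((h.add H hvv e1).add H hvv e2).add H hvv e3 using 1
    refine LinearMap.ext fun s => ?_
    simp only [LinearMap.smul_apply, LinearMap.add_apply, outer_apply, Unit.add_right hf₁,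
      Unit.smul_right hf₁, map_mul, map_one, hσω, hσ1]
    match_scalars <;> grind

/-- A non-scalar root set contains the root of a point. -/
theorem exists_pointRoot (hex : 3 ≤ a ∨ ∃ ρ : F, σ ρ = ρ ∧ ρ ≠ 0 ∧ ρ ≠ 1) (hO : ¬ Only f₂ M) :
    ∃ v : Fin b → F, v ≠ 0 ∧ f₂ v v = 0 ∧ HasPointRoot H v := by
  classical
  have P := H.pair
  have hf₁ := P.hf₁
  simp only [Only, not_forall] at hO
  obtain ⟨v, hv, hvv, g, hg, S, hgS, hns⟩ := hO
  refine ⟨v, hv, hvv, ?_⟩
  have hS : RootMap f₂ M v S := ⟨g, hg, hgS⟩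
  have hsk := hS.skew H hv hvv
  obtain ⟨u, huu, hκ⟩ : ∃ u, f₁ u u = 0 ∧ f₁ (S u) u ≠ 0 := by
    by_contra hcon
    push Not at hcon
    exact hns (scalar_of_iso hf₁ P.two_le S hcon)
  set κ := f₁ (S u) u with hκdef
  have hu : u ≠ 0 := fun e => hκ (by rw [hκdef, e, Unit.zero_right hf₁])
  have hσκ : σ κ = -κ := by
    rw [hκdef, ← hf₁.herm]; linear_combination hsk u u
  have hD : ∀ c, σ c = -c → RootMap f₂ M v
      ((c • ((Unit.formL hf₁ u).comp S).smulRight u - c • outer hf₁ u (S u)) -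
        (c * c * κ) • outer hf₁ u u) := by
    intro c hc
    have e := (hS.conj H (Unit.uTv_mem_isoOf hf₁ huu hc) (det_of_sl (Unit.uTv_mem_sl _ _ _))).sub
      H hv hvv hS
    convert e using 1
    refine LinearMap.ext fun s => ?_
    have hi : ((Unit.uTv hf₁ u c)⁻¹ : GL (Fin a) F) •ᵥ s = s - (c * f₁ s u) • u :=
      gl_mulVec_injective (Unit.uTv hf₁ u c) (by
        show _ *ᵥ _ = _ *ᵥ _
        rw [gl_mulVec_inv_mulVec, Unit.uTv_mulVec hf₁ huu, Unit.sub_left hf₁, hf₁.smul_left, huu]
        module)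
    simp only [LinearMap.sub_apply, LinearMap.smul_apply, LinearMap.smulRight_apply,
      LinearMap.comp_apply, Unit.formL_apply, outer_apply, Matrix.toLin'_apply, hi, map_sub,
      map_smul, Unit.uTv_mulVec hf₁ huu, Unit.sub_left hf₁, hf₁.smul_left, ← hκdef]
    module
  obtain ⟨τ, hτ0, hτ⟩ := Unit.exists_trace_zero P.hf.ne_refl P.hf.involutive
  by_cases hρ : ∃ ρ : F, σ ρ = ρ ∧ ρ ≠ 0 ∧ ρ ≠ 1
  · obtain ⟨ρ, hρ, hρ0, hρ1⟩ := hρ
    refine ⟨u, (ρ - ρ * ρ) * (τ * τ * κ), hu, huu,
      mul_ne_zero (fun e => ?_) (mul_ne_zero (mul_ne_zero hτ0 hτ0) hκ), ?_, ?_⟩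
    · have : ρ * (1 - ρ) = 0 := by linear_combination e
      exact (sub_ne_zero.2 (Ne.symm hρ1)) ((mul_eq_zero.1 this).resolve_left hρ0)
    · simp only [map_mul, map_sub, hρ, hτ, hσκ]; ring
    · convert (hD (ρ * τ) (by rw [map_mul, hρ, hτ, mul_neg])).sub H hv hvv
        ((hD τ hτ).smul H hv hvv hρ) using 1
      module
  push Not at hρ
  have ha3 : 3 ≤ a := hex.resolve_right fun ⟨ρ, h1, h2, h3⟩ => h3 (hρ ρ h1 h2)
  have hfix : ∀ x, σ x = x → x ≠ 0 → x = 1 := hρ
  have h2 : (2 : F) = 0 := by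
    by_contra h2
    exact one_ne_zero (α := F) (by linear_combination hfix 2 (map_ofNat σ 2) h2)
  obtain ⟨ω, hω'⟩ : ∃ ω, σ ω ≠ ω := by
    by_contra hc
    push Not at hc
    exact P.hf.ne_refl (RingEquiv.ext hc)
  have hω0 : ω ≠ 0 := fun e => hω' (by rw [e, map_zero])
  have hσω : σ ω = ω + 1 := by
    rcases eq_or_ne (ω + σ ω) 0 with e | e
    · exact absurd (by linear_combination e - ω * h2) hω'
    · linear_combination hfix _ (by rw [map_add, P.hf.involutive, add_comm]) e - ω * h2
  have hω : ω * ω = ω + 1 := by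
    have e := hfix (ω * σ ω) (by rw [map_mul, P.hf.involutive, mul_comm])
      (mul_ne_zero hω0 fun e => hω0 ((sig_eq_zero P.hf).1 e))
    rw [hσω] at e
    linear_combination e - ω * h2
  have hκ1 : κ = 1 := hfix κ (by rw [hσκ]; linear_combination -κ * h2) hκ
  have h0 := hD 1 (by rw [map_one]; linear_combination h2)
  set k := S u
  have hku : f₁ k u = 1 := hκ1
  have huk : f₁ u k = 1 := by rw [hf₁.herm, hku, map_one]
  have hSs : ∀ s, f₁ (S s) u = -f₁ s k := fun s => by linear_combination hsk s u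
  have extend : ∀ p r : Fin a → F, f₁ p p = 1 → f₁ r r = 1 → f₁ p r = 0 →
      ∃ e, f₁ e e = 1 ∧ f₁ e p = 0 ∧ f₁ e r = 0 := by
    intro p r hpp hrr hpr
    have d1 := finrank_perpIn hf₁ (⊤ : Submodule F (Fin a → F)) p
    have d2 := finrank_perpIn hf₁ (perpIn hf₁ (⊤ : Submodule F (Fin a → F)) p) r
    rw [finrank_top, finrank_fin_fun] at d1
    have n1 := nondeg_perpIn hf₁ (nondeg_top hf₁) (a := p) Submodule.mem_top (by rw [hpp]; exact one_ne_zero)
    have n2 := nondeg_perpIn hf₁ n1 (a := r)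
      ((mem_perpIn hf₁).2 ⟨Submodule.mem_top, Unit.eq_zero_comm hf₁ hpr⟩) (by rw [hrr]; exact one_ne_zero)
    obtain ⟨e, he, hee⟩ := Unit.exists_value_in hf₁ n2
      (K := perpIn hf₁ (perpIn hf₁ ⊤ p) r) le_rfl (by omega) (s := (1 : F)) (map_one σ)
    simp only [mem_perpIn] at he
    exact ⟨e, hee, he.1.2, he.2⟩
  by_cases hkk : f₁ k k = 0
  · set p := k + (ω + 1) • u
    set r := k + ω • u
    have hσ1 : σ (ω + 1) = ω := by rw [map_add, hσω, map_one]; linear_combination h2
    have hpp : f₁ p p = 1 := by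
      simp only [p, hf₁.add_left, Unit.add_right hf₁, hf₁.smul_left, Unit.smul_right hf₁, hkk, hku,
        huk, huu, hσ1]
      linear_combination ω * h2
    have hrr : f₁ r r = 1 := by
      simp only [r, hf₁.add_left, Unit.add_right hf₁, hf₁.smul_left, Unit.smul_right hf₁, hkk, hku,
        huk, huu, hσω]
      linear_combination ω * h2
    have hpr : f₁ p r = 0 := by
      simp only [p, r, hf₁.add_left, Unit.add_right hf₁, hf₁.smul_left, Unit.smul_right hf₁, hkk,
        hku, huk, huu, hσω]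
      linear_combination (ω + 1) * h2
    obtain ⟨e, hee, hep, her⟩ := extend p r hpp hrr hpr
    have hC : RootMap f₂ M v (outer hf₁ p r + outer hf₁ r p) := by
      convert h0 using 1
      refine LinearMap.ext fun s => ?_
      simp only [LinearMap.add_apply, outer_apply, LinearMap.sub_apply, LinearMap.smul_apply,
        LinearMap.smulRight_apply, LinearMap.comp_apply, Unit.formL_apply, hSs, p, r,
        Unit.add_right hf₁, Unit.smul_right hf₁, hσ1, hσω, hκ1]
      match_scalars <;> grind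
    have hq : ∀ i j, f₁ (![p, r, e] i) (![p, r, e] j) = if i = j then 1 else 0 := by
      intro i j
      fin_cases i <;> fin_cases j <;>
        simp [hpp, hrr, hpr, hee, hep, her, Unit.eq_zero_comm hf₁ hpr, Unit.eq_zero_comm hf₁ hep,
          Unit.eq_zero_comm hf₁ her]
    have himg : ∀ α β : F, α * σ α = 1 → β * σ β = 1 → α * β = 1 →
        RootMap f₂ M v (outer hf₁ (p + α • r + β • e) (p + (ω * α) • r + ((ω + 1) * β) • e) +
          outer hf₁ (p + (ω * α) • r + ((ω + 1) * β) • e) (p + α • r + β • e)) := by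
      intro α β hα hβ hαβ
      obtain ⟨A, hA, hd, hAp⟩ := exists_frame_map hf₁ hq
        !![1, 1, 1; α, ω * α, (ω + 1) * α; β, (ω + 1) * β, ω * β] (by
          intro i j
          fin_cases i <;> fin_cases j <;>
            simp [Fin.sum_univ_three, hσω, hσ1] <;> grind) (by
          simp [Matrix.det_fin_three]
          grind)
      have hcomp : ∀ x y, (Matrix.toLin' A.val).comp ((outer hf₁ x y).comp
          (Matrix.toLin' (A⁻¹ : GL (Fin a) F).val)) = outer hf₁ (A •ᵥ x) (A •ᵥ y) := fun x y => by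
        refine LinearMap.ext fun s => ?_
        have e := Unit.mem_isoOf.1 hA ((A⁻¹ : GL (Fin a) F) •ᵥ s) x
        rw [gl_mulVec_inv_mulVec] at e
        simp [Matrix.toLin'_apply, mulVec_smul, e]
      have e0 := hC.conj H hA hd
      rw [LinearMap.add_comp, LinearMap.comp_add, hcomp, hcomp,
        show A •ᵥ p = _ from hAp 0, show A •ᵥ r = _ from hAp 1, Fin.sum_univ_three,
        Fin.sum_univ_three] at e0
      simpa using e0
    have t1 := himg 1 1 (by simp) (by simp) (by simp)
    have t2 := himg ω (ω + 1) (by rw [hσω]; grind) (by rw [hσ1]; grind) (by grind)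
    have t3 := himg (ω + 1) ω (by rw [hσ1]; grind) (by rw [hσω]; grind) (by grind)
    refine pointRoot_of_plane H h2 hω hσω hvv (p := ![r, e, p]) (fun i j => ?_) ?_
    · fin_cases i <;> fin_cases j <;>
        simp [hpp, hrr, hpr, hee, hep, her, Unit.eq_zero_comm hf₁ hpr, Unit.eq_zero_comm hf₁ hep,
          Unit.eq_zero_comm hf₁ her]
    · convert (t1.add H hvv t2).add H hvv t3 using 1
      refine LinearMap.ext fun s => ?_
      simp only [Matrix.cons_val_zero, Matrix.cons_val_one, LinearMap.add_apply, outer_apply,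
        Unit.add_right hf₁, Unit.smul_right hf₁, map_mul, map_one, hσω, hσ1]
      match_scalars <;> grind
  · have hn : f₁ k k = 1 := hfix _ (Unit.self_fixed hf₁ k) hkk
    set r := k + u
    have hrr : f₁ r r = 1 := by
      simp only [r, hf₁.add_left, Unit.add_right hf₁, hn, hku, huk, huu]
      linear_combination h2
    have hkr : f₁ k r = 0 := by
      simp only [r, Unit.add_right hf₁, hn, hku]; linear_combination h2
    obtain ⟨e, hee, hek, her⟩ := extend k r hn hrr hkr
    refine pointRoot_of_plane H h2 hω hσω hvv (p := ![k, r, e]) (fun i j => ?_) ?_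
    · fin_cases i <;> fin_cases j <;>
        simp [hn, hrr, hkr, hee, hek, her, Unit.eq_zero_comm hf₁ hkr, Unit.eq_zero_comm hf₁ hek,
          Unit.eq_zero_comm hf₁ her]
    · convert h0 using 1
      refine LinearMap.ext fun s => ?_
      simp only [Matrix.cons_val_zero, Matrix.cons_val_one, LinearMap.add_apply, outer_apply,
        LinearMap.sub_apply, LinearMap.smul_apply, LinearMap.smulRight_apply, LinearMap.comp_apply,
        Unit.formL_apply, hSs, r, Unit.add_right hf₁, hκ1]
      match_scalars <;> grind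

/-- A group above the stabiliser outside it contains a transvection at a pure isotropic point. -/
theorem exists_point_transvection (hex : 3 ≤ a ∨ ∃ ρ : F, σ ρ = ρ ∧ ρ ≠ 0 ∧ ρ ≠ 1)
    (hO : ¬ Only f₂ M) : ∃ (u : Fin a → F) (v : Fin b → F) (c : F), u ≠ 0 ∧ v ≠ 0 ∧ f₁ u u = 0 ∧
      f₂ v v = 0 ∧ c ≠ 0 ∧ σ c = -c ∧ Unit.uTv H.pair.hf (pt u v) c ∈ M := by
  obtain ⟨v, hv, hvv, u, c, hu, huu, hc0, hc, g, hg, hgz⟩ := exists_pointRoot H hex hO
  refine ⟨u, v, c, hu, hv, huu, hvv, hc0, hc, ?_⟩
  convert hg using 1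
  refine gl_ext_pt fun x w => ?_
  rw [Unit.uTv_mulVec H.pair.hf (by rw [H.pair.form_pt, huu, zero_mul]), hgz, form_ptv H.pair,
    LinearMap.smul_apply, outer_apply, smul_smul, pt_smul_left]

end CfsgLib.ClassicalMax.UnitTens
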