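/-
A transvection at a pure isotropic point generates, with the tensors, the special unitary group.
-/
import Cfsg.Agent.Lib.ClassicalMax.UnitTens.Root
set_option autoImplicit false
set_option linter.unusedSectionVars false

namespace CfsgLib.ClassicalMax.UnitTens

open Matrix Kronecker Module Cfsg.Geo
open CfsgLib.ClassicalMax
open CfsgLib.ClassicalMax.Kron
open CfsgLib.ClassicalMax.TensorSymp (ptL ptL_apply pt_neg_left pt_neg_right pt_sub_left)
open CfsgLib.ClassicalMax.TensorSL (InH lcon lcon_pt)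

variable {F : Type*} [Field F] [DecidableEq F] [Fintype F] {a b : ℕ} {σ : F ≃+* F}
  {f : (Fin a × Fin b → F) → (Fin a × Fin b → F) → F} {f₁ : (Fin a → F) → (Fin a → F) → F}
  {f₂ : (Fin b → F) → (Fin b → F) → F} {M : Subgroup (GL (Fin a × Fin b) F)}

/-- The action of an element on a vector. -/
local notation:80 g:81 " •ᵥ " z:80 => Matrix.mulVec (Units.val g) z

variable (H : Hyp σ f f₁ f₂ M)
include H

/-- An isotropic vector all whose transvections lie in `M`. -/
def Centre (z : Fin a × Fin b → F) : Prop :=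
  f z z = 0 ∧ ∀ c, σ c = -c → Unit.uTv H.pair.hf z c ∈ M

omit [DecidableEq F] [Fintype F] in
lemma mem_isoOf_M [DecidableEq F] {g : GL (Fin a × Fin b) F} (hg : g ∈ M) : g ∈ Unit.isoOf f :=
  Unit.mem_isoOf.2 (H.iso g hg)

lemma uTv_smul (l c : F) {z : Fin a × Fin b → F} (hz : f z z = 0) :
    Unit.uTv H.pair.hf (l • z) c = Unit.uTv H.pair.hf z (c * (l * σ l)) := by
  have hf := H.pair.hf
  refine gl_ext_pt fun x w => ?_
  rw [Unit.uTv_mulVec hf (by rw [hf.smul_left, Unit.smul_right hf, hz, mul_zero, mul_zero]),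
    Unit.uTv_mulVec hf hz, Unit.smul_right hf, smul_smul]
  congr 2
  ring

lemma Centre.smul {z : Fin a × Fin b → F} (h : Centre H z) (l : F) : Centre H (l • z) := by
  have hf := H.pair.hf
  refine ⟨by rw [hf.smul_left, Unit.smul_right hf, h.1, mul_zero, mul_zero], fun c hc => ?_⟩
  rw [uTv_smul H l c h.1]
  refine h.2 _ ?_
  rw [map_mul, map_mul, hc, hf.involutive]
  ring

lemma Centre.move {z : Fin a × Fin b → F} (h : Centre H z) {g : GL (Fin a × Fin b) F} (hg : g ∈ M) :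
    Centre H (g •ᵥ z) := by
  refine ⟨by rw [H.iso g hg]; exact h.1, fun c hc => ?_⟩
  rw [← Unit.uTv_conj H.pair.hf (mem_isoOf_M H hg) h.1]
  exact M.mul_mem (M.mul_mem hg (h.2 c hc)) (M.inv_mem hg)

/-- Centres are closed under isotropic non-orthogonal sums. -/
lemma Centre.add {p q : Fin a × Fin b → F} (hp : Centre H p) (hq : Centre H q) (hne : f q p ≠ 0)
    (hiso : f (q + p) (q + p) = 0) : Centre H (q + p) := by
  have hf := H.pair.hf
  have htr : f q p + σ (f q p) = 0 := by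
    rw [← hiso, hf.add_left, Unit.add_right hf, Unit.add_right hf, hp.1, hq.1, ← hf.herm]; ring
  have hc : σ ((f q p)⁻¹) = -(f q p)⁻¹ := by
    rw [map_inv₀, show σ (f q p) = -(f q p) by linear_combination htr, inv_neg]
  have := hq.move H (hp.2 _ hc)
  rwa [Unit.uTv_mulVec hf hp.1, inv_mul_cancel₀ hne, one_smul] at this

/-- All transvections at pure points with isotropic factors. -/
lemma centre_iso_pure {u : Fin a → F} {v : Fin b → F} {c₀ : F} (hu : u ≠ 0) (hv : v ≠ 0)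
    (huu : f₁ u u = 0) (hvv : f₂ v v = 0) (hc₀ : c₀ ≠ 0) (hσc₀ : σ c₀ = -c₀)
    (hM : Unit.uTv H.pair.hf (pt u v) c₀ ∈ M) {u' : Fin a → F} {v' : Fin b → F}
    (huu' : f₁ u' u' = 0) (hvv' : f₂ v' v' = 0) : Centre H (pt u' v') := by
  have P := H.pair
  have hz : f (pt u v) (pt u v) = 0 := by rw [P.form_pt, huu, zero_mul]
  have hbase : Centre H (pt u v) := by
    refine ⟨hz, fun c hc => ?_⟩
    rcases eq_or_ne c 0 with rfl | hc0
    · convert M.one_mem using 1
      exact gl_ext_pt fun x w => by rw [Unit.uTv_mulVec P.hf hz]; simp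
    obtain ⟨l, hl⟩ := Unit.exists_norm_eq P.hf.ne_refl P.hf.involutive (s := c / c₀)
      (by rw [map_div₀, hc, hσc₀, neg_div_neg_eq])
    have hl0 : l ≠ 0 := fun e => div_ne_zero hc0 hc₀ (by rw [← hl, e, zero_mul])
    obtain ⟨B, hB, hBM, hBv⟩ := exists_W_map H hv (smul_ne_zero hl0 hv) hvv
      (by rw [P.hf₂.smul_left, Unit.smul_right P.hf₂, hvv, mul_zero, mul_zero])
    have h1 := M.mul_mem (M.mul_mem hBM hM) (M.inv_mem hBM)
    rw [Unit.uTv_conj P.hf (mem_isoOf_M H hBM) hz, kronGL_pt, Units.val_one, one_mulVec, hBv,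
      pt_smul_right, uTv_smul H l c₀ hz, hl, mul_div_cancel₀ _ hc₀] at h1
    exact h1
  rcases eq_or_ne u' 0 with rfl | hu'
  · rw [pt_zero_left, ← zero_smul F (pt u v)]; exact hbase.smul H 0
  rcases eq_or_ne v' 0 with rfl | hv'
  · rw [pt_zero_right, ← zero_smul F (pt u v)]; exact hbase.smul H 0
  obtain ⟨A, l, hl, hA, hAM, hAu⟩ := exists_U_map H hu hu' huu huu'
  obtain ⟨B, hB, hBM, hBv⟩ := exists_W_map H hv hv' hvv hvv'
  have := ((hbase.move H hBM).move H hAM).smul H l⁻¹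
  rwa [kronGL_pt, kronGL_pt, Units.val_one, Units.val_one, one_mulVec, one_mulVec, hAu, hBv,
    pt_smul_left, inv_smul_smul₀ hl] at this

/-- All transvections at pure points with an isotropic second factor. -/
lemma centre_pure (hP : ∀ {u : Fin a → F} {v : Fin b → F}, f₁ u u = 0 → f₂ v v = 0 →
    Centre H (pt u v)) (x : Fin a → F) {v : Fin b → F} (hvv : f₂ v v = 0) : Centre H (pt x v) := by
  have P := H.pair
  have hf₁ := P.hf₁
  have hf₂ := P.hf₂
  by_cases hxx : f₁ x x = 0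
  · exact hP hxx hvv
  rcases eq_or_ne v 0 with rfl | hv
  · have := hP (u := 0) (v := 0) (Unit.zero_left hf₁ 0) (Unit.zero_left hf₂ 0)
    rwa [pt_zero_right] at this ⊢
  set n := f₁ x x with hn
  have hσn : σ n = n := Unit.self_fixed hf₁ x
  have d1 := finrank_perpIn hf₁ (⊤ : Submodule F (Fin a → F)) x
  rw [finrank_top, finrank_fin_fun] at d1
  have := P.two_le
  obtain ⟨k, hk, hkk⟩ := Unit.exists_value_in hf₁
    (nondeg_perpIn hf₁ (nondeg_top hf₁) (a := x) Submodule.mem_top hxx)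
    (K := perpIn hf₁ ⊤ x) le_rfl (by omega) (s := -n) (by rw [map_neg, hσn])
  have hkx : f₁ k x = 0 := ((mem_perpIn hf₁).1 hk).2
  set u := x + k
  have hxu : f₁ x u = n := by rw [Unit.add_right hf₁, Unit.eq_zero_comm hf₁ hkx, add_zero]
  have hux : f₁ u x = n := by rw [hf₁.herm, hxu, hσn]
  have huu : f₁ u u = 0 := by
    rw [hf₁.add_left, hxu, Unit.add_right hf₁, hkx, hkk]; ring
  obtain ⟨t, ht⟩ := Unit.exists_trace_eq P.hf (s := (-1 : F)) (by rw [map_neg, map_one])
  set y := n⁻¹ • (x + t • u) with hy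
  have hyy : f₁ y y = 0 := by
    rw [hy, hf₁.smul_left, Unit.smul_right hf₁, hf₁.add_left, Unit.add_right hf₁, Unit.add_right hf₁,
      hf₁.smul_left, hf₁.smul_left, Unit.smul_right hf₁, Unit.smul_right hf₁, hxu, hux, huu, ← hn]
    linear_combination (n⁻¹ * σ n⁻¹ * n) * ht
  have hyu : f₁ y u = 1 := by
    rw [hy, hf₁.smul_left, hf₁.add_left, hf₁.smul_left, hxu, huu, mul_zero, add_zero,
      inv_mul_cancel₀ hxx]
  obtain ⟨v', -, hv'v', hv'v, hvv'⟩ :=
    exists_partner hf₂ (nondeg_top hf₂) (Submodule.mem_top (x := v)) hv hvv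
  set K := perpIn hf₂ (perpIn hf₂ (⊤ : Submodule F (Fin b → F)) v) v'
  have hKd : 2 ≤ finrank F K := by
    have e1 := finrank_perpIn hf₂ (⊤ : Submodule F (Fin b → F)) v
    have e2 := finrank_perpIn hf₂ (perpIn hf₂ (⊤ : Submodule F (Fin b → F)) v) v'
    rw [finrank_top, finrank_fin_fun] at e1
    have := P.five_le
    show 2 ≤ finrank F (perpIn hf₂ (perpIn hf₂ (⊤ : Submodule F (Fin b → F)) v) v' : Submodule F (Fin b → F))
    omega
  have hK : IsNondegenerateOn f₂ K := by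
    intro w hw hw0
    simp only [K, mem_perpIn] at hw
    obtain ⟨⟨z, hz⟩, -⟩ := hf₂.nondegenerate w hw0
    set p := z - f₂ z v' • v - f₂ z v • v'
    have hp : p ∈ K := by
      simp only [K, mem_perpIn, p, Unit.sub_left hf₂, hf₂.smul_left, hvv, hv'v, hvv', hv'v']
      exact ⟨⟨Submodule.mem_top, by ring⟩, by ring⟩
    have hv1 : f₂ p w ≠ 0 := by
      simp only [p, Unit.sub_left hf₂, hf₂.smul_left, Unit.eq_zero_comm hf₂ hw.1.2,
        Unit.eq_zero_comm hf₂ hw.2, mul_zero, sub_zero]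
      exact hz
    exact ⟨⟨p, hp, hv1⟩, ⟨p, hp, Unit.ne_zero_comm hf₂ hv1⟩⟩
  obtain ⟨m, hm, hm0, hmm⟩ := Unit.exists_isotropic_mem hf₂ hKd
  obtain ⟨m', hm', hm'm', hm'm, hmm'⟩ := exists_partner hf₂ hK hm hm0 hmm
  simp only [K, mem_perpIn] at hm hm'
  obtain ⟨τ, hτ0, hτ⟩ := Unit.exists_trace_zero P.hf.ne_refl P.hf.involutive
  set α := -(t * n⁻¹) with hα
  set c := -(τ * σ α) with hc
  have hσc : σ c = τ * α := by rw [hc, map_neg, map_mul, hτ, hf₁.involutive]; ring
  let k1 := τ • v' + α • v + (c • m + m')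
  let k2 := (-τ) • v' + (-σ c) • m
  let k3 := τ • v' + ((σ c - c) • m + (-1 : F) • m')
  let k4 := (-τ) • v'
  have hv'm : f₂ v' m = 0 := Unit.eq_zero_comm hf₂ hm.2
  have hv'm' : f₂ v' m' = 0 := Unit.eq_zero_comm hf₂ hm'.2
  have hvm : f₂ v m = 0 := Unit.eq_zero_comm hf₂ hm.1.2
  have hvm' : f₂ v m' = 0 := Unit.eq_zero_comm hf₂ hm'.1.2
  have tab : ∀ p1 p2 p3 p4 q1 q2 q3 q4 : F,
      f₂ (p1 • v' + p2 • v + (p3 • m + p4 • m')) (q1 • v' + q2 • v + (q3 • m + q4 • m')) =
        p1 * σ q2 + p2 * σ q1 + p3 * σ q4 + p4 * σ q3 := by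
    intro p1 p2 p3 p4 q1 q2 q3 q4
    simp only [hf₂.add_left, Unit.add_right hf₂, hf₂.smul_left, Unit.smul_right hf₂, hv'v', hv'v,
      hvv', hvv, hmm, hmm', hm'm, hm'm', hv'm, hv'm', hvm, hvm', hm.1.2, hm.2, hm'.1.2, hm'.2]
    ring
  have hk1 : f₂ k1 k1 = 0 := by
    have := tab τ α c 1 τ α c 1
    rw [one_smul] at this
    rw [this, hσc, hc, hτ, map_one]; ring
  have hk2 : f₂ k2 k2 = 0 := by
    have := tab (-τ) 0 (-σ c) 0 (-τ) 0 (-σ c) 0
    simp only [zero_smul, add_zero] at this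
    rw [this, map_zero]; ring
  have hk3 : f₂ k3 k3 = 0 := by
    have := tab τ 0 (σ c - c) (-1) τ 0 (σ c - c) (-1)
    simp only [zero_smul, add_zero] at this
    rw [this]; simp only [map_zero, map_neg, map_one, map_sub, hf₁.involutive]; ring
  have hk4 : f₂ k4 k4 = 0 := by
    rw [hf₂.smul_left, Unit.smul_right hf₂, hv'v', mul_zero, mul_zero]
  have hvk1 : f₂ v k1 = -τ := by
    have := tab 0 1 0 0 τ α c 1
    simp only [zero_smul, add_zero, zero_add, one_smul] at this
    rw [this, hτ]; ring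
  have hvk2 : f₂ v k2 = τ := by
    have := tab 0 1 0 0 (-τ) 0 (-σ c) 0
    simp only [zero_smul, add_zero, zero_add, one_smul] at this
    rw [this, map_neg, hτ]; ring
  have hvk3 : f₂ v k3 = -τ := by
    have := tab 0 1 0 0 τ 0 (σ c - c) (-1)
    simp only [zero_smul, add_zero, zero_add, one_smul] at this
    rw [this, hτ]; ring
  have hvk4 : f₂ v k4 = τ := by
    rw [Unit.smul_right hf₂, hvv', map_neg, hτ]; ring
  have step : ∀ K k : Fin b → F, f₂ k k = 0 → f₂ v k ≠ 0 →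
      f₂ v k + σ (f₂ v k) = 0 → Centre H (pt y v + pt u K) → Centre H (pt y v + pt u (K + k)) := by
    intro K k hkk hvk htr hc
    have hval : f (pt y v + pt u K) (pt u k) = f₂ v k := by
      rw [P.hf.add_left, P.form_pt, P.form_pt, hyu, huu, one_mul, zero_mul, add_zero]
    have := (hP huu hkk).add H hc (by rw [hval]; exact hvk) (by
      rw [P.hf.add_left, Unit.add_right P.hf _ (pt y v + pt u K) (pt u k),
        Unit.add_right P.hf _ (pt y v + pt u K) (pt u k), hc.1, hval, (hP huu hkk).1,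
        P.hf.herm (pt u k) (pt y v + pt u K), hval]
      linear_combination htr)
    rwa [add_assoc, ← pt_add_right] at this
  have c0 : Centre H (pt y v + pt u 0) := by rw [pt_zero_right, add_zero]; exact hP hyy hvv
  have c1 := step 0 k1 hk1 (by rw [hvk1]; exact neg_ne_zero.2 hτ0) (by rw [hvk1, map_neg, hτ]; ring) c0
  have c2 := step _ k2 hk2 (by rw [hvk2]; exact hτ0) (by rw [hvk2, hτ]; ring) c1
  have c3 := step _ k3 hk3 (by rw [hvk3]; exact neg_ne_zero.2 hτ0) (by rw [hvk3, map_neg, hτ]; ring) c2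
  have c4 := step _ k4 hk4 (by rw [hvk4]; exact hτ0) (by rw [hvk4, hτ]; ring) c3
  have hsum : 0 + k1 + k2 + k3 + k4 = α • v := by
    simp only [k1, k2, k3, k4, hσc, hc]; module
  rw [hsum, pt_smul_right, ← pt_smul_left, ← pt_add_left] at c4
  have hxy : x = n • (y + α • u) := by
    rw [hy, smul_add, smul_inv_smul₀ hxx, smul_smul, hα,
      show n * -(t * n⁻¹) = -t by field_simp]
    module
  rw [hxy, pt_smul_left]
  exact c4.smul H n

end CfsgLib.ClassicalMax.UnitTens
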