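/-
Centres fill the tensor space by induction on non-degenerate subspaces of the first factor.
-/
import Cfsg.Agent.Lib.ClassicalMax.UnitTens.Gen
set_option autoImplicit false
set_option linter.unusedSectionVars false

namespace CfsgLib.ClassicalMax.UnitTens

open Matrix Kronecker Module Cfsg.Geo
open CfsgLib.ClassicalMax
open CfsgLib.ClassicalMax.Kron
open CfsgLib.ClassicalMax.TensorSymp (ptL ptL_apply pt_neg_left pt_neg_right pt_sub_left)
open CfsgLib.ClassicalMax.TensorSL (InH lcon lcon_pt)

variable {F : Type*} [Field F] [DecidableEq F] [Fintype F] {a b : ℕ} {σ : F ≃+* F}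
  {f : (Fin a × Fin b → F) → (Fin a × Fin b → F) → F} {f₁ : (Fin a → F) → (Fin a → F) → F}
  {f₂ : (Fin b → F) → (Fin b → F) → F} {M : Subgroup (GL (Fin a × Fin b) F)}

/-- The action of an element on a vector. -/
local notation:80 g:81 " •ᵥ " z:80 => Matrix.mulVec (Units.val g) z

/-- The tensors with all columns in a subspace of the first factor. -/
def InSub (b : ℕ) (E : Submodule F (Fin a → F)) : Submodule F (Fin a × Fin b → F) where
  carrier := {z | ∀ j, (fun i => z (i, j)) ∈ E}
  zero_mem' _ := E.zero_mem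
  add_mem' hy hz j := E.add_mem (hy j) (hz j)
  smul_mem' c _ hz j := E.smul_mem c (hz j)

lemma pt_mem_inSub {E : Submodule F (Fin a → F)} {x : Fin a → F} (hx : x ∈ E) (w : Fin b → F) :
    pt x w ∈ InSub b E := fun j => by
  have e : (fun i => pt x w (i, j)) = w j • x := funext fun i => by simp [pt, mul_comm]
  rw [e]
  exact E.smul_mem _ hx

/-- The elements generated by transvections with centres in a subspace fix its orthogonal. -/
lemma tvGroup_fix {κ : Type} [Fintype κ] [DecidableEq κ] {g : (κ → F) → (κ → F) → F}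
    (hg : IsUnitaryForm σ g) {W : Submodule F (κ → F)} {h : GL κ F} (hh : h ∈ Unit.tvGroup hg W)
    {x : κ → F} (hx : ∀ w ∈ W, g x w = 0) : h •ᵥ x = x := by
  induction hh using Subgroup.closure_induction with
  | mem t ht =>
    obtain ⟨v, c, hv, hvv, -, rfl⟩ := ht
    exact Unit.uTv_mulVec_of_orth hg hvv c (hx v hv)
  | one => simp
  | mul p q _ _ hp hq => rw [gl_mulVec_mul, hq, hp]
  | inv p _ hp =>
    conv_lhs => rw [← hp]
    rw [gl_inv_mulVec_mulVec]

/-- Isotropic vectors with a prescribed pairing against a non-isotropic vector. -/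
lemma exists_iso_value {κ : Type} [Fintype κ] [DecidableEq κ] {g : (κ → F) → (κ → F) → F}
    (hg : IsUnitaryForm σ g) {W : Submodule F (κ → F)} (hW : IsNondegenerateOn g W)
    (hd : 2 ≤ finrank F W) {p : κ → F} (hp : p ∈ W) (hpp : g p p ≠ 0) (x₀ : F) :
    ∃ r ∈ W, g r r = 0 ∧ g p r = x₀ := by
  have hd1 := finrank_perpIn hg W p
  obtain ⟨k, hk, hkk⟩ := Unit.exists_value_in hg (nondeg_perpIn hg hW hp hpp) (K := perpIn hg W p)
    le_rfl (by omega) (s := -(x₀ * σ x₀ / g p p))
    (by rw [map_neg, map_div₀, map_mul, hg.involutive, Unit.self_fixed hg, mul_comm x₀])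
  rw [mem_perpIn] at hk
  set l := σ (x₀ / g p p)
  refine ⟨l • p + k, W.add_mem (W.smul_mem _ hp) hk.1, ?_, ?_⟩
  · rw [hg.add_left, Unit.add_right hg, Unit.add_right hg, hg.smul_left, hg.smul_left,
      Unit.smul_right hg, Unit.smul_right hg, hk.2, Unit.eq_zero_comm hg hk.2, hkk]
    simp only [l, hg.involutive, map_div₀, Unit.self_fixed hg]
    field_simp
    ring
  · rw [Unit.add_right hg, Unit.smul_right hg, Unit.eq_zero_comm hg hk.2, hg.involutive,
      div_mul_cancel₀ _ hpp, add_zero]

variable (H : Hyp σ f f₁ f₂ M)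
include H

lemma nondeg_inSub {E : Submodule F (Fin a → F)} (hE : IsNondegenerateOn f₁ E) :
    IsNondegenerateOn f (InSub b E) := by
  have P := H.pair
  intro z hz hz0
  obtain ⟨⟨i, j⟩, hij⟩ := Function.ne_iff.1 hz0
  set c := fun i => z (i, j)
  have hc : c ≠ 0 := fun e => hij (congrFun e i)
  obtain ⟨e, he, hce⟩ := (hE c (hz j) hc).2
  have hl : lcv f₁ e z j = f₁ c e := Unit.formDual_dot P.hf₁ e c
  obtain ⟨w, hw⟩ := (P.hf₂.nondegenerate (lcv f₁ e z) fun e' => hce (by rw [← hl, e']; rfl)).2
  have h : f z (pt e w) ≠ 0 := by rwa [form_ptv' P]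
  exact ⟨⟨_, pt_mem_inSub he w, Unit.ne_zero_comm P.hf h⟩, ⟨_, pt_mem_inSub he w, h⟩⟩

/-- All isotropic vectors are centres once the pure ones with an isotropic second factor are. -/
theorem centre_inSub
    (hP : ∀ (x : Fin a → F) {v : Fin b → F}, f₂ v v = 0 → Centre H (pt x v)) :
    ∀ (k : ℕ) (E : Submodule F (Fin a → F)), finrank F E ≤ k → IsNondegenerateOn f₁ E →
      ∀ z ∈ InSub b E, f z z = 0 → Centre H z := by
  classical
  have P := H.pair
  have hf := P.hf
  have hf₁ := P.hf₁
  have hf₂ := P.hf₂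
  have hb := P.five_le
  have hzero : Centre H 0 := by
    have := hP 0 (v := 0) (Unit.zero_left hf₂ 0)
    rwa [pt_zero_left] at this
  intro k
  induction k with
  | zero =>
    intro E hk _ z hz _
    have hE : E = ⊥ := Submodule.finrank_eq_zero.1 (by omega)
    have : z = 0 := funext fun s => by
      have := hz s.2
      rw [hE, Submodule.mem_bot] at this
      exact congrFun this s.1
    rw [this]; exact hzero
  | succ k ih =>
    intro E hk hE z hz hzz
    by_cases hE0 : finrank F E = 0
    · exact ih E (by omega) hE z hz hzz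
    obtain ⟨x, hx, hxx⟩ := Unit.exists_value_in hf₁ hE (K := E) le_rfl (by omega) (s := (1 : F))
      (map_one σ)
    have hxx0 : f₁ x x ≠ 0 := by rw [hxx]; exact one_ne_zero
    set E' := perpIn hf₁ E x
    have hE'k : finrank F E' ≤ k := by
      have hlt : E' < E := lt_of_le_of_ne (fun y hy => ((mem_perpIn hf₁).1 hy).1) fun e =>
        hxx0 (((mem_perpIn hf₁).1 (e.symm ▸ hx : x ∈ E')).2)
      have := Submodule.finrank_lt_finrank_of_lt hlt
      omega
    have hE'n : IsNondegenerateOn f₁ E' := nondeg_perpIn hf₁ hE hx hxx0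
    have IH := ih E' hE'k hE'n
    set W' := InSub b E'
    set X := LinearMap.range (ptL (b := b) x)
    have hW'n : IsNondegenerateOn f W' := nondeg_inSub H hE'n
    have hXn : IsNondegenerateOn f X := by
      rintro _ ⟨w, rfl⟩ hw
      obtain ⟨⟨y, hy⟩, -⟩ := hf₂.nondegenerate w fun e => hw (by rw [e, map_zero])
      have h1 : f (pt x y) (ptL x w) ≠ 0 := by
        rw [ptL_apply, P.form_pt, hxx, one_mul]; exact hy
      exact ⟨⟨_, ⟨y, rfl⟩, h1⟩, ⟨_, ⟨y, rfl⟩, Unit.ne_zero_comm hf h1⟩⟩
    have hx0 : x ≠ 0 := fun e => hxx0 (by rw [e, Unit.zero_left hf₁])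
    have hXd : finrank F X = b := by
      rw [LinearMap.finrank_range_of_inj, finrank_fin_fun]
      intro w w' hww
      obtain ⟨η, hη⟩ := exists_sum_dot hx0
      have := congrArg (lcon η) hww
      rwa [ptL_apply, ptL_apply, lcon_pt, lcon_pt, hη, one_smul, one_smul] at this
    have hXC : ∀ y ∈ X, f y y = 0 → Centre H y := by
      rintro _ ⟨w, rfl⟩ hw
      rw [ptL_apply, P.form_pt, hxx, one_mul] at hw
      exact hP x hw
    have hgM : ∀ {W : Submodule F (Fin a × Fin b → F)}, (∀ y ∈ W, f y y = 0 → Centre H y) →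
        Unit.tvGroup hf W ≤ M := fun {W} h => (Subgroup.closure_le _).2 (by
      rintro _ ⟨v, c, hv, hvv, hc, rfl⟩
      exact (h v hv hvv).2 c hc)
    have hperp : ∀ A ∈ W', ∀ B ∈ X, f A B = 0 := by
      rintro A hA _ ⟨w, rfl⟩
      have h0 : lcv f₁ x A = 0 := funext fun j =>
        (Unit.formDual_dot hf₁ x _).trans ((mem_perpIn hf₁).1 (hA j)).2
      rw [ptL_apply, form_ptv' P, h0, Unit.zero_left hf₂]
    have hbase : ∀ A ∈ W', ∀ B ∈ X, f A A = 0 → f B B = 0 → Centre H (A + B) := by
      intro A hA B hB hAA hBB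
      rcases eq_or_ne A 0 with rfl | hA0
      · rw [zero_add]; exact hXC B hB hBB
      rcases eq_or_ne B 0 with rfl | hB0
      · rw [add_zero]; exact IH A hA hAA
      obtain ⟨⟨i, j⟩, hij⟩ := Function.ne_iff.1 hA0
      set e := fun i => A (i, j)
      have he : e ∈ E' := hA j
      have he0 : e ≠ 0 := fun h => hij (congrFun h i)
      obtain ⟨v, -, hv, hvv⟩ := Unit.exists_isotropic_mem hf₂ (W := ⊤) (by
        rw [finrank_top, finrank_fin_fun]; omega)
      have hev : f (pt e v) (pt e v) = 0 := by rw [P.form_pt, hvv, mul_zero]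
      have hxv : f (pt x v) (pt x v) = 0 := by rw [P.form_pt, hvv, mul_zero]
      have hd3 : 3 ≤ finrank F W' := by
        have hle : LinearMap.range (ptL (b := b) e) ≤ W' := by
          rintro _ ⟨w, rfl⟩; exact pt_mem_inSub he w
        have h1 := Submodule.finrank_mono hle
        rw [LinearMap.finrank_range_of_inj, finrank_fin_fun] at h1
        · omega
        · intro w w' hww
          obtain ⟨η, hη⟩ := exists_sum_dot he0
          have := congrArg (lcon η) hww
          rwa [ptL_apply, ptL_apply, lcon_pt, lcon_pt, hη, one_smul, one_smul] at this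
      obtain ⟨g₁, hg₁, hg₁e⟩ := exists_tvGroup_iso hf hW'n hd3 (pt_mem_inSub he v) hA
        (pt_ne_zero he0 hv) hA0 hev hAA
      obtain ⟨g₂, hg₂, hg₂e⟩ := exists_tvGroup_iso hf hXn (by omega) (a := pt x v) ⟨v, rfl⟩ hB
        (pt_ne_zero hx0 hv) hB0 hxv hBB
      have h0 : Centre H (pt (e + x) v) := hP _ hvv
      have h1 := (h0.move H (hgM hXC hg₂)).move H (hgM IH hg₁)
      rwa [pt_add_left, mulVec_add, mulVec_add, hg₂e,
        tvGroup_fix hf hg₂ (x := pt e v) (fun w hw => hperp _ (pt_mem_inSub he v) w hw), hg₁e,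
        tvGroup_fix hf hg₁ (x := B) (fun w hw => Unit.eq_zero_comm hf (hperp w hw B hB))] at h1
    set wv : Fin b → F := fun j => f₁ (fun i => z (i, j)) x
    set B := pt x wv with hBdef
    set A := z - B with hAdef
    have hB : B ∈ X := ⟨wv, rfl⟩
    have hA : A ∈ W' := fun j => by
      have e : (fun i => A (i, j)) = (fun i => z (i, j)) - wv j • x := funext fun i => by
        simp [hAdef, hBdef, pt, mul_comm]
      rw [e, mem_perpIn]
      exact ⟨E.sub_mem (hz j) (E.smul_mem _ hx), by
        rw [Unit.sub_left hf₁, hf₁.smul_left, hxx, mul_one, sub_self]⟩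
    have hzAB : z = A + B := by rw [hAdef, sub_add_cancel]
    clear_value A B
    have hBA : ∀ A ∈ W', ∀ B ∈ X, f B A = 0 := fun A hA B hB => Unit.eq_zero_comm hf (hperp A hA B hB)
    have hsum : f A A + f B B = 0 := by
      rw [← hzz, hzAB, hf.add_left, Unit.add_right hf, Unit.add_right hf, hperp A hA B hB,
        hBA A hA B hB]
      ring
    by_cases hs : f A A = 0
    · rw [hzAB]
      exact hbase A hA B hB hs (by rwa [hs, zero_add] at hsum)
    set s := f A A
    have hσs : σ s = s := Unit.self_fixed hf A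
    obtain ⟨x₀, hx₀⟩ := Unit.exists_trace_eq hf hσs
    obtain ⟨τ, hτ0, hτ⟩ := Unit.exists_trace_zero hf.ne_refl hf.involutive
    have hA0 : A ≠ 0 := fun e => hs (by show f A A = 0; rw [e, Unit.zero_left hf])
    have hd2 : 2 ≤ finrank F W' := by
      obtain ⟨⟨i, j⟩, hij⟩ := Function.ne_iff.1 hA0
      set e := fun i => A (i, j)
      have he0 : e ≠ 0 := fun h => hij (congrFun h i)
      have hle : LinearMap.range (ptL (b := b) e) ≤ W' := by
        rintro _ ⟨w, rfl⟩; exact pt_mem_inSub (hA j) w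
      have h1 := Submodule.finrank_mono hle
      rw [LinearMap.finrank_range_of_inj, finrank_fin_fun] at h1
      · omega
      · intro w w' hww
        obtain ⟨η, hη⟩ := exists_sum_dot he0
        have := congrArg (lcon η) hww
        rwa [ptL_apply, ptL_apply, lcon_pt, lcon_pt, hη, one_smul, one_smul] at this
    obtain ⟨r, hr, hrr, hAr⟩ := exists_iso_value hf hW'n hd2 hA hs x₀
    have hBB : f B B = -s := by linear_combination hsum
    obtain ⟨r', hr', hr'r', hBr'⟩ := exists_iso_value hf hXn (by omega) hB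
      (by rw [hBB]; exact neg_ne_zero.2 hs) (σ (-x₀ + τ))
    have hr'B : f r' B = -x₀ + τ := by rw [hf.herm, hBr', hf.involutive]
    have hrA : f r A = σ x₀ := by rw [hf.herm, hAr]
    have ha0 : f (A - r) (A - r) = 0 := by
      rw [Unit.sub_left hf, Unit.sub_right hf, Unit.sub_right hf, hrr, hAr, hrA]
      linear_combination -hx₀
    have hb0 : f (B - r') (B - r') = 0 := by
      rw [Unit.sub_left hf, Unit.sub_right hf, Unit.sub_right hf, hr'r', hBr', hr'B, hBB, map_add,
        map_neg, hτ]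
      linear_combination hx₀
    have hq := hbase (A - r) (W'.sub_mem hA hr) r' hr' ha0 hr'r'
    have hp := hbase r hr (B - r') (X.sub_mem hB hr') hrr hb0
    have hzqp : z = (A - r + r') + (r + (B - r')) := by rw [hzAB]; abel
    rw [hzqp]
    refine hp.add H hq ?_ (by rw [← hzqp]; exact hzz)
    rw [hf.add_left, Unit.add_right hf, Unit.add_right hf, hperp _ (W'.sub_mem hA hr) _ (X.sub_mem hB hr'),
      hBA r hr r' hr', Unit.sub_left hf, hAr, hrr, Unit.sub_right hf, hr'B, hr'r']
    rwa [show x₀ - 0 + 0 + (0 + (-x₀ + τ - 0)) = τ by ring]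

/-- A point transvection makes `M` the whole special unitary group. -/
theorem iso_inf_sl_le_of_point {u : Fin a → F} {v : Fin b → F} {c : F} (hu : u ≠ 0) (hv : v ≠ 0)
    (huu : f₁ u u = 0) (hvv : f₂ v v = 0) (hc0 : c ≠ 0) (hc : σ c = -c)
    (hM : Unit.uTv H.pair.hf (pt u v) c ∈ M) :
    Unit.isoOf f ⊓ specialLinear (Fin a × Fin b) F ≤ M := by
  have P := H.pair
  have hall := centre_inSub H (fun x {v'} hv' => centre_pure H
    (fun {u'} {v''} h1 h2 => centre_iso_pure H hu hv huu hvv hc0 hc hM h1 h2) x hv')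
    _ ⊤ le_rfl (nondeg_top P.hf₁)
  refine Unit.iso_inf_sl_le P.hf (by
    simp only [Fintype.card_prod, Fintype.card_fin]
    have := P.two_le; have := P.five_le
    nlinarith) fun z c hz hc => (hall z (fun _ => Submodule.mem_top) hz).2 c hc

end CfsgLib.ClassicalMax.UnitTens
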