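/-
Stabilisers of tensor products of unitary forms are maximal in the special unitary group.
-/
import Cfsg.Agent.Lib.ClassicalMax.UnitTens.GenAll
import Cfsg.Agent.Lib.ClassicalMax.TensorSympMax
import Cfsg.Agent.Lib.ClassicalMax.UnitStd
set_option autoImplicit false
set_option linter.unusedSectionVars false

namespace CfsgLib.ClassicalMax.UnitTens

open Matrix Kronecker Module Cfsg.Geo
open CfsgLib.ClassicalMax
open CfsgLib.ClassicalMax.Kron
open CfsgLib.ClassicalMax.TensorSymp (coord coord_apply)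
open CfsgLib.ClassicalMax.TensorSL (InH inH_iff)

variable {F : Type*} [Field F] [DecidableEq F] [Fintype F] {a b : ℕ} {σ : F ≃+* F}

/-- The action of an element on a vector. -/
local notation:80 g:81 " •ᵥ " z:80 => Matrix.mulVec (Units.val g) z

section

variable {f : (Fin a × Fin b → F) → (Fin a × Fin b → F) → F}
  {f₁ : (Fin a → F) → (Fin a → F) → F} {f₂ : (Fin b → F) → (Fin b → F) → F}
  (P : Pair σ f f₁ f₂)
include P

/-- A special isometry which is not a tensor. -/
lemma exists_not_inH : ∃ h ∈ Unit.isoOf f ⊓ specialLinear (Fin a × Fin b) F, ¬ InH h := by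
  obtain ⟨v, -, hv, hvv⟩ := Unit.exists_isotropic_mem P.hf₂ (W := ⊤) (by
    rw [finrank_top, finrank_fin_fun]; have := P.five_le; omega)
  obtain ⟨⟨x, hx⟩, -⟩ := exists_vec P
  obtain ⟨τ, hτ0, hτ⟩ := Unit.exists_trace_zero P.hf.ne_refl P.hf.involutive
  set p := pt x v
  have hp : f p p = 0 := by rw [P.form_pt, hvv, mul_zero]
  refine ⟨Unit.uTv P.hf p τ, ⟨Unit.uTv_mem_isoOf P.hf hp hτ, Unit.uTv_mem_sl _ _ _⟩, ?_⟩
  rintro ⟨A, B, hAB⟩
  have hz : ∀ z, kronGL A B •ᵥ z - z ∈ Submodule.span F {p} := fun z => by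
    rw [← hAB, Unit.uTv_mulVec P.hf hp, add_sub_cancel_left]
    exact Submodule.smul_mem _ _ (Submodule.mem_span_singleton_self p)
  obtain ⟨c, hc⟩ := TensorSL.exists_scalar (slHyp P)
    ((finrank_span_le_card _).trans (by simpa using P.two_le.trans' one_le_two)) hz
  obtain ⟨y, hy⟩ : ∃ y : Fin a → F, y ∉ Submodule.span F {x} := by
    by_contra hcon
    push Not at hcon
    have := finrank_span_singleton (K := F) hx
    rw [Submodule.eq_top_iff'.2 hcon, finrank_top, finrank_fin_fun] at this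
    have := P.two_le
    omega
  have hpt : ∀ u w, kronGL A B •ᵥ pt u w - pt u w = pt u (c • (B •ᵥ w) - w) := fun u w => by
    rw [kronGL_pt, hc, pt_smul_left, pt_sub_right, pt_smul_right]
  have hB : ∀ w, c • (B •ᵥ w) - w = 0 := fun w => by
    by_contra hne
    obtain ⟨t, ht⟩ := Submodule.mem_span_singleton.1 (hz (pt y w))
    rw [hpt] at ht
    obtain ⟨η, h1, h2⟩ := exists_dot_eq hy
    have := congrArg (TensorSL.lcon η) ht
    rw [map_smul, TensorSL.lcon_pt, TensorSL.lcon_pt, h1, h2, zero_smul, smul_zero, one_smul] at this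
    exact hne this.symm
  obtain ⟨x', -, hx'⟩ := exists_pair_one P.hf₁ (nondeg_top P.hf₁) (Submodule.mem_top (x := x)) hx
  obtain ⟨v', -, -, hv'v, -⟩ :=
    exists_partner P.hf₂ (nondeg_top P.hf₂) (Submodule.mem_top (x := v)) hv hvv
  have h3 := Unit.uTv_mulVec P.hf hp τ (pt x' v')
  rw [hAB, P.form_pt, hx', hv'v, one_mul, mul_one, ← sub_eq_iff_eq_add', hpt, hB, pt_zero_right] at h3
  exact smul_ne_zero hτ0 (pt_ne_zero hx hv) h3.symm

end

/-- Stabilisers of tensor products of unitary forms are maximal in the special unitary group. -/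
theorem unit_tensor_maximal {ι : Type} [Fintype ι] [DecidableEq ι] {f : (ι → F) → (ι → F) → F}
    (hf : IsUnitaryForm σ f) (e : ι ≃ Fin a × Fin b) (P : GL ι F)
    {f₁ : (Fin a → F) → (Fin a → F) → F} {f₂ : (Fin b → F) → (Fin b → F) → F}
    (hf₁ : IsUnitaryForm σ f₁) (hf₂ : IsUnitaryForm σ f₂) {c : F} (hc0 : c ≠ 0)
    (hform : ∀ u u' w w',
      f (Tensor.pureL e P u w) (Tensor.pureL e P u' w') = c * (f₁ u u' * f₂ w w'))
    (ha : 2 ≤ a) (hab : a < b) (hb5 : 4 ≤ b)
    (hex : 3 ≤ a ∨ ∃ ρ : F, σ ρ = ρ ∧ ρ ≠ 0 ∧ ρ ≠ 1) :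
    IsMaximalIn (Unit.isoOf f ⊓ specialLinear ι F)
      (tensorProductSubgroup a b e P ⊓ (Unit.isoOf f ⊓ specialLinear ι F)) := by
  classical
  set L := coord e P
  let f₀ : (Fin a × Fin b → F) → (Fin a × Fin b → F) → F := fun z z' => f (L z) (L z')
  have hf₀ : IsUnitaryForm σ f₀ :=
    { ne_refl := hf.ne_refl
      involutive := hf.involutive
      add_left := fun x y v => by simp only [f₀, map_add, hf.add_left]
      smul_left := fun d x v => by simp only [f₀, map_smul, hf.smul_left]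
      herm := fun v w => hf.herm _ _
      nondegenerate := fun v hv => by
        obtain ⟨⟨x, hx⟩, ⟨y, hy⟩⟩ := hf.nondegenerate (L v) (fun h => hv (L.map_eq_zero_iff.1 h))
        exact ⟨⟨L.symm x, by simpa [f₀] using hx⟩, ⟨L.symm y, by simpa [f₀] using hy⟩⟩ }
  have hLpt : ∀ x w, L (pt x w) = Tensor.pureL e P x w := fun x w => by
    rw [coord_apply, Tensor.pureL_eq]; rfl
  have hσc : σ c = c := by
    obtain ⟨x, -, hx⟩ := Unit.exists_value_in hf₁ (nondeg_top hf₁) (K := ⊤) le_rfl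
      (by rw [finrank_top, finrank_fin_fun]; omega) (s := (1 : F)) (map_one σ)
    obtain ⟨w, -, hw⟩ := Unit.exists_value_in hf₂ (nondeg_top hf₂) (K := ⊤) le_rfl
      (by rw [finrank_top, finrank_fin_fun]; omega) (s := (1 : F)) (map_one σ)
    have h := hform x x w w
    rw [hx, hw, mul_one, mul_one] at h
    rw [← h, Unit.self_fixed hf]
  have hf₁' : IsUnitaryForm σ fun u v => c * f₁ u v :=
    { ne_refl := hf.ne_refl
      involutive := hf.involutive
      add_left := fun x y v => by simp only [hf₁.add_left, mul_add]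
      smul_left := fun d x v => by simp only [hf₁.smul_left, mul_left_comm]
      herm := fun v w => by simp only [map_mul, hσc]; rw [← hf₁.herm]
      nondegenerate := fun v hv => by
        obtain ⟨⟨x, hx⟩, ⟨y, hy⟩⟩ := hf₁.nondegenerate v hv
        exact ⟨⟨x, mul_ne_zero hc0 hx⟩, ⟨y, mul_ne_zero hc0 hy⟩⟩ }
  have hP : Pair σ f₀ (fun u v => c * f₁ u v) f₂ :=
    ⟨hf₀, hf₁', hf₂, fun x x' w w' => by simp only [f₀, hLpt, hform, mul_assoc], ha, hab, hb5⟩
  set Φ : GL (Fin a × Fin b) F ≃* GL ι F := (glReindex e.symm).trans (MulAut.conj P) with hΦ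
  have hΦL : ∀ g z, (Φ g : Matrix ι ι F) *ᵥ L z = L ((g : Matrix _ _ F) *ᵥ z) := fun g z => by
    rw [coord_apply, coord_apply]
    change ((P * glReindex e.symm g * P⁻¹ : GL ι F) : Matrix ι ι F) *ᵥ _ = _
    rw [gl_mulVec_mul, gl_mulVec_mul, gl_inv_mulVec_mulVec]
    congr 1
    show ((g : Matrix (Fin a × Fin b) (Fin a × Fin b) F).submatrix e.symm.symm e.symm.symm) *ᵥ (z ∘ e) = _
    rw [Matrix.submatrix_mulVec_equiv]
    simp [Function.comp_assoc]
  have hdet : ∀ g : GL (Fin a × Fin b) F, Φ g ∈ specialLinear ι F ↔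
      g ∈ specialLinear (Fin a × Fin b) F := by
    intro g
    simp only [specialLinear, MonoidHom.mem_ker, Units.ext_iff, GeneralLinearGroup.val_det_apply,
      Units.val_one]
    have : Matrix.det (Φ g : Matrix ι ι F) = Matrix.det (g : Matrix (Fin a × Fin b) (Fin a × Fin b) F) := by
      rw [hΦ, MulEquiv.trans_apply, MulAut.conj_apply, Units.val_mul, Units.val_mul,
        Matrix.det_units_conj]
      show Matrix.det (Matrix.reindex e.symm e.symm _) = _
      rw [Matrix.det_reindex_self]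
    rw [this]
  have hiso : ∀ g, Φ g ∈ Unit.isoOf f ↔ g ∈ Unit.isoOf f₀ := by
    intro g
    rw [Unit.mem_isoOf, Unit.mem_isoOf]
    refine ⟨fun h z z' => ?_, fun h z z' => ?_⟩
    · show f (L _) (L _) = f (L z) (L z')
      rw [← hΦL, ← hΦL, h]
    · rw [← L.apply_symm_apply z, ← L.apply_symm_apply z', hΦL, hΦL]
      exact h _ _
  have hmem : ∀ g, Φ g ∈ Unit.isoOf f ⊓ specialLinear ι F ↔
      g ∈ Unit.isoOf f₀ ⊓ specialLinear (Fin a × Fin b) F := fun g =>
    and_congr (hiso g) (hdet g)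
  refine isMaximalIn_of inf_le_right ?_ ?_
  · obtain ⟨h, hh, hhn⟩ := exists_not_inH hP
    exact ⟨Φ h, (hmem h).2 hh, fun hm => hhn ((inH_iff e P).1 hm.1)⟩
  intro M hHM hMK g hgM hgH
  set M₀ := M.comap Φ.toMonoidHom with hM₀
  have hle : ∀ k ∈ M₀, k ∈ Unit.isoOf f₀ ⊓ specialLinear (Fin a × Fin b) F :=
    fun k hk => (hmem k).1 (hMK hk)
  have H : Hyp σ f₀ (fun u v => c * f₁ u v) f₂ M₀ :=
    ⟨hP, fun k hk => Unit.mem_isoOf.1 (hle k hk).1, fun k hk => det_of_prod (hle k hk).2,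
      fun A B h1 h2 => hHM ⟨(inH_iff e P).2 ⟨A, B, rfl⟩, (hmem _).2 ⟨h1, by
        simpa [specialLinear, MonoidHom.mem_ker, Units.ext_iff] using h2⟩⟩⟩
  have hg₀ : Φ.symm g ∈ M₀ := by
    rw [hM₀, Subgroup.mem_comap, MulEquiv.coe_toMonoidHom, Φ.apply_symm_apply]; exact hgM
  have hnO : ¬ Only f₂ M₀ := fun hO =>
    hgH ⟨Φ.apply_symm_apply g ▸ (inH_iff e P).2 (inH_of_only H hO hg₀), hMK hgM⟩
  obtain ⟨u, v, d, hu, hv, huu, hvv, hd0, hd, hM⟩ := exists_point_transvection H hex hnO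
  intro y hy
  have := iso_inf_sl_le_of_point H hu hv huu hvv hd0 hd hM ((hmem (Φ.symm y)).1
    (by rw [Φ.apply_symm_apply]; exact hy))
  rwa [hM₀, Subgroup.mem_comap, MulEquiv.coe_toMonoidHom, Φ.apply_symm_apply] at this
where
  det_of_prod {k : GL (Fin a × Fin b) F} (h : k ∈ specialLinear (Fin a × Fin b) F) :
      Matrix.det (k : Matrix (Fin a × Fin b) (Fin a × Fin b) F) = 1 := by
    simpa [specialLinear, MonoidHom.mem_ker, Units.ext_iff] using h

end CfsgLib.ClassicalMax.UnitTens
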